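import Cfsg.Agent.H788.Rl.Aut_m3
import Cfsg.Agent.H609.ClassTwoOut_m3
import Cfsg.Agent.S1059
import Cfsg.Agent.LieRecognition.FieldSemilinear
import Cfsg.Agent.H386.Rg.AlphaA_m3
import Cfsg.Agent.H680.Cov.SU6.Res_m3
import Cfsg.Agent.H884.ElRows_m3
import Cfsg.Agent.H900.SU4.Base
import Cfsg.Agent.S5663
import Cfsg.Agent.H729.CovSU9
import Cfsg.Agent.S0813
import Cfsg.Agent.S0265
import Cfsg.Agent.ClassicalGeometry.PSL2Basic
import Cfsg.Agent.H930.SpOrdC
import Cfsg.Agent.H109.Cov.Types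
import Cfsg.Agent.H325.Same.BigChar_m3
import Cfsg.Agent.S2126
import Cfsg.Agent.H50.HerFinal
import Cfsg.Agent.H341.ThreeList_m3
import Cfsg.Agent.H563.KG.Elim_m3
import Cfsg.Agent.H56.Exc.Auto_m3
import Cfsg.Agent.H325.Same.ExcRow2
import Cfsg.Agent.H325.Same.ExcPairE_m3
import Cfsg.Agent.H264.FKS.Res_m3
import Cfsg.Agent.H290.ElReg
import Cfsg.Agent.H172.TH.Uni_m3
import Cfsg.Agent.H533.Reg.Ev
import Cfsg.Agent.S2148
import Cfsg.Agent.S2150
import Cfsg.Agent.S2151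
import Cfsg.Agent.S2152
import Cfsg.Agent.FastGrp
import Cfsg.Agent.Prune
set_option linter.all false

section
prune_inst 0x7fffadf89bb8b9dfffff7e77a6dccdfc39901fffecdff94bbfe029ef0bdf030009c523a509e000fe0e82421410a878437bffeeffe26bdc7ffffd5ff41ffbee4ff5f7b50851948c340fbc0ff683f0778e7f3fffffffffffffffffffffffffffbeffbfffffffff

-- part: H831/Rl/HerE
section
prune_inst 0x40030440000000000000080012000001000003000000000000000000000004008008840000001020200000000000800010000000200000000000000000000000000000020000000020000000000000000000000000000000000000000000000000000000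
set_option linter.all false
open scoped Cfsg.Agent.FastGrp

-- part: H831/Rl/HerB
section
/-!
# S3691, PSL-6 (helper831): semilinear lifts

* `au e` : the action of `G` on `PSL_n(F)`;  `Rep e x π a σ`, `Lf e X` : the group of the semilinear permutations of `F ^ n`
  inducing the automorphisms of the elements of `X`
* `lift_right` : if `Fac T X Y`, `VStab v ≤ pg e Y`, then every element of `Y` has a lift, which fixes `⟨v⟩`
* `semireg` : `pg e X` is semiregular on the nonzero vectors;  `no_p` : no linear element of order `p` in `Lf e X`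
* `lf_trans` : `Lf e X` is transitive on the points
-/

set_option autoImplicit false

namespace Cfsg.Agent.H831.Rl

open Cfsg Cfsg.Geo Matrix Cfsg.Agent.H454.Reg Cfsg.Agent.H851.Rl
open Cfsg.Agent.H199.PslAut
open Cfsg.Agent.ClassicalGeometry.AutPSL.Root (pr pr_surjective)
open Cfsg.Agent.ClassicalGeometry.AutPSL.Auto (cj fld itr coe_cj coe_itr)
open scoped MatrixGroups

universe u

section lift

variable {G : Type u} [Group G] {T : Subgroup G} {n : ℕ} {F : Type} [Field F]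

/-- the action of `G` on `PSL_n(F)` -/
noncomputable def au (hT : T.Normal) (e : T ≃* Matrix.ProjectiveSpecialLinearGroup (Fin n) F) :
    G →* MulAut (Matrix.ProjectiveSpecialLinearGroup (Fin n) F) :=
  (MulAut.congr e).toMonoidHom.comp (MulAut.conjNormal (H := T))

variable (hT : T.Normal) (e : T ≃* Matrix.ProjectiveSpecialLinearGroup (Fin n) F)

theorem au_apply (g : G) (t : T) : au hT e g (e t) = e ⟨g * t * g⁻¹, hT.conj_mem t t.2 g⟩ := by
  show e (MulAut.conjNormal g (e.symm (e t))) = _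
  rw [e.symm_apply_apply]
  congr 1

theorem au_coe (t : T) : au hT e (t : G) = MulAut.conj (e t) := by
  apply MulEquiv.ext
  intro x
  obtain ⟨s, rfl⟩ := e.surjective x
  rw [au_apply, MulAut.conj_apply, ← map_mul, ← map_inv, ← map_mul]
  congr 1

theorem au_inj (hc : Subgroup.centralizer (T : Set G) = ⊥) : Function.Injective (au hT e) := by
  rw [injective_iff_map_eq_one]
  intro g hg
  have : g ∈ Subgroup.centralizer (T : Set G) := by
    rw [Subgroup.mem_centralizer_iff]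
    intro t ht
    have h1 := au_apply hT e g ⟨t, ht⟩
    rw [hg, MulAut.one_apply] at h1
    have h2 : t = g * t * g⁻¹ := congrArg Subtype.val (e.injective h1)
    exact (eq_mul_inv_iff_mul_eq.1 h2)
  rwa [hc, Subgroup.mem_bot] at this

theorem mem_pg {X : Subgroup G} {s : Matrix.SpecialLinearGroup (Fin n) F} :
    (Matrix.SpecialLinearGroup.toGL s) ∈ pg e X ↔ ∃ t : T, (t : G) ∈ X ∧ e t = pr s := by
  constructor
  · rintro ⟨s', ⟨t, ht, h1⟩, h2⟩
    have h3 := H304.PslT.toGL_injective h2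
    subst h3
    exact ⟨t, ht, h1⟩
  · rintro ⟨t, ht, h1⟩
    exact ⟨s, ⟨t, ht, h1⟩, rfl⟩

theorem exists_sl {x : GL (Fin n) F} (hx : x ∈ specialLinear (Fin n) F) :
    ∃ s : Matrix.SpecialLinearGroup (Fin n) F, Matrix.SpecialLinearGroup.toGL s = x := by
  rw [← H304.PslT.range_toGL] at hx
  exact hx

theorem pg_le {X : Subgroup G} : pg e X ≤ specialLinear (Fin n) F := fun _ hx =>
  H304.PslT.mem_specialLinear_of_mem_pre hx

/-- a linear automorphism induced by an element `x` of `X` -/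
theorem mem_pg_of (hc : Subgroup.centralizer (T : Set G) = ⊥) {X : Subgroup G} {x : G} (hx : x ∈ X) {a : GL (Fin n) F}
    (ha : a ∈ specialLinear (Fin n) F) (h : au hT e x = Psi n F a) : a ∈ pg e X := by
  obtain ⟨s, rfl⟩ := exists_sl ha
  rw [mem_pg]
  refine ⟨e.symm (pr s), ?_, e.apply_symm_apply _⟩
  have h1 : au hT e ((e.symm (pr s) : T) : G) = au hT e x := by
    rw [au_coe, e.apply_symm_apply, h]
    exact (Psi_coe s).symm
  rw [au_inj hT e hc h1]
  exact hx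

/-- the elements normalising `X ∩ T` -/
theorem pg_conj {X : Subgroup G} {g : G} (hg : g ∈ X) {α : MulAut (Matrix.SpecialLinearGroup (Fin n) F)}
    (hα : ∀ s, au hT e g (pr s) = pr (α s)) {s : Matrix.SpecialLinearGroup (Fin n) F}
    (hs : Matrix.SpecialLinearGroup.toGL s ∈ pg e X) : Matrix.SpecialLinearGroup.toGL (α s) ∈ pg e X := by
  rw [mem_pg] at hs ⊢
  obtain ⟨t, ht, h1⟩ := hs
  refine ⟨⟨g * t * g⁻¹, hT.conj_mem t t.2 g⟩, X.mul_mem (X.mul_mem hg ht) (X.inv_mem hg), ?_⟩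
  rw [← au_apply hT, h1, hα]

/-- `π w = a σ(w)` induces the automorphism of `x` -/
structure Rep (x : G) (π : Equiv.Perm (Fin n → F)) (a : GL (Fin n) F) (σ : F ≃+* F) : Prop where
  au_eq : au hT e x = Psi n F a * phi n F σ
  eq : ∀ w : Fin n → F, π w = (a : Matrix (Fin n) (Fin n) F) *ᵥ (fun i => σ (w i))

theorem map_mulVec' (σ : F ≃+* F) (a : GL (Fin n) F) (w : Fin n → F) :
    (fun i => σ (((a : Matrix (Fin n) (Fin n) F) *ᵥ w) i)) =
      (mapGL σ a : Matrix (Fin n) (Fin n) F) *ᵥ (fun i => σ (w i)) := by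
  funext i
  exact RingHom.map_mulVec (σ : F →+* F) _ _ i

theorem perm_inj (a : GL (Fin n) F) : Function.Injective fun w : Fin n → F => (a : Matrix (Fin n) (Fin n) F) *ᵥ w := by
  intro u w h
  have h2 : ((a⁻¹ : GL (Fin n) F) : Matrix (Fin n) (Fin n) F) *ᵥ ((a : Matrix (Fin n) (Fin n) F) *ᵥ u) =
      ((a⁻¹ : GL (Fin n) F) : Matrix (Fin n) (Fin n) F) *ᵥ ((a : Matrix (Fin n) (Fin n) F) *ᵥ w) :=
    congrArg (((a⁻¹ : GL (Fin n) F) : Matrix (Fin n) (Fin n) F) *ᵥ ·) h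
  rwa [mulVec_mulVec, mulVec_mulVec, ← Units.val_mul, inv_mul_cancel, Units.val_one, one_mulVec, one_mulVec] at h2

variable {hT e}

theorem Rep.one : Rep hT e 1 1 1 1 :=
  ⟨by rw [map_one, map_one, map_one, mul_one], fun w => by
    rw [Units.val_one, one_mulVec]; rfl⟩

theorem Rep.mul {x y : G} {π ρ : Equiv.Perm (Fin n → F)} {a b : GL (Fin n) F} {σ τ : F ≃+* F}
    (h : Rep hT e x π a σ) (k : Rep hT e y ρ b τ) : Rep hT e (x * y) (π * ρ) (a * mapGL σ b) (σ * τ) := by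
  refine ⟨?_, fun w => ?_⟩
  · rw [map_mul, h.au_eq, k.au_eq, map_mul, map_mul, mul_assoc, mul_assoc, ← mul_assoc (phi n F σ), phi_mul_Psi, mul_assoc]
  · rw [Equiv.Perm.mul_apply, k.eq, h.eq, map_mulVec', mulVec_mulVec, ← Units.val_mul]
    rfl

theorem Rep.inv {x : G} {π : Equiv.Perm (Fin n → F)} {a : GL (Fin n) F} {σ : F ≃+* F}
    (h : Rep hT e x π a σ) : Rep hT e x⁻¹ π⁻¹ (mapGL σ⁻¹ a⁻¹) σ⁻¹ := by
  refine ⟨?_, fun w => ?_⟩
  · rw [map_inv, h.au_eq, _root_.mul_inv_rev, ← map_inv, ← map_inv, phi_mul_Psi]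
  · rw [Equiv.Perm.inv_eq_iff_eq, h.eq, map_mulVec', mulVec_mulVec, ← Units.val_mul]
    have h1 : a * mapGL σ (mapGL σ⁻¹ a⁻¹) = 1 := by
      have h2 : mapGL σ (mapGL σ⁻¹ a⁻¹) = a⁻¹ := by
        apply Units.ext
        rw [coe_mapGL, coe_mapGL]
        ext i j
        exact σ.apply_symm_apply _
      rw [h2, mul_inv_cancel]
    rw [h1, Units.val_one, one_mulVec]
    funext i
    exact (σ.apply_symm_apply _).symm

theorem Rep.add {x : G} {π : Equiv.Perm (Fin n → F)} {a : GL (Fin n) F} {σ : F ≃+* F}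
    (h : Rep hT e x π a σ) (u w : Fin n → F) : π (u + w) = π u + π w := by
  rw [h.eq, h.eq, h.eq, ← mulVec_add]
  congr 1
  funext i
  exact map_add σ _ _

theorem Rep.smul {x : G} {π : Equiv.Perm (Fin n → F)} {a : GL (Fin n) F} {σ : F ≃+* F}
    (h : Rep hT e x π a σ) (c : F) (w : Fin n → F) : π (c • w) = σ c • π w := by
  rw [h.eq, h.eq, ← mulVec_smul]
  congr 1
  funext i
  exact map_mul σ _ _

/-- the element is determined by its lift -/
theorem Rep.unique (hc : Subgroup.centralizer (T : Set G) = ⊥) (hn : 0 < n) {x y : G}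
    {π : Equiv.Perm (Fin n → F)} {a b : GL (Fin n) F} {σ τ : F ≃+* F}
    (h : Rep hT e x π a σ) (k : Rep hT e y π b τ) : x = y ∧ a = b ∧ σ = τ := by
  have hne : (Pi.single ⟨0, hn⟩ 1 : Fin n → F) ≠ 0 := by
    intro h0
    have := congrFun h0 ⟨0, hn⟩
    rw [Pi.single_eq_same, Pi.zero_apply] at this
    exact one_ne_zero this
  have hπ : π (Pi.single ⟨0, hn⟩ 1) ≠ 0 := by
    rw [h.eq]
    intro h0
    apply hne
    have h1 := perm_inj a (a₁ := fun i => σ ((Pi.single ⟨0, hn⟩ 1 : Fin n → F) i)) (a₂ := 0) (by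
      show _ = (a : Matrix (Fin n) (Fin n) F) *ᵥ 0
      rw [mulVec_zero]; exact h0)
    funext i
    have h2 := congrFun h1 i
    exact (map_eq_zero_iff σ σ.injective).1 h2
  have hσ : σ = τ := by
    apply RingEquiv.ext
    intro c
    have h1 := h.smul c (Pi.single ⟨0, hn⟩ 1)
    rw [k.smul] at h1
    exact (smul_left_injective F hπ h1).symm
  subst hσ
  have hab : a = b := by
    apply Units.ext
    ext i j
    have h1 := h.eq (Pi.single j 1)
    rw [k.eq] at h1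
    have h2 : (fun i => σ ((Pi.single j 1 : Fin n → F) i)) = Pi.single j 1 := by
      funext l
      by_cases hl : l = j
      · subst hl
        rw [Pi.single_eq_same, map_one]
      · rw [Pi.single_eq_of_ne hl, map_zero]
    rw [h2, mulVec_single_one, mulVec_single_one] at h1
    exact (congrFun h1 i).symm
  subst hab
  refine ⟨au_inj hT e hc ?_, rfl, rfl⟩
  rw [h.au_eq, k.au_eq]

/-- the lift is determined up to scalars -/
theorem Rep.unique' (hn : 2 ≤ n) {x : G}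
    {π ρ : Equiv.Perm (Fin n → F)} {a b : GL (Fin n) F} {σ τ : F ≃+* F}
    (h : Rep hT e x π a σ) (k : Rep hT e x ρ b τ) : σ = τ ∧ ∃ c : F, c ≠ 0 ∧ ∀ w, π w = c • ρ w := by
  have h1 : Psi n F (b⁻¹ * a) * phi n F (σ * τ⁻¹) = 1 := by
    have h2 := h.au_eq
    rw [k.au_eq] at h2
    rw [map_mul, map_mul, map_inv, map_inv]
    have h3 : (Psi n F b)⁻¹ * Psi n F a * (phi n F σ * (phi n F τ)⁻¹) =
        (Psi n F b)⁻¹ * (Psi n F a * phi n F σ) * (phi n F τ)⁻¹ := by group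
    rw [h3, ← h2]
    group
  obtain ⟨⟨u, hu⟩, h3⟩ := Psi_phi_eq (n := n) (F := F) hn (g := b⁻¹ * a) (σ := σ * τ⁻¹) (τ := 1) (by rw [h1, map_one])
  have h4 : σ = τ := by
    rw [mul_inv_eq_one] at h3
    exact h3
  refine ⟨h4, (u : F), u.ne_zero, fun w => ?_⟩
  have h5 : a = b * scal n F u := by rw [← hu, mul_inv_cancel_left]
  rw [h.eq, k.eq, h4, h5, Units.val_mul, ← mulVec_mulVec, coe_scal, ← mulVec_smul]
  congr 1
  rw [Matrix.scalar_apply, ← Matrix.smul_one_eq_diagonal, smul_mulVec, one_mulVec]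

/-- scalar lifts of `1` -/
theorem Rep.scal (u : Fˣ) : ∃ π : Equiv.Perm (Fin n → F), Rep hT e 1 π (scal n F u) 1 ∧
    ∀ w, π w = (u : F) • w := by
  refine ⟨⟨fun w => (u : F) • w, fun w => (u : F)⁻¹ • w, fun w => ?_, fun w => ?_⟩, ⟨?_, fun w => ?_⟩, fun w => rfl⟩
  · show (u : F)⁻¹ • ((u : F) • w) = w
    rw [smul_smul, inv_mul_cancel₀ u.ne_zero, one_smul]
  · show (u : F) • ((u : F)⁻¹ • w) = w
    rw [smul_smul, mul_inv_cancel₀ u.ne_zero, one_smul]
  · rw [map_one, Psi_scal, map_one, mul_one]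
  · show (u : F) • w = _
    rw [coe_scal, Matrix.scalar_apply, ← Matrix.smul_one_eq_diagonal, smul_mulVec, one_mulVec]
    rfl

variable (hT e)

/-- every element inducing a semilinear automorphism has a lift -/
theorem exists_rep {x : G} {a : GL (Fin n) F} {σ : F ≃+* F} (h : au hT e x = Psi n F a * phi n F σ) :
    ∃ π, Rep hT e x π a σ := by
  refine ⟨⟨fun w => (a : Matrix (Fin n) (Fin n) F) *ᵥ (fun i => σ (w i)),
    fun w => fun i => σ.symm ((((a⁻¹ : GL (Fin n) F) : Matrix (Fin n) (Fin n) F) *ᵥ w) i), fun w => ?_, fun w => ?_⟩,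
    h, fun w => rfl⟩
  · funext i
    show σ.symm ((((a⁻¹ : GL (Fin n) F) : Matrix (Fin n) (Fin n) F) *ᵥ
      ((a : Matrix (Fin n) (Fin n) F) *ᵥ (fun i => σ (w i)))) i) = w i
    rw [mulVec_mulVec, ← Units.val_mul, inv_mul_cancel, Units.val_one, one_mulVec, σ.symm_apply_apply]
  · show (a : Matrix (Fin n) (Fin n) F) *ᵥ (fun i => σ (σ.symm
      ((((a⁻¹ : GL (Fin n) F) : Matrix (Fin n) (Fin n) F) *ᵥ w) i))) = w
    simp only [σ.apply_symm_apply]
    rw [mulVec_mulVec, ← Units.val_mul, mul_inv_cancel, Units.val_one, one_mulVec]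

/-- the group of lifts of the elements of `X` -/
def Lf (X : Subgroup G) : Subgroup (Equiv.Perm (Fin n → F)) where
  carrier := {π | ∃ x ∈ X, ∃ a σ, Rep hT e x π a σ}
  one_mem' := ⟨1, X.one_mem, 1, 1, Rep.one⟩
  mul_mem' := by
    rintro π ρ ⟨x, hx, a, σ, h⟩ ⟨y, hy, b, τ, k⟩
    exact ⟨x * y, X.mul_mem hx hy, _, _, h.mul k⟩
  inv_mem' := by
    rintro π ⟨x, hx, a, σ, h⟩
    exact ⟨x⁻¹, X.inv_mem hx, _, _, h.inv⟩

end lift

section fac

variable {G : Type u} [Group G] [Finite G] {T : Subgroup G} {n : ℕ} {F : Type} [Field F] [Fintype F]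
  {e : T ≃* Matrix.ProjectiveSpecialLinearGroup (Fin n) F} {X Y : Subgroup G} {v : Fin n → F}

omit [Finite G] [Fintype F] in
theorem ne_sl (h : ¬ T ≤ Y) : pg e Y ≠ specialLinear (Fin n) F := by
  intro h1
  apply h
  intro t ht
  obtain ⟨s, hs⟩ := pr_surjective (e ⟨t, ht⟩)
  have h2 : Matrix.SpecialLinearGroup.toGL s ∈ pg e Y := by
    rw [h1, ← H304.PslT.range_toGL]
    exact ⟨s, rfl⟩
  obtain ⟨t', ht', h3⟩ := (mem_pg e).1 h2
  have h4 : t' = ⟨t, ht⟩ := e.injective (h3.trans hs)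
  rw [h4] at ht'
  exact ht'

omit [Finite G] in
/-- the lifts of the elements of `Y` -/
theorem lift_right (hn : 3 ≤ n) (hv : v ≠ 0) (hT : T.Normal) (hnot : ¬ T ≤ Y) (hs : VStab v ≤ pg e Y) {y : G}
    (hy : y ∈ Y) : ∃ π a σ, Rep hT e y π a σ ∧ ∃ c : F, c ≠ 0 ∧ π v = c • v := by
  have hfix := fix_of_le hn hv (pg_le e) hs (ne_sl hnot)
  rcases exists_form (by omega : 2 ≤ n) (au hT e y) with ⟨a, σ, h1⟩ | ⟨-, a, σ, h1⟩
  · obtain ⟨π, hπ⟩ := exists_rep hT e h1
    refine ⟨π, a, σ, hπ, ?_⟩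
    set w := π.symm v with hw
    have hπw : π w = v := π.apply_symm_apply v
    obtain ⟨c, hc⟩ := line_of_vstab hn hv (w := w) (by
      intro x hx
      obtain ⟨s, rfl⟩ := exists_sl hx.1
      have h2 := pg_conj hT e hy (α := cj a * fld σ) (s := s) (fun s' => by
        rw [h1]; rfl) (hs hx)
      obtain ⟨c, hc⟩ := hfix _ h2
      refine ⟨σ.symm c, π.injective ?_⟩
      rw [hπ.smul, σ.apply_symm_apply, hπw, ← hc, hπ.eq, map_mulVec', mulVec_mulVec]
      have h3 : (Matrix.SpecialLinearGroup.toGL ((cj a * fld σ : MulAut (Matrix.SpecialLinearGroup (Fin n) F)) s) : Matrix (Fin n) (Fin n) F) =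
          ((a * mapGL σ (Matrix.SpecialLinearGroup.toGL s) * a⁻¹ : GL (Fin n) F) : Matrix (Fin n) (Fin n) F) := rfl
      rw [h3, ← Units.val_mul]
      have h4 : v = (a : Matrix (Fin n) (Fin n) F) *ᵥ (fun i => σ (w i)) := by rw [← hπ.eq, hπw]
      conv_rhs => rw [h4]
      rw [mulVec_mulVec, ← Units.val_mul, inv_mul_cancel_right])
    have h5 : v = σ c • π v := by rw [← hπ.smul, ← hc, hπw]
    have h6 : σ c ≠ 0 := by
      intro h0
      rw [h0, zero_smul] at h5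
      exact hv h5
    refine ⟨(σ c)⁻¹, inv_ne_zero h6, ?_⟩
    conv_rhs => rw [h5]
    rw [smul_smul, inv_mul_cancel₀ h6, one_smul]
  · exfalso
    set w : Fin n → F := fun i => σ.symm ((((a⁻¹ : GL (Fin n) F) : Matrix (Fin n) (Fin n) F) *ᵥ v) i) with hw
    have hσw : (fun i => σ (w i)) = ((a⁻¹ : GL (Fin n) F) : Matrix (Fin n) (Fin n) F) *ᵥ v := by
      funext i
      exact σ.apply_symm_apply _
    clear_value w
    have hw0 : w ≠ 0 := by
      intro h0
      apply hv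
      apply perm_inj a⁻¹
      show ((a⁻¹ : GL (Fin n) F) : Matrix (Fin n) (Fin n) F) *ᵥ v = ((a⁻¹ : GL (Fin n) F) : Matrix (Fin n) (Fin n) F) *ᵥ 0
      rw [mulVec_zero, ← hσw, h0]
      funext i
      exact map_zero σ
    refine no_hyp hn (v := v) (φ := w) hw0 ?_
    intro x hx u hu
    obtain ⟨s, hs'⟩ := exists_sl (inv_mem hx).1
    have h2 := pg_conj hT e hy (α := cj a * fld σ * itr) (s := s) (fun s' => by
      rw [h1]; rfl) (by rw [hs']; exact hs (inv_mem hx))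
    obtain ⟨c, hc⟩ := hfix _ h2
    have h3 : (Matrix.SpecialLinearGroup.toGL ((cj a * fld σ * itr : MulAut (Matrix.SpecialLinearGroup (Fin n) F)) s) :
        Matrix (Fin n) (Fin n) F) =
        ((a * mapGL σ (itGL (Matrix.SpecialLinearGroup.toGL s)) * a⁻¹ : GL (Fin n) F) : Matrix (Fin n) (Fin n) F) := by
      show ((a : Matrix (Fin n) (Fin n) F) * ((itr s : Matrix (Fin n) (Fin n) F)).map (σ : F →+* F) *
        ((a⁻¹ : GL (Fin n) F) : Matrix (Fin n) (Fin n) F)) = _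
      rw [coe_itr, Units.val_mul, Units.val_mul, coe_mapGL, coe_itGL]
      rfl
    rw [h3, hs', Units.val_mul, ← mulVec_mulVec, ← hσw, Units.val_mul, ← mulVec_mulVec, ← map_mulVec'] at hc
    have h4 : (fun i => σ (((itGL x⁻¹ : GL (Fin n) F) : Matrix (Fin n) (Fin n) F).mulVec w i)) = c • (fun i => σ (w i)) := by
      apply perm_inj a
      show (a : Matrix (Fin n) (Fin n) F) *ᵥ _ = (a : Matrix (Fin n) (Fin n) F) *ᵥ (c • _)
      rw [mulVec_smul, hσw, mulVec_mulVec, ← Units.val_mul, mul_inv_cancel, Units.val_one, one_mulVec]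
      exact hc
    have h5 : ((itGL x⁻¹ : GL (Fin n) F) : Matrix (Fin n) (Fin n) F) *ᵥ w = σ.symm c • w := by
      funext i
      apply σ.injective
      have := congrFun h4 i
      rw [this]
      show c * σ (w i) = σ (σ.symm c * w i)
      rw [map_mul, σ.apply_symm_apply]
    rw [coe_itGL, inv_inv, mulVec_transpose] at h5
    rw [dotProduct_mulVec, h5, smul_dotProduct, hu, smul_zero]

omit [Fintype F] in
/-- `pg e X` is semiregular on the nonzero vectors -/
theorem semireg (h : Fac T X Y) (hn : 3 ≤ n) (hs : VStab v ≤ pg e Y) (hv : v ≠ 0) {x : GL (Fin n) F}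
    (hx : x ∈ pg e X) {w : Fin n → F} (hw : w ≠ 0) (hxw : (x : Matrix (Fin n) (Fin n) F) *ᵥ w = w) : x = 1 := by
  obtain ⟨g, hg, hgw⟩ := sl_trans hn hw hv
  have hgi : ((g⁻¹ : GL (Fin n) F) : Matrix (Fin n) (Fin n) F) *ᵥ v = w := by
    rw [← hgw, mulVec_mulVec, ← Units.val_mul, inv_mul_cancel, Units.val_one, one_mulVec]
  obtain ⟨s, rfl⟩ := exists_sl (pg_le e hx)
  obtain ⟨r, rfl⟩ := exists_sl hg
  have h1 : Matrix.SpecialLinearGroup.toGL r * Matrix.SpecialLinearGroup.toGL s * (Matrix.SpecialLinearGroup.toGL r)⁻¹ ∈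
      VStab v := by
    refine ⟨mul_mem (mul_mem hg (pg_le e hx)) (inv_mem hg), ?_⟩
    rw [Units.val_mul, ← mulVec_mulVec, hgi, Units.val_mul, ← mulVec_mulVec, hxw, hgw]
  rw [← map_inv, ← map_mul, ← map_mul] at h1
  obtain ⟨t, ht, h2⟩ := (mem_pg e).1 hx
  obtain ⟨t', ht', h3⟩ := (mem_pg e).1 (hs h1)
  obtain ⟨k, hk⟩ := e.surjective (pr r)
  have h4 : t' = k * t * k⁻¹ := by
    apply e.injective
    rw [h3, map_mul, map_mul, map_inv, map_mul, map_mul, map_inv, h2, hk]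
  have h5 : (t : G) = 1 := h.not_conj ht (k : G) (by
    have : ((k * t * k⁻¹ : T) : G) = (k : G) * t * (k : G)⁻¹ := rfl
    rw [← this, ← h4]
    exact ht')
  have h6 : pr s = 1 := by
    rw [← h2, show t = 1 from Subtype.ext h5, map_one]
  have h7 : s ∈ Subgroup.center (Matrix.SpecialLinearGroup (Fin n) F) := by
    rw [← QuotientGroup.eq_one_iff]
    exact h6
  rw [Matrix.SpecialLinearGroup.mem_center_iff] at h7
  obtain ⟨c, -, hc⟩ := h7
  have h8 : (c : F) • w = w := by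
    rw [← hxw]
    conv_rhs => rw [show ((Matrix.SpecialLinearGroup.toGL s : GL (Fin n) F) : Matrix (Fin n) (Fin n) F) =
      (s : Matrix (Fin n) (Fin n) F) from rfl, ← hc]
    rw [hxw, Matrix.scalar_apply, ← Matrix.smul_one_eq_diagonal, smul_mulVec, one_mulVec]
  have h9 : c = 1 := by
    have h10 : (c - 1) • w = 0 := by rw [sub_smul, one_smul, h8, sub_self]
    rcases smul_eq_zero.1 h10 with h11 | h11
    · exact sub_eq_zero.1 h11
    · exact absurd h11 hw
  apply Units.ext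
  rw [show ((Matrix.SpecialLinearGroup.toGL s : GL (Fin n) F) : Matrix (Fin n) (Fin n) F) =
      (s : Matrix (Fin n) (Fin n) F) from rfl, ← hc, h9, map_one, Units.val_one]

/-- `Lf e X` is transitive on the points -/
theorem lf_trans (h : Fac T X Y) (hn : 3 ≤ n) (hs : VStab v ≤ pg e Y) (hv : v ≠ 0) {u w : Fin n → F} (hu : u ≠ 0)
    (hw : w ≠ 0) : ∃ π ∈ Lf h.normal e X, ∃ c : F, c ≠ 0 ∧ π u = c • w := by
  have key : ∀ w : Fin n → F, w ≠ 0 → ∃ π ∈ Lf h.normal e X, ∃ c : F, c ≠ 0 ∧ π v = c • w := by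
    intro w hw
    obtain ⟨g, hg, hgw⟩ := sl_trans hn hv hw
    obtain ⟨s, rfl⟩ := exists_sl hg
    obtain ⟨t, ht⟩ := e.surjective (pr s)
    obtain ⟨x, hx, y, hy, hxy⟩ := h.exists_mul (t : G)
    obtain ⟨ρ, b, τ, hρ, c, hc0, hc⟩ := lift_right hn hv h.normal h.not_le_right hs (inv_mem hy)
    have h1 : au h.normal e (t : G) = Psi n F (Matrix.SpecialLinearGroup.toGL s) * phi n F 1 := by
      rw [au_coe, ht, map_one, mul_one]
      exact (Psi_coe s).symm
    obtain ⟨π, hπ⟩ := exists_rep h.normal e h1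
    have h2 := hπ.mul hρ
    refine ⟨π * ρ, ⟨t * y⁻¹, ?_, _, _, h2⟩, c, hc0, ?_⟩
    · rw [← hxy, mul_inv_cancel_right]
      exact hx
    · rw [Equiv.Perm.mul_apply, hc, hπ.smul, hπ.eq]
      show c • _ = c • w
      rw [← hgw]
      rfl
  obtain ⟨π, hπ, c, hc0, hc⟩ := key u hu
  obtain ⟨ρ, hρ, d, hd0, hd⟩ := key w hw
  obtain ⟨x, hx, a, σ, hr⟩ := inv_mem hπ
  refine ⟨ρ * π⁻¹, mul_mem hρ (inv_mem hπ), ?_⟩
  have h1 : π⁻¹ u = (σ c)⁻¹ • v := by
    have h2 : π⁻¹ (c • u) = σ c • π⁻¹ u := hr.smul c u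
    rw [← hc, show π⁻¹ (π v) = v from π.symm_apply_apply v] at h2
    have h3 : σ c ≠ 0 := (map_ne_zero_iff σ σ.injective).2 hc0
    rw [h2, smul_smul, inv_mul_cancel₀ h3, one_smul]
  obtain ⟨y, hy, b, τ, hr'⟩ := hρ
  refine ⟨τ ((σ c)⁻¹) * d, mul_ne_zero ?_ hd0, ?_⟩
  · rw [Ne, map_eq_zero_iff τ τ.injective, inv_eq_zero, map_eq_zero_iff σ σ.injective]
    exact hc0
  · rw [Equiv.Perm.mul_apply, h1, hr'.smul, hd, smul_smul]

omit [Fintype F] in
/-- a linear element of order `p` of `Lf e X` is trivial -/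
theorem no_p (h : Fac T X Y) (hn : 3 ≤ n) (hs : VStab v ≤ pg e Y) (hv : v ≠ 0) {p : ℕ} [Fact p.Prime] [CharP F p]
    {π : Equiv.Perm (Fin n → F)} (hπ : π ∈ Lf h.normal e X) (hlin : ∀ (c : F) (w : Fin n → F), π (c • w) = c • π w)
    (hp : π ^ p = 1) : π = 1 := by
  obtain ⟨x, hx, a, σ, hr⟩ := hπ
  have hπv : π v ≠ 0 := by
    have h0 : π 0 = 0 := by
      have := hlin 0 v
      rwa [zero_smul, zero_smul] at this
    intro h1
    exact hv (π.injective (h1.trans h0.symm))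
  have hσ : σ = 1 := by
    apply RingEquiv.ext
    intro c
    have h1 := hr.smul c v
    rw [hlin] at h1
    exact (smul_left_injective F hπv h1).symm
  subst hσ
  have heq : ∀ w, π w = (a : Matrix (Fin n) (Fin n) F) *ᵥ w := hr.eq
  have hpow : ∀ (k : ℕ) (w : Fin n → F), (π ^ k) w = ((a : Matrix (Fin n) (Fin n) F) ^ k) *ᵥ w := by
    intro k
    induction k with
    | zero => intro w; rw [pow_zero, pow_zero, one_mulVec]; rfl
    | succ k ih => intro w; rw [pow_succ, Equiv.Perm.mul_apply, heq, ih, mulVec_mulVec, ← pow_succ]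
  have hap : (a : Matrix (Fin n) (Fin n) F) ^ p = 1 := by
    ext i j
    have h1 := hpow p (Pi.single j 1)
    rw [hp, Equiv.Perm.one_apply, mulVec_single_one] at h1
    have h2 := congrFun h1 i
    rw [Matrix.one_apply]
    have h3 : ((a : Matrix (Fin n) (Fin n) F) ^ p).col j i = ((a : Matrix (Fin n) (Fin n) F) ^ p) i j := rfl
    rw [h3] at h2
    rw [← h2, Pi.single_apply]
  have hdet : (a : Matrix (Fin n) (Fin n) F).det = 1 := by
    have h1 : (a : Matrix (Fin n) (Fin n) F).det ^ p = 1 := by rw [← det_pow, hap, det_one]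
    have h2 : ((a : Matrix (Fin n) (Fin n) F).det - 1) ^ p = 0 := by rw [sub_pow_char, h1, one_pow, sub_self]
    exact sub_eq_zero.1 (pow_eq_zero_iff (Fact.out : p.Prime).ne_zero |>.1 h2)
  have hmem : a ∈ pg e X := by
    refine mem_pg_of h.normal e h.cent hx (mem_sl_iff.2 hdet) ?_
    rw [hr.au_eq, map_one, mul_one]
  have hne : Nonempty (Fin n) := ⟨⟨0, by omega⟩⟩
  have hd0 : ((a : Matrix (Fin n) (Fin n) F) - 1).det = 0 := by
    have : CharP (Matrix (Fin n) (Fin n) F) p := Matrix.charP (n := Fin n) (R := F) p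
    have h1 : ((a : Matrix (Fin n) (Fin n) F) - 1) ^ p = 0 := by
      rw [sub_pow_char_of_commute p (Commute.one_right _), hap, one_pow, sub_self]
    have h2 : ((a : Matrix (Fin n) (Fin n) F) - 1).det ^ p = 0 := by rw [← det_pow, h1, det_zero]
    exact pow_eq_zero_iff (Fact.out : p.Prime).ne_zero |>.1 h2
  obtain ⟨w, hw, hw1⟩ := Matrix.exists_mulVec_eq_zero_iff.2 hd0
  rw [sub_mulVec, one_mulVec, sub_eq_zero] at hw1
  have h1 := semireg h hn hs hv hmem hw hw1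
  apply Equiv.ext
  intro w
  rw [heq, h1, Units.val_one, one_mulVec]
  rfl

end fac

end Cfsg.Agent.H831.Rl
end

-- part: H831/Rl/HerC
section
/-!
# S3691, PSL-6 (helper831): Hering's theorem applied to the group of lifts

* `HAct` : the action form of Hering's theorem (`H667.HerFin.action_of_main`)
* `nat_elt` : in the natural case there is a linear element of order `p`
* `lf_one` : if `Fac T X Y` and `VStab v ≤ pg e Y` then `Lf e X` is a group of semilinear maps of a field with `q ^ n` elements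
-/

set_option autoImplicit false

namespace Cfsg.Agent.H831.Rl

open Cfsg Cfsg.Geo Matrix Cfsg.Agent.H454.Reg Cfsg.Agent.H851.Rl
open Cfsg.Agent.H667.HerFin (ConclTwo NatOut Small)
open scoped MatrixGroups

universe u

/-- the action form of Hering's theorem -/
def HAct : Prop := ∀ {K V : Type} [Field K] [Fintype K] [AddCommGroup V] [Module K V] [Finite V]
    (q n : ℕ) (_ : Fintype.card K = q) (_ : Module.finrank K V = n) (_ : 2 ≤ n)
    (H : Subgroup (Equiv.Perm V)) (_ : ∀ h ∈ H, ∀ v w : V, h (v + w) = h v + h w)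
    (_ : ∀ h ∈ H, ∃ σ : K ≃+* K, ∀ (c : K) (v : V), h (c • v) = σ c • h v)
    (_ : ∀ v w : V, v ≠ 0 → w ≠ 0 → ∃ h ∈ H, ∃ c : K, h v = c • w),
    ConclTwo q n H ∨ NatOut K q n H ∨ _root_.Cfsg.Agent.H667.HerFin.Small q n H

section nat

variable {K V : Type} [Field K] [Fintype K] [AddCommGroup V] [Module K V] [Finite V] {p : ℕ} [Fact p.Prime] [CharP K p]

omit [Fintype K] [Finite V] [Fact p.Prime] in
theorem transv_pow {F₁ : Type} [Field F₁] [Module F₁ V] (f : V →ₗ[F₁] F₁) {a : V} (ha : f a = 0) (h : Equiv.Perm V)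
    (he : ∀ v, h v = v + f v • a) (hp : ∀ v : V, p • v = 0) : h ^ p = 1 := by
  have key : ∀ (k : ℕ) (v : V), (h ^ k) v = v + k • (f v • a) := by
    intro k
    induction k with
    | zero => intro v; rw [pow_zero, zero_smul, add_zero]; rfl
    | succ k ih =>
      intro v
      rw [pow_succ, Equiv.Perm.mul_apply, ih, he, map_add, map_smul, ha, smul_zero, add_zero, succ_nsmul]
      abel
  apply Equiv.ext
  intro v
  rw [key, hp, add_zero]
  rfl

omit [Finite V] in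
/-- in the natural case there is a linear element of order `p` -/
theorem nat_elt [Nontrivial V] [Finite V] {q n : ℕ} (hq : Fintype.card K = q) {H : Subgroup (Equiv.Perm V)}
    (hN : NatOut K q n H) :
    ∃ π ∈ H, π ≠ 1 ∧ (∀ (c : K) (v : V), π (c • v) = c • π v) ∧ π ^ p = 1 := by
  have hpz : ∀ v : V, p • v = 0 := fun v => by
    rw [← Nat.cast_smul_eq_nsmul K, CharP.cast_eq_zero, zero_smul]
  obtain ⟨F₁, _, _, _, φ, b, hφ, h2, hF₁, hb, hsemi, hcase⟩ := hN
  have : Module.Finite F₁ V := Module.Finite.of_finite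
  -- a transvection in `H` is enough
  have key : ∀ (f : V →ₗ[F₁] F₁) (a : V), f a = 0 → (∃ v, f v • a ≠ 0) → ∀ h ∈ H, (∀ v, h v = v + f v • a) →
      ∃ π ∈ H, π ≠ 1 ∧ (∀ (c : K) (v : V), π (c • v) = c • π v) ∧ π ^ p = 1 := by
    intro f a ha hne h hh he
    refine ⟨h, hh, ?_, ?_, transv_pow f ha h he hpz⟩
    · rintro rfl
      obtain ⟨v, hv⟩ := hne
      have := he v
      rw [Equiv.Perm.one_apply] at this
      exact hv (by simpa only [_root_.smul_eq_zero, _root_.left_eq_add] using this)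
    · intro c v
      rw [he, he, hφ c v, hφ c (v + _), map_smul, smul_add, smul_eq_mul, mul_smul]
  obtain ⟨a, ha⟩ := exists_ne (0 : V)
  rcases hcase with h | ⟨f, hf, hfn, h, -⟩ | ⟨hq2, -, h4, f, hf, hfn, -, N, hNn, ⟨eN⟩, hiso⟩
  · have hlt : Submodule.span F₁ ({a} : Set V) < ⊤ := by
      rw [lt_top_iff_ne_top]
      intro ht
      have h3 := finrank_span_singleton (K := F₁) ha
      rw [ht, finrank_top] at h3
      omega
    obtain ⟨f, hf0, hf⟩ := Submodule.exists_le_ker_of_lt_top _ hlt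
    have hfa : f a = 0 := hf (Submodule.mem_span_singleton_self a)
    obtain ⟨π, hπ, he⟩ := h (LinearEquiv.transvection hfa) (LinearEquiv.transvection.det_eq_one hfa)
    refine key f a hfa ?_ π hπ (fun v => by rw [he, LinearEquiv.transvection.apply])
    obtain ⟨v, hv⟩ : ∃ v, f v ≠ 0 := by
      by_contra hcon
      push Not at hcon
      exact hf0 (LinearMap.ext hcon)
    exact ⟨v, smul_ne_zero hv ha⟩
  · have hfa : f.flip a a = 0 := hf a
    obtain ⟨π, hπ, he⟩ := h (LinearEquiv.transvection hfa) (fun u v => by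
      have e1 : ∀ u, (f.flip a) u = f u a := fun _ => rfl
      rw [LinearEquiv.transvection.apply, LinearEquiv.transvection.apply]
      simp only [map_add, map_smul, LinearMap.add_apply, LinearMap.smul_apply, smul_eq_mul, e1]
      have h5 : f a v + f v a = 0 := by
        have h6 := hf (a + v)
        simp only [map_add, LinearMap.add_apply] at h6
        have h7 := hf a
        have h8 := hf v
        linear_combination h6 - h7 - h8
      rw [hf a]
      linear_combination f u a * h5)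
    refine key (f.flip a) a hfa ?_ π hπ (fun v => by rw [he, LinearEquiv.transvection.apply])
    obtain ⟨v, hv⟩ : ∃ v, f v a ≠ 0 := by
      by_contra hcon
      push Not at hcon
      exact ha (hfn.2 a hcon)
    exact ⟨v, smul_ne_zero hv ha⟩
  · have hp2 : p = 2 := by
      obtain ⟨m, -, hm⟩ := FiniteField.card K p
      have h5 : 2 ∣ p ^ (m : ℕ) := by rw [← hm, hq]; exact Nat.dvd_of_mod_eq_zero hq2
      exact ((Nat.prime_dvd_prime_iff_eq Nat.prime_two Fact.out).1 (Nat.prime_two.dvd_of_dvd_pow h5)).symm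
    have h5 : 2 ∣ Nat.card N := by
      rw [Nat.card_congr eN.toEquiv, S1059.result rfl]
      have h6 : 2 ∣ Fintype.card F₁ ^ 6 := by
        rw [hF₁]
        have hb0 : b ≠ 0 := by
          rintro rfl
          rw [pow_zero] at hF₁
          omega
        exact dvd_pow (dvd_pow (Nat.dvd_of_mod_eq_zero hq2) hb0) (by norm_num)
      exact (h6.mul_right _).mul_right _
    have hfin : Finite (Equiv.Perm V) := inferInstance
    obtain ⟨x, hx⟩ := exists_prime_orderOf_dvd_card' 2 h5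
    refine ⟨((x : H) : Equiv.Perm V), (x : H).2, ?_, ?_, ?_⟩
    · intro h0
      have h6 : x = 1 := Subtype.ext (Subtype.ext h0)
      rw [h6, orderOf_one] at hx
      omega
    · obtain ⟨σ, hσ⟩ := hsemi _ (x : H).2
      have hσ1 : ∀ c, σ c = c := by
        intro c
        obtain ⟨u, hu⟩ : ∃ u, f u a ≠ 0 := by
          by_contra hcon
          push Not at hcon
          exact ha (hfn.2 a hcon)
        have h6 := hiso _ x.2 (c • u) a
        rw [hσ, map_smul, LinearMap.smul_apply, map_smul, LinearMap.smul_apply, hiso _ x.2 u a, smul_eq_mul,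
          smul_eq_mul] at h6
        exact mul_right_cancel₀ hu h6
      intro c v
      rw [hφ, hσ, hσ1, ← hφ]
    · rw [hp2]
      have h6 : x ^ 2 = 1 := by rw [← hx]; exact pow_orderOf_eq_one x
      exact congrArg (fun y : N => ((y : H) : Equiv.Perm V)) h6

end nat

section one

variable {G : Type u} [Group G] [Finite G] {T : Subgroup G} {n : ℕ} {F : Type} [Field F] [Fintype F]
  {e : T ≃* Matrix.ProjectiveSpecialLinearGroup (Fin n) F} {X Y : Subgroup G} {v : Fin n → F}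

omit [Finite G] in
theorem card_le_pow (e : T ≃* Matrix.ProjectiveSpecialLinearGroup (Fin n) F) :
    Nat.card T ≤ Fintype.card F ^ (n * n) := by
  classical
  have h1 : Nat.card (Matrix.ProjectiveSpecialLinearGroup (Fin n) F) ≤ Nat.card (Matrix.SpecialLinearGroup (Fin n) F) :=
    Nat.card_le_card_of_surjective _ Cfsg.Agent.ClassicalGeometry.AutPSL.Root.pr_surjective
  have h2 : Nat.card (Matrix.SpecialLinearGroup (Fin n) F) ≤ Nat.card (Matrix (Fin n) (Fin n) F) :=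
    Nat.card_le_card_of_injective (fun s : Matrix.SpecialLinearGroup (Fin n) F => (s : Matrix (Fin n) (Fin n) F))
      Subtype.val_injective
  have h3 : Nat.card (Matrix (Fin n) (Fin n) F) = Fintype.card F ^ (n * n) := by
    show Nat.card (Fin n → Fin n → F) = _
    rw [Nat.card_fun, Nat.card_fun, Nat.card_fin, ← pow_mul, Nat.card_eq_fintype_card]
  rw [Nat.card_congr e.toEquiv]
  omega

/-- **`Lf e X` is a group of semilinear maps of a field with `q ^ n` elements.** -/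
theorem lf_one (hA : HAct) (h : Fac T X Y) (hn : 3 ≤ n) (hs : VStab v ≤ pg e Y) (hv : v ≠ 0) :
    ∃ (F₁ : Type) (_ : Field F₁) (_ : Fintype F₁) (e₁ : (Fin n → F) ≃+ F₁), Fintype.card F₁ = Fintype.card F ^ n ∧
      ∀ π ∈ Lf h.normal e X, ∃ (c : F₁) (σ : F₁ ≃+* F₁), ∀ w, e₁ (π w) = c * σ (e₁ w) := by
  have hpp : (ringChar F).Prime := CharP.char_is_prime F _
  have : Fact (ringChar F).Prime := ⟨hpp⟩
  have hnt : Nontrivial (Fin n → F) := ⟨⟨v, 0, hv⟩⟩
  have hlarge := h.large.trans_le (card_le_pow e)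
  rcases hA (K := F) (V := Fin n → F) (Fintype.card F) n rfl (Module.finrank_fin_fun F) (by omega) (Lf h.normal e X)
    (by rintro π ⟨x, hx, a, σ, hr⟩ u w; exact hr.add u w)
    (by rintro π ⟨x, hx, a, σ, hr⟩; exact ⟨σ, hr.smul⟩)
    (by
      intro u w hu hw
      obtain ⟨π, hπ, c, -, hc⟩ := lf_trans h hn hs hv hu hw
      exact ⟨π, hπ, c, hc⟩) with h1 | h1 | h1
  · exact h1
  · exfalso
    obtain ⟨π, hπ, hne, hlin, hp⟩ := nat_elt (p := ringChar F) rfl h1
    exact hne (no_p h hn hs hv hπ hlin hp)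
  · exfalso
    rcases h1 with ⟨h1, -⟩ | ⟨h1, -⟩ | ⟨h1, h2, -⟩ | ⟨h1, h2, -⟩ | ⟨h1, h2, -⟩ | ⟨h1, h2, -⟩
    · omega
    · omega
    all_goals
      subst h1
      rw [h2] at hlarge
      revert hlarge
      norm_num [Nat.factorial]

end one

end Cfsg.Agent.H831.Rl
end

-- part: H831/Rl/HerD
section
/-!
# S3691, PSL-6a (helper831): `VStab v ≤ pg e H`, `H` maximal: the complement is metacyclic
-/

set_option autoImplicit false

namespace Cfsg.Agent.H831.Rl

open Cfsg Cfsg.Geo Matrix Cfsg.Agent.H454.Reg Cfsg.Agent.H851.Rl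
open Cfsg.Agent.H199.PslAut
open Cfsg.Agent.ClassicalGeometry.AutPSL.Root (pr pr_surjective)
open scoped MatrixGroups

universe u

section semi

variable {V F₁ : Type} [AddCommGroup V] [Field F₁] {e₁ : V ≃+ F₁}

/-- `π` acts on `F₁` as `x ↦ c τ(x)` -/
def SR (e₁ : V ≃+ F₁) (π : Equiv.Perm V) (c : F₁) (τ : F₁ ≃+* F₁) : Prop := ∀ w, e₁ (π w) = c * τ (e₁ w)

theorem SR.ne {π : Equiv.Perm V} {c : F₁} {τ : F₁ ≃+* F₁} (h : SR e₁ π c τ) : c ≠ 0 := by
  rintro rfl
  have h1 := h (e₁.symm 0)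
  have h2 := h (e₁.symm 1)
  rw [zero_mul] at h1 h2
  have h3 := e₁.symm.injective (π.injective (e₁.injective (h1.trans h2.symm)))
  exact zero_ne_one h3

theorem SR.mul {π ρ : Equiv.Perm V} {c d : F₁} {τ μ : F₁ ≃+* F₁} (h : SR e₁ π c τ) (k : SR e₁ ρ d μ) :
    SR e₁ (π * ρ) (c * τ d) (τ * μ) := by
  intro w
  rw [Equiv.Perm.mul_apply, h, k, map_mul, mul_assoc]
  rfl

theorem SR.one : SR e₁ 1 1 1 := by
  intro w
  rw [one_mul]
  rfl

theorem SR.inv {π : Equiv.Perm V} {c : F₁} {τ : F₁ ≃+* F₁} (h : SR e₁ π c τ) :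
    SR e₁ π⁻¹ (τ.symm c⁻¹) τ⁻¹ := by
  intro w
  apply τ.injective
  have h1 := h (π⁻¹ w)
  rw [show π (π⁻¹ w) = w from π.apply_symm_apply w] at h1
  rw [map_mul, τ.apply_symm_apply, show τ (τ⁻¹ (e₁ w)) = e₁ w from τ.apply_symm_apply _, h1, ← mul_assoc,
    inv_mul_cancel₀ h.ne, one_mul]

theorem SR.unique {π : Equiv.Perm V} {c d : F₁} {τ μ : F₁ ≃+* F₁} (h : SR e₁ π c τ) (k : SR e₁ π d μ) :
    c = d ∧ τ = μ := by
  have h1 : c = d := by
    have h2 := h (e₁.symm 1)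
    rw [k, e₁.apply_symm_apply, map_one, map_one, mul_one, mul_one] at h2
    exact h2.symm
  subst h1
  refine ⟨rfl, RingEquiv.ext fun x => ?_⟩
  have h2 := h (e₁.symm x)
  rw [k, e₁.apply_symm_apply] at h2
  exact (mul_left_cancel₀ h.ne h2).symm

end semi

theorem Rep.map0 {G : Type u} [Group G] {T : Subgroup G} {n : ℕ} {F : Type} [Field F] {hT : T.Normal}
    {e : T ≃* Matrix.ProjectiveSpecialLinearGroup (Fin n) F} {x : G} {π : Equiv.Perm (Fin n → F)} {a : GL (Fin n) F}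
    {σ : F ≃+* F} (h : Rep hT e x π a σ) : π 0 = 0 := by
  have := h.smul 0 0
  rwa [zero_smul, map_zero σ, zero_smul] at this

section fac

variable {G : Type u} [Group G] [Finite G] {T : Subgroup G} {n : ℕ} {F : Type} [Field F] [Fintype F]
  {e : T ≃* Matrix.ProjectiveSpecialLinearGroup (Fin n) F} {v : Fin n → F}

omit [Fintype F] in
theorem exists_vstab (hn : 3 ≤ n) (hv : v ≠ 0) : ∃ s : Matrix.SpecialLinearGroup (Fin n) F,
    Matrix.SpecialLinearGroup.toGL s ∈ VStab v ∧ pr s ≠ 1 := by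
  obtain ⟨w, hw, -⟩ := exists_out hn v 0 0
  have hw1 : w ∉ Submodule.span F ({v} : Set (Fin n → F)) := fun h1 => hw
    (Submodule.span_mono (by simp) h1)
  have hw2 : v + w ∉ Submodule.span F ({v} : Set (Fin n → F)) := by
    intro h1
    apply hw1
    have := Submodule.sub_mem _ h1 (Submodule.mem_span_singleton_self v)
    rwa [add_sub_cancel_left] at this
  obtain ⟨x, hx, hxw⟩ := vstab_trans hn hw1 hw2
  obtain ⟨s, rfl⟩ := exists_sl hx.1
  refine ⟨s, hx, fun h6 => ?_⟩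
  have h7 : s ∈ Subgroup.center (Matrix.SpecialLinearGroup (Fin n) F) := by
    rw [← QuotientGroup.eq_one_iff]
    exact h6
  rw [Matrix.SpecialLinearGroup.mem_center_iff] at h7
  obtain ⟨c, -, hc⟩ := h7
  have h8 : ∀ u : Fin n → F, (Matrix.SpecialLinearGroup.toGL s : Matrix (Fin n) (Fin n) F) *ᵥ u = c • u := by
    intro u
    rw [show ((Matrix.SpecialLinearGroup.toGL s : GL (Fin n) F) : Matrix (Fin n) (Fin n) F) =
      (s : Matrix (Fin n) (Fin n) F) from rfl, ← hc, Matrix.scalar_apply, ← Matrix.smul_one_eq_diagonal, smul_mulVec,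
      one_mulVec]
  have h9 := hx.2
  rw [h8] at h9 hxw
  have h10 : c = 1 := by
    have h10 : (c - 1) • v = 0 := by rw [sub_smul, one_smul, h9, sub_self]
    rcases smul_eq_zero.1 h10 with h11 | h11
    · exact sub_eq_zero.1 h11
    · exact absurd h11 hv
  rw [h10, one_smul] at hxw
  exact hv (by simpa using hxw)

omit [Finite G] [Fintype F] in
theorem not_le_B {H B : Subgroup G} (h : Ex T H B) (hn : 3 ≤ n) (hv : v ≠ 0) (hs : VStab v ≤ pg e H) : ¬ T ≤ B := by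
  intro hTB
  obtain ⟨s, hs1, hs2⟩ := exists_vstab hn hv
  obtain ⟨t, ht, h1⟩ := (mem_pg e).1 (hs hs1)
  have h2 : (t : G) ∈ H ⊓ B := ⟨ht, hTB t.2⟩
  rw [h.inf, Subgroup.mem_bot] at h2
  apply hs2
  rw [← h1, show t = 1 from Subtype.ext h2, map_one]

omit [Finite G] in
/-- every element of `G` has a lift -/
theorem all_rep {H B : Subgroup G} (h : Ex T H B) (hn : 3 ≤ n) (hv : v ≠ 0) (hs : VStab v ≤ pg e H) (x : G) :
    ∃ π a σ, Rep h.normal e x π a σ := by
  let G0 : Subgroup G :=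
    { carrier := {x | ∃ π a σ, Rep h.normal e x π a σ}
      one_mem' := ⟨1, 1, 1, Rep.one⟩
      mul_mem' := by
        rintro x y ⟨π, a, σ, h1⟩ ⟨ρ, b, τ, h2⟩
        exact ⟨_, _, _, h1.mul h2⟩
      inv_mem' := by
        rintro x ⟨π, a, σ, h1⟩
        exact ⟨_, _, _, h1.inv⟩ }
  have hH : H ≤ G0 := by
    intro y hy
    obtain ⟨π, a, σ, h1, -⟩ := lift_right hn hv h.normal h.not_le hs hy
    exact ⟨π, a, σ, h1⟩
  have hTG : T ≤ G0 := by
    intro t ht
    obtain ⟨s, hs⟩ := pr_surjective (e ⟨t, ht⟩)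
    have h1 : au h.normal e t = Psi n F (Matrix.SpecialLinearGroup.toGL s) * phi n F 1 := by
      rw [show t = ((⟨t, ht⟩ : T) : G) from rfl, au_coe, ← hs, map_one, mul_one]
      exact (Psi_coe s).symm
    obtain ⟨π, hπ⟩ := exists_rep h.normal e h1
    exact ⟨_, _, _, hπ⟩
  have h1 : G0 = ⊤ := by
    rw [eq_top_iff, ← h.sup_eq]
    exact sup_le hH hTG
  have h2 : x ∈ G0 := by rw [h1]; trivial
  exact h2

omit [Finite G] in
/-- the stabiliser of `⟨v⟩` is `H` -/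
theorem mem_H {H B : Subgroup G} (h : Ex T H B) (hn : 3 ≤ n) (hv : v ≠ 0) (hs : VStab v ≤ pg e H) {x : G}
    {π : Equiv.Perm (Fin n → F)} {a : GL (Fin n) F} {σ : F ≃+* F} (hr : Rep h.normal e x π a σ) {c : F} (hc : c ≠ 0)
    (hπ : π v = c • v) : x ∈ H := by
  let P0 : Subgroup G :=
    { carrier := {x | ∃ π a σ, Rep h.normal e x π a σ ∧ ∃ c : F, c ≠ 0 ∧ π v = c • v}
      one_mem' := ⟨1, 1, 1, Rep.one, 1, one_ne_zero, by rw [one_smul]; rfl⟩
      mul_mem' := by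
        rintro x y ⟨π, a, σ, h1, c, hc, h1'⟩ ⟨ρ, b, τ, h2, d, hd, h2'⟩
        refine ⟨_, _, _, h1.mul h2, σ d * c, mul_ne_zero ((map_ne_zero_iff σ σ.injective).2 hd) hc, ?_⟩
        rw [Equiv.Perm.mul_apply, h2', h1.smul, h1', smul_smul]
      inv_mem' := by
        rintro x ⟨π, a, σ, h1, c, hc, h1'⟩
        refine ⟨_, _, _, h1.inv, (σ.symm c)⁻¹, inv_ne_zero ((map_ne_zero_iff σ.symm σ.symm.injective).2 hc), ?_⟩
        have h2 := h1.inv.smul c v
        rw [← h1', show π⁻¹ (π v) = v from π.symm_apply_apply v] at h2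
        rw [show σ⁻¹ c = σ.symm c from rfl] at h2
        conv_rhs => rw [h2]
        rw [smul_smul, inv_mul_cancel₀ ((map_ne_zero_iff σ.symm σ.symm.injective).2 hc), one_smul] }
  have hH : H ≤ P0 := fun y hy => lift_right hn hv h.normal h.not_le hs hy
  have hne : P0 ≠ ⊤ := by
    intro htop
    obtain ⟨w, hw, -⟩ := exists_out hn v 0 0
    have hw1 : w ∉ Submodule.span F ({v} : Set (Fin n → F)) := fun h1 => hw (Submodule.span_mono (by simp) h1)
    have hw0 : w ≠ 0 := fun h0 => hw (by rw [h0]; exact zero_mem _)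
    obtain ⟨g, hg, hgw⟩ := sl_trans hn hv hw0
    obtain ⟨s, rfl⟩ := exists_sl hg
    obtain ⟨t, ht⟩ := e.surjective (pr s)
    have h1 : au h.normal e (t : G) = Psi n F (Matrix.SpecialLinearGroup.toGL s) * phi n F 1 := by
      rw [au_coe, ht, map_one, mul_one]
      exact (Psi_coe s).symm
    obtain ⟨ρ, hρ⟩ := exists_rep h.normal e h1
    have h2 : (t : G) ∈ P0 := by rw [htop]; trivial
    obtain ⟨π, a, σ, hr, c, hc, hπ⟩ := h2
    obtain ⟨-, d, hd, h3⟩ := hr.unique' (by omega) hρ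
    have h4 : ρ v = w := by
      rw [hρ.eq]
      exact hgw
    rw [h3, h4] at hπ
    apply hw1
    rw [Submodule.mem_span_singleton]
    refine ⟨d⁻¹ * c, ?_⟩
    rw [mul_smul, ← hπ, smul_smul, inv_mul_cancel₀ hd, one_smul]
  have h1 : P0 = H := by
    rcases h.max.le_iff.1 hH with h2 | h2
    · exact absurd h2 hne
    · exact h2
  rw [← h1]
  exact ⟨π, a, σ, hr, c, hc, hπ⟩

/-- `|B| (q - 1) = q ^ n - 1` -/
theorem card_B {H B : Subgroup G} (h : Ex T H B) (hn : 3 ≤ n) (hv : v ≠ 0) (hs : VStab v ≤ pg e H) :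
    Nat.card B * (Fintype.card F - 1) = Fintype.card F ^ n - 1 := by
  classical
  have hf := (h.fac (not_le_B h hn hv hs)).symm
  choose! P A S hP using fun x => all_rep h hn hv hs x
  -- the bijection `B × Fˣ → V \ 0`
  let f : B × Fˣ → {w : Fin n → F // w ≠ 0} := fun z => ⟨(z.2 : F) • P z.1 v, by
    refine smul_ne_zero z.2.ne_zero ?_
    intro h0
    apply hv
    apply (P (z.1 : G)).injective
    rw [h0, (hP (z.1 : G)).map0]⟩
  have hcol : ∀ x y : G, x ∈ B → y ∈ B → ∀ c d : F, c ≠ 0 → d ≠ 0 → c • P x v = d • P y v → x = y := by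
    intro x y hx hy c d hc hd h1
    have h2 := (hP y).inv.mul (hP x)
    have h3 : ((P y)⁻¹ * P x) v = (S y).symm (c⁻¹ * d) • v := by
      rw [Equiv.Perm.mul_apply]
      have h4 : P x v = (c⁻¹ * d) • P y v := by rw [mul_smul, ← h1, smul_smul, inv_mul_cancel₀ hc, one_smul]
      rw [h4, (hP y).inv.smul, show (P y)⁻¹ (P y v) = v from (P y).symm_apply_apply v]
      rfl
    have h4 : y⁻¹ * x ∈ H := mem_H h hn hv hs h2 ((map_ne_zero_iff _ (S y).symm.injective).2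
      (mul_ne_zero (inv_ne_zero hc) hd)) h3
    have h5 : y⁻¹ * x ∈ H ⊓ B := ⟨h4, B.mul_mem (B.inv_mem hy) hx⟩
    rw [h.inf, Subgroup.mem_bot] at h5
    exact (inv_mul_eq_one.1 h5).symm
  have hbij : Function.Bijective f := by
    constructor
    · rintro ⟨⟨x, hx⟩, c⟩ ⟨⟨y, hy⟩, d⟩ h1
      have h2 : (c : F) • P x v = (d : F) • P y v := congrArg Subtype.val h1
      have h3 := hcol x y hx hy c d c.ne_zero d.ne_zero h2
      subst h3
      have h4 : P x v ≠ 0 := by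
        intro h0
        apply hv
        apply (P x).injective
        rw [h0, (hP x).map0]
      have h5 : (c : F) = d := smul_left_injective F h4 h2
      rw [Units.ext h5]
    · rintro ⟨w, hw⟩
      obtain ⟨π, ⟨x, hx, a, σ, hr⟩, c, hc, hπ⟩ := lf_trans hf hn hs hv hv hw
      obtain ⟨-, d, hd, h1⟩ := hr.unique' (by omega) (hP x)
      refine ⟨⟨⟨x, hx⟩, Units.mk0 (c⁻¹ * d) (mul_ne_zero (inv_ne_zero hc) hd)⟩, Subtype.ext ?_⟩
      show (c⁻¹ * d) • P x v = w
      rw [mul_smul, ← h1, hπ, smul_smul, inv_mul_cancel₀ hc, one_smul]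
  have h1 := Nat.card_congr (Equiv.ofBijective f hbij)
  rw [Nat.card_prod, Nat.card_eq_fintype_card (α := Fˣ), Fintype.card_units] at h1
  rw [h1, Nat.card_eq_fintype_card, Fintype.card_subtype_compl, Fintype.card_subtype_eq, Fintype.card_fun,
    Fintype.card_fin]

/-- **PSL-6a** with Hering's theorem as a hypothesis -/
theorem hering_H' (hA : HAct) {H B : Subgroup G} (h : Ex T H B) (hn : 3 ≤ n) (hv : v ≠ 0) (hs : VStab v ≤ pg e H) :
    Concl B := by
  classical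
  have hf := (h.fac (not_le_B h hn hv hs)).symm
  obtain ⟨F₁, _, _, e₁, -, hsl⟩ := lf_one hA hf hn hs hv
  -- the multiplications
  let D : Subgroup F₁ˣ :=
    { carrier := {c | ∃ b ∈ B, ∃ π a σ, Rep h.normal e b π a σ ∧ SR e₁ π (c : F₁) 1}
      one_mem' := ⟨1, B.one_mem, 1, 1, 1, Rep.one, SR.one⟩
      mul_mem' := by
        rintro c d ⟨x, hx, π, a, σ, h1, h1'⟩ ⟨y, hy, ρ, b, τ, h2, h2'⟩
        exact ⟨x * y, B.mul_mem hx hy, _, _, _, h1.mul h2, h1'.mul h2'⟩
      inv_mem' := by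
        rintro c ⟨x, hx, π, a, σ, h1, h1'⟩
        refine ⟨x⁻¹, B.inv_mem hx, _, _, _, h1.inv, ?_⟩
        have h2 := h1'.inv
        rw [inv_one] at h2
        rw [Units.val_inv_eq_inv_val]
        exact h2 }
  have hD : ∀ c : D, ∃ b : B, ∃ π a σ, Rep h.normal e (b : G) π a σ ∧ SR e₁ π ((c : F₁ˣ) : F₁) 1 := by
    rintro ⟨c, b, hb, h1⟩
    exact ⟨⟨b, hb⟩, h1⟩
  have huniq : ∀ {x y : G} {π ρ : Equiv.Perm (Fin n → F)} {a b : GL (Fin n) F} {σ τ : F ≃+* F} {c : F₁}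
      {μ : F₁ ≃+* F₁}, Rep h.normal e x π a σ → Rep h.normal e y ρ b τ → SR e₁ π c μ → SR e₁ ρ c μ → x = y := by
    intro x y π ρ a b σ τ c μ h1 h2 h3 h4
    have h5 : π = ρ := by
      apply Equiv.ext
      intro w
      apply e₁.injective
      rw [h3, h4]
    subst h5
    exact (h1.unique h.cent (by omega) h2).1
  choose f hfs using hD
  let φ : D →* B :=
    { toFun := f
      map_one' := by
        obtain ⟨π, a, σ, h1, h2⟩ := hfs 1
        exact Subtype.ext (huniq h1 Rep.one h2 SR.one)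
      map_mul' := by
        intro c d
        obtain ⟨π, a, σ, h1, h2⟩ := hfs (c * d)
        obtain ⟨π1, a1, σ1, h3, h4⟩ := hfs c
        obtain ⟨π2, a2, σ2, h5, h6⟩ := hfs d
        exact Subtype.ext (huniq h1 (h3.mul h5) h2 (h4.mul h6)) }
  have hmem : ∀ b : B, b ∈ φ.range ↔ ∃ π a σ, Rep h.normal e (b : G) π a σ ∧ ∃ c : F₁, SR e₁ π c 1 := by
    intro b
    constructor
    · rintro ⟨c, rfl⟩
      obtain ⟨π, a, σ, h1, h2⟩ := hfs c
      exact ⟨π, a, σ, h1, _, h2⟩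
    · rintro ⟨π, a, σ, h1, c, h2⟩
      refine ⟨⟨Units.mk0 c h2.ne, b, b.2, π, a, σ, h1, h2⟩, ?_⟩
      obtain ⟨π', a', σ', h3, h4⟩ := hfs ⟨Units.mk0 c h2.ne, b, b.2, π, a, σ, h1, h2⟩
      exact Subtype.ext (huniq h3 h1 h4 h2)
  have hlift : ∀ b : B, ∃ π a σ, Rep h.normal e (b : G) π a σ ∧ ∃ (c : F₁) (τ : F₁ ≃+* F₁), SR e₁ π c τ := by
    intro b
    obtain ⟨π, a, σ, h1⟩ := all_rep h hn hv hs (b : G)
    obtain ⟨c, τ, h2⟩ := hsl π ⟨b, b.2, a, σ, h1⟩
    exact ⟨π, a, σ, h1, c, τ, h2⟩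
  refine Or.inl ⟨Fintype.card F, n, FiniteField.isPrimePow_card F, card_B h hn hv hs, φ.range, ?_, ?_, ?_⟩
  · refine ⟨fun b hb x => ?_⟩
    rw [hmem] at hb ⊢
    obtain ⟨π, a, σ, h1, c, h2⟩ := hb
    obtain ⟨ρ, a', σ', h3, d, τ, h4⟩ := hlift x
    have h5 := (h4.mul h2).mul h4.inv
    rw [mul_one, mul_inv_cancel] at h5
    exact ⟨_, _, _, (h3.mul h1).mul h3.inv, _, h5⟩
  · have : IsCyclic D := inferInstance
    exact isCyclic_of_surjective _ φ.rangeRestrict_surjective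
  · intro hnorm
    -- the group of the field automorphisms
    let E : Subgroup (F₁ ≃+* F₁) :=
      { carrier := {τ | ∃ b ∈ B, ∃ π a σ, Rep h.normal e b π a σ ∧ ∃ c : F₁, SR e₁ π c τ}
        one_mem' := ⟨1, B.one_mem, 1, 1, 1, Rep.one, 1, SR.one⟩
        mul_mem' := by
          rintro c d ⟨x, hx, π, a, σ, h1, _, h1'⟩ ⟨y, hy, ρ, b, τ, h2, _, h2'⟩
          exact ⟨x * y, B.mul_mem hx hy, _, _, _, h1.mul h2, _, h1'.mul h2'⟩
        inv_mem' := by
          rintro c ⟨x, hx, π, a, σ, h1, _, h1'⟩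
          exact ⟨x⁻¹, B.inv_mem hx, _, _, _, h1.inv, _, h1'.inv⟩ }
    have hcyc : IsCyclic (F₁ ≃+* F₁) := LieRecognition.FieldSemilinear.isCyclic_ringAut F₁
    have hcyc2 : IsCyclic E := inferInstance
    obtain ⟨⟨τ0, b0, hb0, π0, a0, σ0, h1, c0, h2⟩, hgen⟩ := hcyc2.exists_generator
    refine ⟨⟨QuotientGroup.mk (⟨b0, hb0⟩ : B), fun z => ?_⟩⟩
    obtain ⟨b, rfl⟩ := QuotientGroup.mk_surjective z
    obtain ⟨π, a, σ, h3, c, τ, h4⟩ := hlift b
    obtain ⟨k, hk⟩ := hgen ⟨τ, b, b.2, π, a, σ, h3, c, h4⟩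
    have hk' : τ0 ^ k = τ := congrArg Subtype.val hk
    refine ⟨k, ?_⟩
    show (QuotientGroup.mk (⟨b0, hb0⟩ : B) : B ⧸ φ.range) ^ k = QuotientGroup.mk b
    rw [← QuotientGroup.mk_zpow, QuotientGroup.eq, hmem]
    -- powers
    have hpow : ∀ k : ℤ, ∃ π a σ, Rep h.normal e (b0 ^ k) π a σ ∧ ∃ c : F₁, SR e₁ π c (τ0 ^ k) := by
      have hnat : ∀ k : ℕ, ∃ π a σ, Rep h.normal e (b0 ^ k) π a σ ∧ ∃ c : F₁, SR e₁ π c (τ0 ^ k) := by
        intro k
        induction k with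
        | zero =>
          rw [pow_zero, pow_zero]
          exact ⟨1, 1, 1, Rep.one, 1, SR.one⟩
        | succ k ih =>
          obtain ⟨π', a', σ', h5, c', h6⟩ := ih
          rw [pow_succ, pow_succ]
          exact ⟨_, _, _, h5.mul h1, _, h6.mul h2⟩
      intro k
      obtain ⟨m, rfl | rfl⟩ := k.eq_nat_or_neg
      · rw [zpow_natCast, zpow_natCast]
        exact hnat m
      · obtain ⟨π', a', σ', h5, c', h6⟩ := hnat m
        rw [_root_.zpow_neg, _root_.zpow_neg, zpow_natCast, zpow_natCast]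
        exact ⟨_, _, _, h5.inv, _, h6.inv⟩
    obtain ⟨π', a', σ', h5, c', h6⟩ := hpow k
    have h7 := h6.inv.mul h4
    rw [hk', inv_mul_cancel] at h7
    exact ⟨_, _, _, h5.inv.mul h3, _, h7⟩

end fac

end Cfsg.Agent.H831.Rl
end

-- part: H831/Rl/HerE
section
/-!
# S3691, PSL-6b (helper831): `VStab v ≤ pg e B` is impossible
-/

set_option autoImplicit false

namespace Cfsg.Agent.H831.Rl

open Cfsg Cfsg.Geo Matrix Cfsg.Agent.H454.Reg Cfsg.Agent.H851.Rl
open Cfsg.Agent.H199.PslAut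
open Cfsg.Agent.H728.DghpNum (Ppd)
open Cfsg.Agent.ClassicalGeometry.AutPSL.Root (pr pr_surjective)
open scoped MatrixGroups

universe u

section algebra

/-- an isometry of a nondegenerate bilinear form has determinant `± 1` -/
theorem det_mul_det {F V : Type} [Field F] [AddCommGroup V] [Module F V] [FiniteDimensional F V]
    (B : LinearMap.BilinForm F V) (hB : B.Nondegenerate) (f : V →ₗ[F] V) (h : ∀ x y, B (f x) (f y) = B x y) :
    LinearMap.det f * LinearMap.det f = 1 := by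
  classical
  let b := Module.finBasis F V
  have h1 : B.comp f f = B := by
    ext x y
    exact h x y
  have h2 := LinearMap.BilinForm.toMatrix_comp b b B f f
  rw [h1] at h2
  have h3 := congrArg Matrix.det h2
  rw [det_mul, det_mul, det_transpose, LinearMap.det_toMatrix] at h3
  have h4 : (LinearMap.BilinForm.toMatrix b B).det ≠ 0 := (LinearMap.BilinForm.nondegenerate_iff_det_ne_zero b).1 hB
  apply mul_right_cancel₀ h4
  rw [one_mul]
  conv_rhs => rw [h3]
  ring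

/-- the square of the Frobenius has determinant `1` -/
theorem det_frob (F K : Type) [Field F] [Fintype F] [Field K] [Fintype K] [Algebra F K] :
    LinearMap.det ((FiniteField.frobeniusAlgEquivOfAlgebraic F K).toLinearMap) *
      LinearMap.det ((FiniteField.frobeniusAlgEquivOfAlgebraic F K).toLinearMap) = 1 := by
  have : Module.Finite F K := Module.Finite.of_finite
  refine det_mul_det (Algebra.traceForm F K) (traceForm_nondegenerate F K) _ fun x y => ?_
  rw [Algebra.traceForm_apply, Algebra.traceForm_apply]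
  show Algebra.trace F K (FiniteField.frobeniusAlgEquivOfAlgebraic F K x *
    FiniteField.frobeniusAlgEquivOfAlgebraic F K y) = _
  rw [← map_mul]
  exact Algebra.trace_eq_of_algEquiv (FiniteField.frobeniusAlgEquivOfAlgebraic F K) (x * y)

end algebra

section fac

variable {G : Type u} [Group G] [Finite G] {T : Subgroup G} {n : ℕ} {F : Type} [Field F] [Fintype F]
  {e : T ≃* Matrix.ProjectiveSpecialLinearGroup (Fin n) F} {X Y : Subgroup G} {v : Fin n → F}
  {F₁ : Type} [Field F₁] [Fintype F₁] {e₁ : (Fin n → F) ≃+ F₁} {p f r : ℕ}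

omit [Finite G] [Fintype F] in
/-- powers of lifts -/
theorem Rep.pow {hT : T.Normal} {x : G} {π : Equiv.Perm (Fin n → F)} {a : GL (Fin n) F}
    {σ : F ≃+* F} (h : Rep hT e x π a σ) (k : ℕ) : ∃ b, Rep hT e (x ^ k) (π ^ k) b (σ ^ k) := by
  induction k with
  | zero => exact ⟨1, by rw [pow_zero, pow_zero, pow_zero]; exact Rep.one⟩
  | succ k ih =>
    obtain ⟨b, hb⟩ := ih
    rw [pow_succ, pow_succ, pow_succ]
    exact ⟨_, hb.mul h⟩

omit [Fintype F] [Fintype F₁] in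
theorem SR.pow {π : Equiv.Perm (Fin n → F)} {c : F₁} {τ : F₁ ≃+* F₁} (h : SR e₁ π c τ) (k : ℕ) :
    ∃ d, SR e₁ (π ^ k) d (τ ^ k) := by
  induction k with
  | zero => exact ⟨1, by rw [pow_zero, pow_zero]; exact SR.one⟩
  | succ k ih =>
    obtain ⟨b, hb⟩ := ih
    rw [pow_succ, pow_succ]
    exact ⟨_, hb.mul h⟩

omit [Fintype F] [Fintype F₁] in
theorem SR.pow' {π : Equiv.Perm (Fin n → F)} {c : F₁} (h : SR e₁ π c 1) (k : ℕ) :
    SR e₁ (π ^ k) (c ^ k) 1 := by
  induction k with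
  | zero => rw [pow_zero, pow_zero]; exact SR.one
  | succ k ih =>
    rw [pow_succ, pow_succ]
    have h3 : SR e₁ (π ^ k * π) (c ^ k * c) (1 * 1) := ih.mul h
    rwa [one_mul] at h3

/-- a field automorphism of order dividing a large prime is trivial -/
theorem aut_eq_one {K : Type} [Field K] [Fintype K] {p m N r : ℕ} [Fact p.Prime] (hK : Fintype.card K = p ^ m)
    (hP : Ppd p N r) (hm : m ≤ N) {τ : K ≃+* K} (h : τ ^ r = 1) : τ = 1 := by
  have h1 : orderOf τ ∣ r := orderOf_dvd_of_pow_eq_one h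
  rcases (Nat.dvd_prime hP.prime).1 h1 with h2 | h2
  · exact orderOf_eq_one_iff.1 h2
  · exfalso
    have h3 := Cfsg.Agent.H72.Rg.card_ringEquiv_le (F := K) (n := m) (by rw [Nat.card_eq_fintype_card, hK])
    have hfin : Finite (K ≃+* K) := Finite.of_injective (fun σ : K ≃+* K => (σ : K → K)) DFunLike.coe_injective
    have h4 := Nat.le_of_dvd Nat.card_pos (orderOf_dvd_natCard τ)
    have := hP.lt
    omega

omit [Finite G] in
/-- elements of order `r` of `Lf e X` -/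
theorem of_pow_r (hT : T.Normal) (hc : Subgroup.centralizer (T : Set G) = ⊥) [Fact p.Prime] (hn : 3 ≤ n)
    (hF : Fintype.card F = p ^ f) (hf : 0 < f)
    (hF₁ : Fintype.card F₁ = p ^ (n * f)) (hP : Ppd p (n * f) r)
    (hsl : ∀ π ∈ Lf hT e X, ∃ (c : F₁) (σ : F₁ ≃+* F₁), ∀ w, e₁ (π w) = c * σ (e₁ w))
    {π : Equiv.Perm (Fin n → F)} (hπ : π ∈ Lf hT e X) (hr : π ^ r = 1) :
    ∃ a ∈ pg e X, (∀ w, π w = (a : Matrix (Fin n) (Fin n) F) *ᵥ w) ∧ ∃ c : F₁, c ^ r = 1 ∧ SR e₁ π c 1 := by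
  obtain ⟨c, τ, hs⟩ := hsl π hπ
  have hs' : SR e₁ π c τ := hs
  obtain ⟨x, hx, a, σ, hrep⟩ := hπ
  have hτ : τ = 1 := by
    refine aut_eq_one hF₁ hP le_rfl ?_
    obtain ⟨d, hd⟩ := hs'.pow r
    rw [hr] at hd
    exact (hd.unique SR.one).2
  have hσ : σ = 1 := by
    refine aut_eq_one hF hP (by nlinarith only [hn]) ?_
    obtain ⟨b, hb⟩ := hrep.pow r
    rw [hr] at hb
    exact (hb.unique hc (by omega) Rep.one).2.2
  subst hτ hσ
  have heq : ∀ w, π w = (a : Matrix (Fin n) (Fin n) F) *ᵥ w := hrep.eq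
  refine ⟨a, ?_, heq, c, ?_, hs'⟩
  · have hpow : ∀ (k : ℕ) (w : Fin n → F), (π ^ k) w = ((a : Matrix (Fin n) (Fin n) F) ^ k) *ᵥ w := by
      intro k
      induction k with
      | zero => intro w; rw [pow_zero, pow_zero, one_mulVec]; rfl
      | succ k ih => intro w; rw [pow_succ, Equiv.Perm.mul_apply, heq, ih, mulVec_mulVec, ← pow_succ]
    have har : (a : Matrix (Fin n) (Fin n) F) ^ r = 1 := by
      ext i j
      have h1 := hpow r (Pi.single j 1)
      rw [hr, Equiv.Perm.one_apply, mulVec_single_one] at h1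
      have h2 := congrFun h1 i
      rw [Matrix.one_apply]
      have h3 : ((a : Matrix (Fin n) (Fin n) F) ^ r).col j i = ((a : Matrix (Fin n) (Fin n) F) ^ r) i j := rfl
      rw [h3] at h2
      rw [← h2, Pi.single_apply]
    have hdet : (a : Matrix (Fin n) (Fin n) F).det = 1 := by
      have h1 : (a : Matrix (Fin n) (Fin n) F).det ^ r = 1 := by rw [← det_pow, har, det_one]
      have h0 : (a : Matrix (Fin n) (Fin n) F).det ≠ 0 := by
        intro h0
        rw [h0, zero_pow hP.prime.ne_zero] at h1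
        exact zero_ne_one h1
      have h2 : orderOf (a : Matrix (Fin n) (Fin n) F).det ∣ r := orderOf_dvd_of_pow_eq_one h1
      have h3 : orderOf (a : Matrix (Fin n) (Fin n) F).det ∣ Fintype.card F - 1 :=
        orderOf_dvd_of_pow_eq_one (FiniteField.pow_card_sub_one_eq_one _ h0)
      rcases (Nat.dvd_prime hP.prime).1 h2 with h4 | h4
      · exact orderOf_eq_one_iff.1 h4
      · exfalso
        rw [h4, hF, hP.dvd_iff] at h3
        have := Nat.le_of_dvd hf h3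
        nlinarith only [hn, hf, this]
    refine mem_pg_of hT e hc hx (mem_sl_iff.2 hdet) ?_
    rw [hrep.au_eq, map_one, mul_one]
  · have h1 := hs'.pow' r
    rw [hr] at h1
    exact (h1.unique SR.one).1

omit [Finite G] [Fintype F] in
/-- the permutation of an element of `pg e X` -/
theorem pg_perm (hT : T.Normal) {a : GL (Fin n) F} (ha : a ∈ pg e X) :
    ∃ π ∈ Lf hT e X, ∀ w, π w = (a : Matrix (Fin n) (Fin n) F) *ᵥ w := by
  obtain ⟨s, rfl⟩ := exists_sl (pg_le e ha)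
  obtain ⟨t, ht, h1⟩ := (mem_pg e).1 ha
  have h2 : au hT e (t : G) = Psi n F (Matrix.SpecialLinearGroup.toGL s) * phi n F 1 := by
    rw [au_coe, h1, map_one, mul_one]
    exact (Psi_coe s).symm
  obtain ⟨π, hπ⟩ := exists_rep hT e h2
  exact ⟨π, ⟨t, ht, _, _, hπ⟩, hπ.eq⟩

omit [Fintype F] in
/-- **the scalars are multiplications** -/
theorem scal_mul [Fact p.Prime] {N : ℕ} (hF₁ : Fintype.card F₁ = p ^ N) (hP : Ppd p N r) {c0 : F₁} (hc0 : orderOf c0 = r)
    {a0 : Matrix (Fin n) (Fin n) F} (h0 : ∀ w, e₁ (a0 *ᵥ w) = c0 * e₁ w) (a : F) (x y : F₁) :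
    e₁ (a • e₁.symm (x * y)) = x * e₁ (a • e₁.symm y) := by
  have hchar : CharP F₁ p := by
    obtain ⟨l, hl⟩ := CharP.exists F₁
    have hlp : l.Prime := CharP.char_is_prime F₁ l
    obtain ⟨k, -, hk⟩ := FiniteField.card F₁ l
    have h1 : l ∣ p ^ N := by
      rw [← hF₁, hk]
      exact dvd_pow_self l k.2.ne'
    have h2 := (Nat.prime_dvd_prime_iff_eq hlp Fact.out).1 (hlp.dvd_of_dvd_pow h1)
    rwa [h2] at hl
  let S : Subfield F₁ :=
    { carrier := {x | ∀ y, e₁ (a • e₁.symm (x * y)) = x * e₁ (a • e₁.symm y)}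
      mul_mem' := by
        intro x z hx hz y
        rw [mul_assoc, hx, hz, mul_assoc]
      one_mem' := by
        intro y
        rw [one_mul, one_mul]
      add_mem' := by
        intro x z hx hz y
        rw [add_mul, map_add, smul_add, map_add, hx, hz, add_mul]
      zero_mem' := by
        intro y
        rw [zero_mul, zero_mul, map_zero, smul_zero, map_zero]
      neg_mem' := by
        intro x hx y
        rw [neg_mul, map_neg, smul_neg, map_neg, hx, neg_mul]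
      inv_mem' := by
        intro x hx y
        by_cases h : x = 0
        · rw [h, _root_.inv_zero, zero_mul, zero_mul, map_zero, smul_zero, map_zero]
        · apply mul_left_cancel₀ h
          rw [← hx, ← mul_assoc, ← mul_assoc, mul_inv_cancel₀ h, one_mul, one_mul] }
  have hc : c0 ∈ S := by
    intro y
    have h1 : e₁.symm (c0 * y) = a0 *ᵥ (e₁.symm y) := by
      rw [AddEquiv.symm_apply_eq, h0, e₁.apply_symm_apply]
    rw [h1, ← mulVec_smul, h0]
  classical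
  have : Fintype S := Fintype.ofFinite S
  have hcS : CharP S p := inferInstance
  obtain ⟨k, -, hk⟩ := FiniteField.card S p
  have hc0' : c0 ≠ 0 := by
    rintro rfl
    rw [orderOf_zero] at hc0
    exact hP.prime.ne_zero hc0.symm
  have h1 : (⟨c0, hc⟩ : S) ^ (Fintype.card S - 1) = 1 :=
    FiniteField.pow_card_sub_one_eq_one _ fun h => hc0' (congrArg Subtype.val h)
  have h2 : r ∣ p ^ (k : ℕ) - 1 := by
    rw [← hk, ← hc0]
    exact orderOf_dvd_of_pow_eq_one (congrArg Subtype.val h1)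
  have h3 := Nat.le_of_dvd k.pos ((hP.dvd_iff _).1 h2)
  have h4 : Fintype.card F₁ ≤ Fintype.card S := by
    rw [hF₁, hk]
    exact Nat.pow_le_pow_right (Fact.out : p.Prime).pos h3
  have h5 : Function.Surjective (Subtype.val : S → F₁) :=
    ((Fintype.bijective_iff_injective_and_card _).2 ⟨Subtype.val_injective,
      le_antisymm (Fintype.card_le_of_injective _ Subtype.val_injective) h4⟩).2
  obtain ⟨⟨x', hx'⟩, rfl⟩ := h5 x
  exact hx' y

end fac

section frob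

variable {n : ℕ} {F : Type} [Field F] [Fintype F] {F₁ : Type} [Field F₁] [Fintype F₁] {e₁ : (Fin n → F) ≃+ F₁}

/-- the square of the Frobenius automorphism as an element of `SL_n(F)` -/
theorem exists_frob (h : ∀ (a : F) (x y : F₁), e₁ (a • e₁.symm (x * y)) = x * e₁ (a • e₁.symm y)) :
    ∃ x ∈ specialLinear (Fin n) F, ∀ w, e₁ ((x : Matrix (Fin n) (Fin n) F) *ᵥ w) = (e₁ w) ^ (Fintype.card F ^ 2) := by
  have h1 : ∀ (a : F) (w : Fin n → F), e₁ (a • w) = e₁ (a • e₁.symm 1) * e₁ w := by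
    intro a w
    have := h a (e₁ w) 1
    rw [mul_one, e₁.symm_apply_apply] at this
    rw [this, mul_comm]
  let ι : F →+* F₁ :=
    { toFun := fun a => e₁ (a • e₁.symm 1)
      map_one' := by rw [one_smul, e₁.apply_symm_apply]
      map_mul' := by
        intro a b
        rw [mul_smul, h1 a (b • _)]
      map_zero' := by rw [zero_smul, map_zero]
      map_add' := by
        intro a b
        rw [add_smul, map_add] }
  letI : Algebra F F₁ := ι.toAlgebra
  let E : (Fin n → F) ≃ₗ[F] F₁ :=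
    { e₁ with
      map_smul' := fun a w => by
        show e₁ (a • w) = ι a * e₁ w
        exact h1 a w }
  have hE : ∀ w, E w = e₁ w := fun _ => rfl
  let fr := FiniteField.frobeniusAlgEquivOfAlgebraic F F₁
  have hfr : ∀ z, fr z = z ^ Fintype.card F := fun z => congrFun (FiniteField.coe_frobeniusAlgEquivOfAlgebraic F F₁) z
  let ψ : (Fin n → F) ≃ₗ[F] (Fin n → F) := E.trans ((fr.toLinearEquiv.trans fr.toLinearEquiv).trans E.symm)
  obtain ⟨x, hx, hd⟩ := exists_mat ψ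
  refine ⟨x, mem_sl_iff.2 ?_, fun w => ?_⟩
  · rw [hd]
    have h2 : (ψ : (Fin n → F) →ₗ[F] (Fin n → F)) =
        (E.symm : F₁ →ₗ[F] (Fin n → F)) ∘ₗ (fr.toLinearMap ∘ₗ fr.toLinearMap) ∘ₗ (E.symm.symm : (Fin n → F) →ₗ[F] F₁) := by
      apply LinearMap.ext
      intro w
      rfl
    rw [h2, LinearMap.det_conj, LinearMap.det_comp]
    exact det_frob F F₁
  · rw [hx]
    show e₁ (E.symm (fr (fr (E w)))) = _
    rw [hfr, hfr, ← pow_mul, ← pow_two]
    exact E.apply_symm_apply _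

end frob

section main

variable {G : Type u} [Group G] [Finite G] {T : Subgroup G} {n : ℕ} {F : Type} [Field F] [Fintype F]
  {e : T ≃* Matrix.ProjectiveSpecialLinearGroup (Fin n) F} {v : Fin n → F}

omit [Fintype F] in
theorem gl_ext {a b : GL (Fin n) F}
    (h : ∀ w, (a : Matrix (Fin n) (Fin n) F) *ᵥ w = (b : Matrix (Fin n) (Fin n) F) *ᵥ w) : a = b := by
  apply Units.ext
  ext i j
  have h1 := congrFun (h (Pi.single j 1)) i
  rwa [mulVec_single_one, mulVec_single_one] at h1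

omit [Fintype F] in
theorem perm_pow {a : GL (Fin n) F} {π : Equiv.Perm (Fin n → F)}
    (h : ∀ w, π w = (a : Matrix (Fin n) (Fin n) F) *ᵥ w) (k : ℕ) (w : Fin n → F) :
    (π ^ k) w = ((a ^ k : GL (Fin n) F) : Matrix (Fin n) (Fin n) F) *ᵥ w := by
  induction k generalizing w with
  | zero => rw [pow_zero, pow_zero, Units.val_one, one_mulVec]; rfl
  | succ k ih => rw [pow_succ, Equiv.Perm.mul_apply, h, ih, mulVec_mulVec, ← Units.val_mul, ← pow_succ]

/-- `q ^ n - 1` divides the order of the group of lifts -/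
theorem dvd_card_lf {X Y : Subgroup G} (h : Fac T X Y) (hn : 3 ≤ n) (hs : VStab v ≤ pg e Y) (hv : v ≠ 0) :
    Fintype.card F ^ n - 1 ∣ Nat.card (Lf h.normal e X) := by
  classical
  have horb : MulAction.orbit (Lf h.normal e X) v = {(0 : Fin n → F)}ᶜ := by
    ext w
    constructor
    · rintro ⟨⟨π, hπ⟩, rfl⟩
      obtain ⟨x, hx, a, σ, hr⟩ := hπ
      show π v ≠ 0
      intro h0
      apply hv
      apply π.injective
      rw [h0, hr.map0]
    · intro hw
      obtain ⟨π, hπ, c, hc, h1⟩ := lf_trans h hn hs hv hv (w := w) hw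
      obtain ⟨ρ, hρ, h2⟩ := Rep.scal (hT := h.normal) (e := e) (Units.mk0 c hc)⁻¹
      refine ⟨⟨ρ * π, mul_mem ⟨1, X.one_mem, _, _, hρ⟩ hπ⟩, ?_⟩
      show ρ (π v) = w
      rw [h1, h2, Units.val_inv_eq_inv_val, Units.val_mk0, smul_smul, inv_mul_cancel₀ hc, one_smul]
  have h1 := MulAction.index_stabilizer (Lf h.normal e X) v
  rw [horb, Set.ncard_compl, Set.ncard_singleton, Nat.card_fun, Nat.card_fin, Nat.card_eq_fintype_card] at h1
  rw [← h1]
  exact Subgroup.index_dvd_card _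

/-- **PSL-6b** with Hering's theorem as a hypothesis -/
theorem hering_B' (hA : HAct) {H B : Subgroup G} (h : Ex T H B) (hf : Fac T H B) (hn : 3 ≤ n)
    (hv : v ≠ 0) (hs : VStab v ≤ pg e B) : False := by
  classical
  have hpp : (ringChar F).Prime := CharP.char_is_prime F _
  have hfact : Fact (ringChar F).Prime := ⟨hpp⟩
  set p := ringChar F with hp
  obtain ⟨⟨f, hf0⟩, -, hF⟩ := FiniteField.card F p
  replace hF : Fintype.card F = p ^ f := hF
  obtain ⟨F₁, _, _, e₁, hcard, hsl⟩ := lf_one hA hf hn hs hv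
  have hF₁ : Fintype.card F₁ = p ^ (n * f) := by rw [hcard, hF, ← pow_mul, mul_comm]
  have hlarge := hf.large.trans_le (card_le_pow e)
  have hq2 : 2 ≤ Fintype.card F := Fintype.one_lt_card
  have h6 : ¬ (p = 2 ∧ n * f = 6) := by
    rintro ⟨h1, h2⟩
    rw [hF, h1, ← pow_mul] at hlarge
    have h3 : f * (n * n) = 6 * n := by rw [← h2]; ring
    have h4 : n ≤ 6 := by
      have : n ∣ 6 := ⟨f, h2.symm⟩
      exact Nat.le_of_dvd (by norm_num) this
    rw [h3] at hlarge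
    have h5 : 2 ^ (6 * n) ≤ 2 ^ 36 := Nat.pow_le_pow_right (by norm_num) (by omega)
    have h7 := hlarge.trans_le h5
    revert h7
    norm_num [Nat.factorial]
  obtain ⟨r, hP⟩ := Cfsg.Agent.H728.DghpNum.exists_ppd (q := p) (e := n * f) hpp.two_le (by nlinarith only [hn, hf0]) h6
  have hrp : Fact r.Prime := ⟨hP.prime⟩
  -- an element of order `r`
  have hrd : r ∣ Nat.card (Lf h.normal e H) := by
    refine dvd_trans ?_ (dvd_card_lf hf hn hs hv)
    rw [hF, ← pow_mul, hP.dvd_iff, mul_comm]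
  obtain ⟨⟨π0, hπ0⟩, ho⟩ := exists_prime_orderOf_dvd_card' r hrd
  have ho' : orderOf π0 = r := by rw [← ho]; exact (Subgroup.orderOf_mk _ _).symm
  have hπr : π0 ^ r = 1 := by rw [← ho']; exact pow_orderOf_eq_one _
  have hπ1 : π0 ≠ 1 := by
    rintro rfl
    rw [orderOf_one] at ho'
    exact hP.prime.one_lt.ne ho'
  obtain ⟨a0, ha0, haw, c0, hc0, hsr⟩ := of_pow_r h.normal h.cent hn hF hf0 hF₁ hP hsl hπ0 hπr
  have hc01 : c0 ≠ 1 := by
    rintro rfl
    apply hπ1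
    apply Equiv.ext
    intro w
    apply e₁.injective
    rw [hsr, one_mul]
    rfl
  have hoc : orderOf c0 = r := orderOf_eq_prime hc0 hc01
  obtain ⟨s0, rfl⟩ := exists_sl (pg_le e ha0)
  obtain ⟨t0, ht0H, ht0⟩ := (mem_pg e).1 ha0
  have hs0r : s0 ^ r = 1 := by
    apply H304.PslT.toGL_injective
    rw [map_pow, map_one]
    apply gl_ext
    intro w
    rw [← perm_pow haw, hπr, Units.val_one, one_mulVec]
    rfl
  -- uniqueness
  have hU : ∀ s : Matrix.SpecialLinearGroup (Fin n) F, Matrix.SpecialLinearGroup.toGL s ∈ pg e H → s ^ r = 1 →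
      ∃ k : ℕ, s = s0 ^ k := by
    intro s hs1 hs2
    obtain ⟨ρ, hρ, hρw⟩ := pg_perm h.normal hs1
    have hρr : ρ ^ r = 1 := by
      apply Equiv.ext
      intro w
      rw [perm_pow hρw, ← map_pow, hs2, map_one, Units.val_one, one_mulVec]
      rfl
    obtain ⟨a', -, -, c', hc', hsr'⟩ := of_pow_r h.normal h.cent hn hF hf0 hF₁ hP hsl hρ hρr
    have h1 : Units.mk0 c' hsr'.ne ∈ Subgroup.zpowers (Units.mk0 c0 hsr.ne) := by
      refine mem_zpowers_of_pow_orderOf _ _ ?_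
      have h2 : orderOf (Units.mk0 c0 hsr.ne) = r := by rw [← hoc, ← orderOf_units, Units.val_mk0]
      rw [h2]
      exact Units.ext (by rw [Units.val_pow_eq_pow_val, Units.val_mk0, Units.val_one, hc'])
    rw [← mem_powers_iff_mem_zpowers] at h1
    obtain ⟨k, hk⟩ := h1
    have hk' : c0 ^ k = c' := congrArg Units.val hk
    refine ⟨k, H304.PslT.toGL_injective ?_⟩
    rw [map_pow]
    apply gl_ext
    intro w
    rw [← hρw, ← perm_pow haw]
    apply e₁.injective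
    rw [hsr', hsr.pow' k, hk']
  -- `H` normalises the subgroup
  have hq1 : Nat.Coprime r (Fintype.card F - 1) := by
    rw [Nat.Prime.coprime_iff_not_dvd hP.prime, hF, hP.dvd_iff]
    intro h1
    have := Nat.le_of_dvd hf0 h1
    nlinarith only [hn, hf0, this]
  have hN : ∀ x ∈ H, x * (t0 : G) * x⁻¹ ∈ Subgroup.zpowers (t0 : G) := by
    intro x hx
    let t' : T := ⟨x * t0 * x⁻¹, h.normal.conj_mem _ t0.2 x⟩
    obtain ⟨s', hs'⟩ := pr_surjective (e t')
    have ht0r : t0 ^ r = 1 := by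
      apply e.injective
      rw [map_pow, ht0, ← map_pow, hs0r, map_one, map_one]
    have ht'r : t' ^ r = 1 := by
      apply Subtype.ext
      show (x * t0 * x⁻¹) ^ r = 1
      rw [conj_pow]
      have : ((t0 : G)) ^ r = 1 := congrArg Subtype.val ht0r
      rw [this, mul_one, mul_inv_cancel]
    obtain ⟨m, hm1, hm2⟩ := Nat.chineseRemainder hq1 1 0
    have hz : s' ^ r ∈ Subgroup.center (Matrix.SpecialLinearGroup (Fin n) F) := by
      rw [← QuotientGroup.eq_one_iff]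
      show pr (s' ^ r) = 1
      rw [map_pow, hs', ← map_pow, ht'r, map_one]
    have hzq : (s' ^ r) ^ (Fintype.card F - 1) = 1 := by
      rw [Matrix.SpecialLinearGroup.mem_center_iff] at hz
      obtain ⟨c, hcn, hc⟩ := hz
      have hc0' : c ≠ 0 := by
        rintro rfl
        rw [Fintype.card_fin, zero_pow (by omega)] at hcn
        exact zero_ne_one hcn
      apply Subtype.ext
      show ((s' ^ r : Matrix.SpecialLinearGroup (Fin n) F) : Matrix (Fin n) (Fin n) F) ^ (Fintype.card F - 1) = 1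
      rw [← hc, ← map_pow, FiniteField.pow_card_sub_one_eq_one _ hc0', map_one]
    have hm3 : Fintype.card F - 1 ∣ m := (Nat.modEq_zero_iff_dvd).1 hm2
    obtain ⟨j, hj⟩ := hm3
    have h1 : (s' ^ m) ^ r = 1 := by
      rw [← pow_mul, mul_comm m r, pow_mul, hj, pow_mul, hzq, one_pow]
    have h2 : e t' = pr (s' ^ m) := by
      rw [map_pow, hs', ← map_pow]
      congr 1
      have h3 : t' ^ m = t' ^ 1 := by
        rw [pow_eq_pow_iff_modEq]
        exact hm1.of_dvd (orderOf_dvd_of_pow_eq_one ht'r)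
      rw [h3, pow_one]
    obtain ⟨k, hk⟩ := hU (s' ^ m) ((mem_pg e).2 ⟨t', H.mul_mem (H.mul_mem hx ht0H) (H.inv_mem hx), h2⟩) h1
    rw [hk, map_pow, ← ht0, ← map_pow] at h2
    have h3 : x * (t0 : G) * x⁻¹ = (t0 : G) ^ k := congrArg Subtype.val (e.injective h2)
    rw [h3]
    exact pow_mem (Subgroup.mem_zpowers _) k
  have hnorm : ∀ x : G, x * (t0 : G) * x⁻¹ ∈ Subgroup.zpowers (t0 : G) →
      x ∈ Subgroup.normalizer ((Subgroup.zpowers (t0 : G) : Subgroup G) : Set G) := by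
    intro x hx
    apply Subgroup.mem_normalizer_fintype
    rintro _ ⟨k, rfl⟩
    show x * (t0 : G) ^ k * x⁻¹ ∈ Subgroup.zpowers (t0 : G)
    rw [← conj_zpow]
    exact zpow_mem hx k
  have hle : H ≤ Subgroup.normalizer ((Subgroup.zpowers (t0 : G) : Subgroup G) : Set G) := fun x hx =>
    hnorm x (hN x hx)
  have hnt : Subgroup.normalizer ((Subgroup.zpowers (t0 : G) : Subgroup G) : Set G) ≠ ⊤ := by
    intro htop
    have hn' : (Subgroup.zpowers (t0 : G)).Normal := Subgroup.normalizer_eq_top_iff.1 htop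
    have hn2 : ((Subgroup.zpowers (t0 : G)).subgroupOf T).Normal := hn'.subgroupOf T
    have := h.simple
    rcases hn2.eq_bot_or_eq_top with h1 | h1
    · have h2 : t0 ∈ (Subgroup.zpowers (t0 : G)).subgroupOf T := by
        rw [Subgroup.mem_subgroupOf]
        exact Subgroup.mem_zpowers _
      rw [h1, Subgroup.mem_bot] at h2
      rw [h2, map_one] at ht0
      have h7 : s0 ∈ Subgroup.center (Matrix.SpecialLinearGroup (Fin n) F) := by
        rw [← QuotientGroup.eq_one_iff]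
        exact ht0.symm
      rw [Matrix.SpecialLinearGroup.mem_center_iff] at h7
      obtain ⟨c, hcn, hc⟩ := h7
      have hc0' : c ≠ 0 := by
        rintro rfl
        rw [Fintype.card_fin, zero_pow (by omega)] at hcn
        exact zero_ne_one hcn
      have h8 : s0 ^ (Fintype.card F - 1) = 1 := by
        apply Subtype.ext
        show (s0 : Matrix (Fin n) (Fin n) F) ^ (Fintype.card F - 1) = 1
        rw [← hc, ← map_pow, FiniteField.pow_card_sub_one_eq_one _ hc0', map_one]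
      have h9 : orderOf s0 ∣ Nat.gcd r (Fintype.card F - 1) :=
        Nat.dvd_gcd (orderOf_dvd_of_pow_eq_one hs0r) (orderOf_dvd_of_pow_eq_one h8)
      rw [hq1.gcd_eq_one, Nat.dvd_one, orderOf_eq_one_iff] at h9
      apply hπ1
      apply Equiv.ext
      intro w
      rw [haw, h9, map_one, Units.val_one, one_mulVec]
      rfl
    · apply h.nonab
      rw [Subgroup.subgroupOf_eq_top] at h1
      refine ⟨⟨fun a b => Subtype.ext ?_⟩⟩
      obtain ⟨i, hi⟩ := h1 a.2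
      obtain ⟨j, hj⟩ := h1 b.2
      simp only at hi hj
      change (a : G) * b = b * a
      rw [← hi, ← hj, ← _root_.zpow_add, ← _root_.zpow_add, add_comm]
  have hHn : Subgroup.normalizer ((Subgroup.zpowers (t0 : G) : Subgroup G) : Set G) = H := by
    rcases h.max.le_iff.1 hle with h1 | h1
    · exact absurd h1 hnt
    · exact h1
  -- the square of the Frobenius automorphism
  obtain ⟨x, hx, hxw⟩ := exists_frob (e₁ := e₁) (fun a y z => scal_mul (n := n) (F := F) hF₁ hP hoc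
    (a0 := (Matrix.SpecialLinearGroup.toGL s0 : Matrix (Fin n) (Fin n) F)) (fun w => by
      rw [← haw]
      exact hsr w) a y z)
  obtain ⟨sx, rfl⟩ := exists_sl hx
  have hcomm : sx * s0 = s0 ^ (Fintype.card F ^ 2) * sx := by
    apply H304.PslT.toGL_injective
    rw [map_mul, map_mul, map_pow]
    apply gl_ext
    intro w
    apply e₁.injective
    rw [Units.val_mul, ← mulVec_mulVec, hxw, ← haw, hsr, Units.val_mul, ← mulVec_mulVec, ← perm_pow haw,
      hsr.pow' (Fintype.card F ^ 2), hxw]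
    show (c0 * e₁ w) ^ _ = _ * (e₁ w) ^ _
    rw [mul_pow]
  obtain ⟨tx, htx⟩ := e.surjective (pr sx)
  have h1 : tx * t0 * tx⁻¹ = t0 ^ (Fintype.card F ^ 2) := by
    apply e.injective
    rw [map_mul, map_mul, map_inv, map_pow, ht0, htx, ← map_mul, hcomm, map_mul, map_pow, mul_inv_cancel_right]
  have h2 : (tx : G) ∈ H := by
    rw [← hHn]
    apply hnorm
    have h3 : (tx : G) * t0 * (tx : G)⁻¹ = (t0 : G) ^ (Fintype.card F ^ 2) := congrArg Subtype.val h1
    rw [h3]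
    exact pow_mem (Subgroup.mem_zpowers _) _
  have h3 : Matrix.SpecialLinearGroup.toGL sx ∈ pg e H := (mem_pg e).2 ⟨tx, h2, htx⟩
  have h4 : Matrix.SpecialLinearGroup.toGL sx = 1 := by
    refine semireg hf hn hs hv h3 (w := e₁.symm 1) ?_ ?_
    · intro h0
      have := congrArg e₁ h0
      rw [e₁.apply_symm_apply, map_zero] at this
      exact one_ne_zero this
    · apply e₁.injective
      rw [hxw, e₁.apply_symm_apply, one_pow]
  have h5 : ∀ z : F₁, z ^ (Fintype.card F ^ 2) = z := by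
    intro z
    have := hxw (e₁.symm z)
    rw [h4, Units.val_one, one_mulVec, e₁.apply_symm_apply] at this
    exact this.symm
  have h7 : Fintype.card F₁ - 1 ∣ Fintype.card F ^ 2 - 1 := by
    rw [← FiniteField.forall_pow_eq_one_iff]
    intro z
    have h8 : z ^ (Fintype.card F ^ 2 - 1) * z = z := by
      rw [← pow_succ, Nat.sub_add_cancel (Nat.one_le_pow _ _ (by omega))]
      exact Units.ext (by rw [Units.val_pow_eq_pow_val]; exact h5 z)
    exact mul_eq_right.1 h8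
  have h9 : Fintype.card F ^ 2 < Fintype.card F ^ n := Nat.pow_lt_pow_right (by omega) (by omega)
  have h10 : 2 ^ 2 ≤ Fintype.card F ^ 2 := Nat.pow_le_pow_left hq2 2
  have h11 := Nat.le_of_dvd (by omega) h7
  rw [hcard] at h11
  omega

end main

end Cfsg.Agent.H831.Rl
end
end

-- part: H951/Rg/Max93
section
set_option linter.all false
open scoped Cfsg.Agent.FastGrp

-- part: H951/Rg/Over
section
/-!
# Overgroups in `SU_m(q)`, `m` odd, of an element of order `r ^ a`, `r` primitive for `q ^ (2m) - 1` (S3691, helper951)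

* `ord_neg_of_pp` : `-q` has order `m` modulo `r`
* `ovr` : a subgroup of `GU_m(q)` containing `x` normalises a field of odd prime degree `s ∣ m`, or is in the residual class
* `core_dvd_pow` : in the residual class `r ^ a` divides the order of the automorphism group of the socle
-/

set_option autoImplicit false
set_option linter.unusedSectionVars false

namespace Cfsg.Agent.H951.Rg

open Cfsg Cfsg.Geo Module Cfsg.Agent.H251.GeoCard Cfsg.Agent.H251.GeoU Cfsg.Agent.H884.El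
open scoped Matrix MatrixGroups

/-- `-q` has order `m` -/
theorem ord_neg_of_pp {p f m r : ℕ} (hp : p.Prime) (hf : 1 ≤ f) (hm : 1 ≤ m) (hodd : Odd m)
    (hr : PP p (f * (2 * m)) r) :
    (∀ k, r ∣ p ^ k - 1 ↔ 2 * m * f ∣ k) ∧ 2 * m * f ∣ r - 1 ∧ orderOf (-((p ^ f : ℕ) : ZMod r)) = m := by
  have e0 : f * (2 * m) = 2 * m * f := by ring
  have hmf : 1 ≤ m * f := Nat.mul_pos hm hf
  have h6 : 1 ≤ 2 * m * f := by rw [mul_assoc]; omega
  rw [e0] at hr
  have hiff : ∀ k, r ∣ p ^ k - 1 ↔ 2 * m * f ∣ k := fun k => hr.dvd_iff hp.one_lt.le k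
  refine ⟨hiff, hr.dvd_sub_one h6, ?_⟩
  have := Fact.mk hr.prime
  have hpord : ∀ k, (p : ZMod r) ^ k = 1 ↔ 2 * m * f ∣ k := by
    intro k
    rw [← orderOf_dvd_iff_pow_eq_one, hr.ord]
  have h1 : ((p ^ f : ℕ) : ZMod r) ^ m = -1 := by
    have h2 : ((p ^ f : ℕ) : ZMod r) ^ m * ((p ^ f : ℕ) : ZMod r) ^ m = 1 := by
      push_cast
      rw [← pow_add, ← pow_mul, hpord]
      exact ⟨1, by ring⟩
    have h3 : ((p ^ f : ℕ) : ZMod r) ^ m ≠ 1 := by
      push_cast
      rw [← pow_mul, Ne, hpord]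
      intro h4
      have h5 := Nat.le_of_dvd (by rw [mul_comm]; exact hmf) h4
      rw [mul_assoc, mul_comm f m] at h5
      omega
    rcases mul_self_eq_one_iff.1 h2 with h4 | h4
    · exact absurd h4 h3
    · exact h4
  apply Nat.dvd_antisymm
  · rw [orderOf_dvd_iff_pow_eq_one, hodd.neg_pow, h1, neg_neg]
  · have h2 : (-((p ^ f : ℕ) : ZMod r)) ^ orderOf (-((p ^ f : ℕ) : ZMod r)) = 1 := pow_orderOf_eq_one _
    set o := orderOf (-((p ^ f : ℕ) : ZMod r)) with ho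
    have h3 : (p : ZMod r) ^ (2 * f * o) = 1 := by
      have h4 : ((-((p ^ f : ℕ) : ZMod r)) ^ o) ^ 2 = 1 := by rw [h2, one_pow]
      rw [← pow_mul, mul_comm o 2, pow_mul, neg_sq] at h4
      push_cast at h4
      rw [← h4, ← pow_mul, ← pow_mul]
      congr 1
      ring
    rw [hpord] at h3
    have h4 : 2 * f * m ∣ 2 * f * o := by
      rwa [show 2 * m * f = 2 * f * m by ring] at h3
    exact Nat.dvd_of_mul_dvd_mul_left (by omega) h4

section Ovr

variable {E : Type*} [Field E] [Fintype E] {m : ℕ}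

theorem dvd_of_mem {H : Subgroup (GL (Fin m) E)} {x : GL (Fin m) E} (hx : x ∈ H) {N : ℕ} (ho : orderOf x = N) :
    N ∣ Nat.card H := by
  rw [← ho, ← Subgroup.orderOf_mk x hx]
  exact orderOf_dvd_natCard _

/-- **subgroups of `GU_m(q)` containing an element of order `r ^ a`** -/
theorem ovr {p f r a : ℕ} (hp : p.Prime) (hf : 1 ≤ f) (hE : Fintype.card E = (p ^ f) ^ 2) (hm : Odd m) (hm5 : 5 ≤ m)
    (hr : PP p (f * (2 * m)) r) {H : Subgroup (GL (Fin m) E)} (hH : H ≤ Cfsg.GU m E (p ^ f)) {x : GL (Fin m) E}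
    (hx : x ∈ H) (ho : orderOf x = r ^ a) (ha : a ≠ 0) :
    (∃ (s : ℕ) (K : Subalgebra E (Matrix (Fin m) (Fin m) E)), s.Prime ∧ Odd s ∧ s ∣ m ∧ IsFieldSubalgebra s K ∧
      H ≤ subalgebraNormalizer K) ∨ InUnitaryResidualClass H := by
  obtain ⟨hiff, hd, hord⟩ := ord_neg_of_pp hp hf (by omega) hm hr
  have hrH : r ∣ Nat.card H := (dvd_pow_self r ha).trans (dvd_of_mem hx ho)
  have hlt : m + 1 < r := by
    have h1 := Nat.le_of_dvd (by have := hr.prime.two_le; omega) hd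
    have h2 : 2 * m * 1 ≤ 2 * m * f := Nat.mul_le_mul_left _ hf
    omega
  rcases H921.unitary_structure (n := m) hE (by omega) hH with ⟨X, hX, hle⟩ | hres
  · left
    rcases H729.CovU.geo_over hE hp rfl hf hr.prime hiff hord hm (by omega) (by omega) hlt hX
      (hrH.trans (Subgroup.card_dvd_of_le hle)) with
      ⟨W, hW0, -, hW, -⟩ | ⟨W, hW0, -, -, hW, -⟩ | ⟨s, K, hs, hso, hsm, -, hK, rfl⟩
    · exact absurd (Submodule.finrank_eq_zero.1 (by omega)) hW0
    · exact absurd (Submodule.finrank_eq_zero.1 (by omega)) hW0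
    · exact ⟨s, K, hs, hso, hsm, hK, hle.trans inf_le_left⟩
  · exact Or.inr hres

/-- in the residual class -/
theorem core_dvd_pow {r a : ℕ} (hm : 0 < m) {H P : Subgroup (GL (Fin m) E)} (hP : IsResidualCore H P) (hr : r.Prime)
    (hr1 : ¬ r ∣ Nat.card E - 1) {x : GL (Fin m) E} (hx : x ∈ H) (ho : orderOf x = r ^ a) :
    r ^ a ∣ Nat.card (MulAut (P ⧸ (scalars (Fin m) E).subgroupOf P)) := by
  classical
  have hfr : Fact r.Prime := ⟨hr⟩
  rcases Nat.eq_zero_or_pos a with rfl | ha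
  · rw [pow_zero]
    exact one_dvd _
  obtain ⟨b, rfl⟩ : ∃ b, a = b + 1 := ⟨a - 1, by omega⟩
  obtain ⟨φ, hφ⟩ := H900.SU4.exists_core_inj hP
  set x' : H := ⟨x, hx⟩ with hx'
  have ho' : orderOf x' = r ^ (b + 1) := by rw [← ho, hx', Subgroup.orderOf_mk]
  set y := φ (QuotientGroup.mk' ((scalars (Fin m) E).subgroupOf H) x') with hy
  have h1 : y ^ r ^ (b + 1) = 1 := by
    rw [hy, ← map_pow, ← map_pow, ← ho', pow_orderOf_eq_one, map_one, map_one]
  have h2 : ¬ y ^ r ^ b = 1 := by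
    intro h
    rw [hy, ← map_pow, ← map_pow] at h
    have h3 : QuotientGroup.mk' ((scalars (Fin m) E).subgroupOf H) (x' ^ r ^ b) = 1 := by
      apply hφ
      rw [h, map_one]
    have h4 : x' ^ r ^ b ∈ (scalars (Fin m) E).subgroupOf H := (QuotientGroup.eq_one_iff _).1 h3
    have h5 : x ^ r ^ b ∈ scalars (Fin m) E := Subgroup.mem_subgroupOf.1 h4
    obtain ⟨c, hc⟩ := (mem_scalars_iff _).1 h5
    have hxs : (x ^ r ^ b) ^ r = 1 := by
      rw [← pow_mul, ← pow_succ, ← ho]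
      exact pow_orderOf_eq_one x
    have hcs : c ^ r = 1 := by
      have h5 := congrArg (fun g : GL (Fin m) E => (g : Matrix (Fin m) (Fin m) E) ⟨0, hm⟩ ⟨0, hm⟩) hxs
      simp only [Units.val_pow_eq_pow_val] at h5 hc
      rw [hc] at h5
      simp only [_root_.smul_pow, one_pow, Units.val_one, Matrix.smul_apply, Matrix.one_apply_eq, smul_eq_mul,
        mul_one] at h5
      exact Units.ext (by rw [Units.val_pow_eq_pow_val, h5, Units.val_one])
    have hc1 : c ≠ 1 := by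
      rintro rfl
      have h6 : x ^ r ^ b = 1 := Units.ext (by rw [hc]; simp)
      have h7 := orderOf_dvd_of_pow_eq_one h6
      rw [ho] at h7
      have h8 := Nat.le_of_dvd (pow_pos hr.pos _) h7
      have h9 : r ^ b < r ^ (b + 1) := Nat.pow_lt_pow_right hr.one_lt (by omega)
      omega
    apply hr1
    have h6 : orderOf c = r := orderOf_eq_prime hcs hc1
    rw [Nat.card_eq_fintype_card, ← Fintype.card_units, ← h6]
    exact orderOf_dvd_card
  have h3 := orderOf_eq_prime_pow h2 h1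
  rw [← h3, ← Nat.card_zpowers]
  exact Subgroup.card_subgroup_dvd_card _

/-- `r` does not divide `|E| - 1` -/
theorem not_dvd_pred {p f r : ℕ} (hp : p.Prime) (hf : 1 ≤ f) (hE : Fintype.card E = (p ^ f) ^ 2) (hm2 : 2 ≤ m)
    (hr : PP p (f * (2 * m)) r) : ¬ r ∣ Nat.card E - 1 := by
  rw [Nat.card_eq_fintype_card, hE, ← pow_mul, hr.dvd_iff hp.one_lt.le]
  intro h
  have h1 := Nat.le_of_dvd (by omega) h
  have h2 : f * (2 * m) ≤ f * 2 := h1
  have h3 := Nat.le_of_mul_le_mul_left h2 (by omega)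
  omega

end Ovr

end Cfsg.Agent.H951.Rg
end

-- part: H951/Rg/Max93
section
/-!
# `MAX 9 3`: maximal subgroups of `SU_9(q)` containing an element of order `r ^ a` (S3691-T12, helper951)

`max93_of` : from the residual class `Res9`.
-/

set_option autoImplicit false
set_option linter.unusedSectionVars false

namespace Cfsg.Agent.H951.Rg

open Cfsg Cfsg.Geo Module Cfsg.Agent.H251.GeoCard Cfsg.Agent.H251.GeoU Cfsg.Agent.H884.El Cfsg.Agent.H729.CovSU9
open scoped Matrix MatrixGroups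

theorem card_aut_l219 :
    Nat.card (MulAut (Matrix.ProjectiveSpecialLinearGroup (Fin 2) (ZMod 19))) = 6840 := by
  have hf : Fact (Nat.Prime 19) := ⟨by norm_num⟩
  rw [Cfsg.Agent.S0813.result 19 1 le_rfl (by rw [ZMod.card, pow_one]) 2 le_rfl (fun _ => by norm_num),
    Cfsg.Agent.S0265.result, Cfsg.Agent.ClassicalGeometry.PSL2Basic.card_SL2, ZMod.card]
  norm_num

theorem card_aut_j3 {S : Type} [Group S] [Finite S] [IsSimpleGroup S] (hna : ¬ IsMulCommutative S)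
    (hS : Spor.IsoJ3 S) : Nat.card (MulAut S) = 100465920 := by
  obtain ⟨F, _, _, ω, hF, hω, ⟨e⟩⟩ := hS
  have hcard : Nat.card S = 50232960 := by rw [Nat.card_congr e.toEquiv, (S1625.result F hF ω hω).2.2.1]
  have hout : Nat.card (Cfsg.Out S) = 2 := by rw [H55.OutGen.card_out_congr e, S2067.result hF ω hω]
  rw [← H934.OutB.card_out_mul S hna, hcard, hout]

/-- **`MAX 9 3`** from the residual class, with the weakest hypothesis -/
theorem max93_of' (hres : ∀ (F : Type) [Field F] [Fintype F] (q : ℕ), Fintype.card F = q ^ 2 → Res9 F q)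
    {E : Type} [Field E] [Fintype E] {p f r a : ℕ} (hp : p.Prime) (hf : 1 ≤ f) (hE : Fintype.card E = (p ^ f) ^ 2)
    (hr : PP p (f * (2 * 9)) r) {H : Subgroup (GL (Fin 9) E)}
    (hH : IsMaximalIn (Cfsg.GU 9 E (p ^ f) ⊓ specialLinear (Fin 9) E) H) {x : GL (Fin 9) E} (hx : x ∈ H)
    (ho : orderOf x = r ^ a) (ha : a ≠ 0) (h19 : r = 19 → a ≠ 1) :
    ∃ K : Subalgebra E (Matrix (Fin 9) (Fin 9) E), IsFieldSubalgebra 3 K ∧ H ≤ subalgebraNormalizer K := by
  rcases ovr hp hf hE (by decide) (by norm_num) hr (hH.1.le.trans inf_le_left) hx ho ha with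
    ⟨s, K, hs, -, hsm, hK, hle⟩ | hR
  · have h1 : s ∣ 3 ^ 2 := hsm
    have h3 : s = 3 := (Nat.prime_dvd_prime_iff_eq hs Nat.prime_three).1 (hs.dvd_of_dvd_pow h1)
    subst h3
    exact ⟨K, hK, hle⟩
  · exfalso
    obtain ⟨hiff, hd, hord⟩ := ord_neg_of_pp hp hf (by norm_num) (by decide) hr
    obtain ⟨P, hP, hcases⟩ := hres E (p ^ f) hE H hH hR
    have hsim : IsSimpleGroup (P ⧸ (scalars (Fin 9) E).subgroupOf P) := hP.simple
    have hna := hP.nonabelian
    have hdvd := core_dvd_pow (by norm_num) hP hr.prime (not_dvd_pred hp hf hE (by norm_num) hr) hx ho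
    have hr' : r ∣ Nat.card (Cfsg.Out (P ⧸ (scalars (Fin 9) E).subgroupOf P)) ∨
        r ∣ Nat.card (P ⧸ (scalars (Fin 9) E).subgroupOf P) := by
      have h1 := (dvd_pow_self r ha).trans hdvd
      rw [← H934.OutB.card_out_mul _ hna] at h1
      exact hr.prime.dvd_mul.1 h1
    have hr18 : 18 < r := by
      have h1 := Nat.le_of_dvd (by have := hr.prime.two_le; omega) hd
      omega
    have ha2 : r = 19 → 19 ^ 2 ∣ Nat.card (MulAut (P ⧸ (scalars (Fin 9) E).subgroupOf P)) := by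
      intro h1
      have h2 := h19 h1
      subst h1
      exact (pow_dvd_pow 19 (by omega)).trans hdvd
    rcases hcases with ⟨⟨e⟩, -⟩ | ⟨hJ, -⟩ | ⟨⟨e⟩⟩
    · rcases l219 hna e hr.prime (by omega) hr' with h | h
      · omega
      · have h1 := ha2 h
        rw [Nat.card_congr (MulAut.congr e).toEquiv, card_aut_l219] at h1
        norm_num at h1
    · rcases j3 hJ hr.prime (by omega) hr' with h | h | h
      · omega
      · omega
      · have h1 := ha2 h
        rw [card_aut_j3 hna hJ] at h1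
        norm_num at h1
    · exact l3 hE hp rfl hf hna e hr.prime hord (by decide) (by norm_num) hd hr'

/-- **`MAX 9 3`** from the residual class -/
theorem max93_of (hres : ∀ (F : Type) [Field F] [Fintype F] (q : ℕ), Fintype.card F = q ^ 2 → Res9 F q)
    {E : Type} [Field E] [Fintype E] {p f r a : ℕ} (hp : p.Prime) (hf : 1 ≤ f) (hE : Fintype.card E = (p ^ f) ^ 2)
    (hr : PP p (f * (2 * 9)) r) {H : Subgroup (GL (Fin 9) E)}
    (hH : IsMaximalIn (Cfsg.GU 9 E (p ^ f) ⊓ specialLinear (Fin 9) E) H) {x : GL (Fin 9) E} (hx : x ∈ H)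
    (ho : orderOf x = r ^ a) (hbig : 4 * 9 + 1 < r ^ a) :
    ∃ K : Subalgebra E (Matrix (Fin 9) (Fin 9) E), IsFieldSubalgebra 3 K ∧ H ≤ subalgebraNormalizer K := by
  refine max93_of' hres hp hf hE hr hH hx ho ?_ ?_
  · rintro rfl
    rw [pow_zero] at hbig
    omega
  · rintro rfl rfl
    norm_num at hbig

end Cfsg.Agent.H951.Rg
end
end

-- part: H402/Rg/Lst3
section
prune_inst 0x7604746200000000850000001c62ba00000000080400a46102420789ac0084000820bb3001035880000440380040000000804000000000000400011a008000800000b0080100200010000000000000000000000000000000000000000000000000000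
set_option linter.all false
open scoped Cfsg.Agent.FastGrp

-- part: H402/Rg/Gu3
section
/-!
# The order of `GU₃(q).2 < Sp₆(q)` (after helper930's `SpOrdC`)
-/

set_option autoImplicit false
set_option linter.unusedSectionVars false

namespace Cfsg.Agent.H402.Rg.Gu

open Module Matrix Cfsg Cfsg.Geo
open scoped MatrixGroups Matrix
open Cfsg.Agent.ClassicalGeometry.SympBasic
open Cfsg.Agent.H879.ExtField (modOf)
open Cfsg.Agent.LieClassical.HermBasic
open Cfsg.Agent.H930.SpOrd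

abbrev I6 : Type := Fin 3 ⊕ Fin 3

theorem card_I6 : Fintype.card I6 = 6 := by decide

theorem card_GU3 {K : Type*} [Field K] [Fintype K] {q : ℕ} (hK : Fintype.card K = q ^ 2) :
    Nat.card (GU 3 K q) = q ^ 3 * (q + 1) * (q ^ 2 - 1) * (q ^ 3 + 1) := by
  have h1 := Cfsg.Agent.S0277.result hK 3
  rw [Finset.prod_range_succ, Finset.prod_range_succ, Finset.prod_range_succ, Finset.prod_range_zero] at h1
  rw [h1]
  simp
  ring

variable {F : Type*} [Field F] [Fintype F]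

theorem card_six_herm (h2 : (2 : F) ≠ 0) {E : Type*} [Field E] [Algebra F E] [FiniteDimensional F E]
    (hfr : finrank F E = 2) (ρ : E →ₐ[F] Matrix I6 I6 F) {κ : E} (hκ : ∀ c : F, κ ≠ algebraMap F E c)
    (hadj : ∀ x y, sympForm 3 F (ρ κ *ᵥ x) y = - sympForm 3 F x (ρ κ *ᵥ y)) :
    Nat.card ↥(subalgebraNormalizer ρ.range ⊓ spGL 3 F) =
      2 * (Nat.card F ^ 3 * (Nat.card F + 1) * (Nat.card F ^ 2 - 1) * (Nat.card F ^ 3 + 1)) := by
  have hfin : Finite E := Module.finite_of_finite F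
  let _ : Fintype E := Fintype.ofFinite E
  set q := Nat.card F with hq
  have hcE : Fintype.card E = q ^ 2 := by
    rw [Module.card_eq_pow_finrank (K := F) (V := E), hfr, hq, Nat.card_eq_fintype_card]
  have hpowF : ∀ c : F, c ^ q = c := by
    intro c
    rw [hq, Nat.card_eq_fintype_card]
    exact FiniteField.pow_card c
  -- E = F + F κ
  have hspan : ∀ z : E, ∃ a b : F, z = algebraMap F E a + algebraMap F E b * κ := by
    have hli : LinearIndependent F ![(1 : E), κ] := by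
      rw [LinearIndependent.pair_iff]
      intro s t hst
      rw [Algebra.smul_def, Algebra.smul_def, mul_one] at hst
      have h3 := two_coord hκ (a := s) (b := t) (a' := 0) (b' := 0) (by rw [hst]; simp)
      exact h3
    have hsp := hli.span_eq_top_of_card_eq_finrank (by rw [hfr]; simp)
    intro z
    have hz : z ∈ Submodule.span F (Set.range ![(1 : E), κ]) := by rw [hsp]; trivial
    rw [Submodule.mem_span_range_iff_exists_fun] at hz
    obtain ⟨c, hc⟩ := hz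
    rw [Fin.sum_univ_two] at hc
    refine ⟨c 0, c 1, ?_⟩
    rw [← hc, Algebra.smul_def, Algebra.smul_def]
    simp
  have hρalg : ∀ (c : F) (v : I6 → F), ρ (algebraMap F E c) *ᵥ v = c • v := by
    intro c v
    rw [AlgHom.commutes, Algebra.algebraMap_eq_smul_one, smul_mulVec, one_mulVec]
  -- κ² ∈ F
  obtain ⟨d, hd⟩ : ∃ d : F, κ * κ = algebraMap F E d := by
    obtain ⟨d, b, hdb⟩ := hspan (κ * κ)
    have hb : b = 0 := by
      by_contra hb
      have h3 : ∀ x y, sympForm 3 F x (ρ κ *ᵥ y) = 0 := by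
        intro x y
        have h4 : sympForm 3 F (ρ (κ * κ) *ᵥ x) y = sympForm 3 F x (ρ (κ * κ) *ᵥ y) := by
          rw [map_mul, ← mulVec_mulVec, ← mulVec_mulVec, hadj, hadj, neg_neg]
        rw [hdb, map_add, map_mul, add_mulVec, add_mulVec, ← mulVec_mulVec, ← mulVec_mulVec, hρalg, hρalg, hρalg,
          hρalg, sympForm_add_left, sympForm_add_right, sympForm_smul_left, sympForm_smul_left,
          sympForm_smul_right, sympForm_smul_right, hadj] at h4
        have h5 : 2 * (b * sympForm 3 F x (ρ κ *ᵥ y)) = 0 := by linear_combination -h4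
        exact (mul_eq_zero.1 ((mul_eq_zero.1 h5).resolve_left h2)).resolve_left hb
      apply hκ 0
      rw [map_zero]
      have h6 : ρ κ = 0 := by
        apply Matrix.mulVec_injective
        funext v
        show ρ κ *ᵥ v = (0 : Matrix I6 I6 F) *ᵥ v
        rw [zero_mulVec]
        exact eq_zero_of_forall_sympForm_left fun w => h3 w v
      apply ρ.toRingHom.injective
      show ρ κ = ρ 0
      rw [h6, map_zero]
    refine ⟨d, ?_⟩
    rw [hdb, hb, map_zero, zero_mul, add_zero]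
  have hκ0 : κ ≠ 0 := by
    intro h
    apply hκ 0
    rw [h, map_zero]
  have h2E : (2 : E) ≠ 0 := by
    intro h
    apply h2
    apply (algebraMap F E).injective
    rw [map_zero, map_ofNat, h]
  have hκq : κ ^ q = -κ := by
    have h3 : κ ^ q * κ ^ q = κ * κ := by
      rw [← mul_pow, hd, ← map_pow, hpowF]
    have h4 : (κ ^ q - κ) * (κ ^ q + κ) = 0 := by linear_combination h3
    rcases mul_eq_zero.1 h4 with h5 | h5
    · exfalso
      have h6 : κ ^ Fintype.card F = κ := by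
        rw [← Nat.card_eq_fintype_card, ← hq]
        exact sub_eq_zero.1 h5
      obtain ⟨c, hc⟩ := Cfsg.Agent.H930.Prm.exists_alg_of_pow h6
      exact hκ c hc
    · exact eq_neg_of_add_eq_zero_left h5
  let instM : Module E (I6 → F) := modOf ρ
  have hsmul : ∀ (k : E) (v : I6 → F), k • v = ρ k *ᵥ v := fun _ _ => rfl
  have instT : IsScalarTower F E (I6 → F) := by
    refine ⟨fun c k v => ?_⟩
    rw [hsmul, hsmul, map_smul, smul_mulVec]
  have hsmulF : ∀ (c : F) (v : I6 → F), algebraMap F E c • v = c • v := fun c v => hρalg c v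
  -- the hermitian form
  let H : (I6 → F) → (I6 → F) → E := fun x y =>
    algebraMap F E (sympForm 3 F (ρ κ *ᵥ x) y) + algebraMap F E (sympForm 3 F x y) * κ
  have hH : ∀ x y, H x y = algebraMap F E (sympForm 3 F (ρ κ *ᵥ x) y) + algebraMap F E (sympForm 3 F x y) * κ :=
    fun _ _ => rfl
  have hHadd : ∀ x y z, H (x + y) z = H x z + H y z := by
    intro x y z
    rw [hH, hH, hH, mulVec_add, sympForm_add_left, sympForm_add_left, map_add, map_add]
    ring
  have hHκ : ∀ x y, H (ρ κ *ᵥ x) y = κ * H x y := by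
    intro x y
    rw [hH, hH, mulVec_mulVec, ← map_mul, hd, hρalg, sympForm_smul_left, map_mul, ← hd]
    ring
  have hHc : ∀ (c : F) x y, H (c • x) y = algebraMap F E c * H x y := by
    intro c x y
    rw [hH, hH, mulVec_smul, sympForm_smul_left, sympForm_smul_left, map_mul, map_mul]
    ring
  have hHsmul : ∀ (k : E) x y, H (k • x) y = k * H x y := by
    intro k x y
    obtain ⟨a, b, rfl⟩ := hspan k
    rw [hsmul, map_add, map_mul, add_mulVec, ← mulVec_mulVec, hρalg, hρalg, hHadd, hHc, hHc, hHκ]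
    ring
  have hHswap : ∀ x y, H y x = H x y ^ q := by
    intro x y
    rw [hH, hH, add_pow_q hcE, mul_pow, ← map_pow, ← map_pow, hpowF, hpowF, hκq, sympForm_swap y x,
      sympForm_swap (ρ κ *ᵥ y) x, hadj x y]
    simp only [map_neg]
    ring
  have hHnd : ∀ x, (∀ y, H x y = 0) → x = 0 := by
    intro x hx
    apply eq_zero_of_forall_sympForm_right
    intro y
    have h3 := hx y
    rw [hH] at h3
    exact (two_coord hκ (a' := 0) (b' := 0) (by rw [h3]; simp)).2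
  obtain ⟨m, β₁, hβ₁⟩ := exists_herm_coord hcE H hHadd hHsmul hHswap hHnd
  have hm : m = 3 := by
    have h3 : finrank E (I6 → F) = m := by rw [← β₁.finrank_eq, finrank_fin_fun]
    have hfr99 : Module.Free E (I6 → F) := Module.Free.of_divisionRing _ _
    have hst99 : IsScalarTower F E (I6 → F) := by first | exact Subalgebra.isScalarTower_mid _ | infer_instance
    have h4 := Module.finrank_mul_finrank F E (I6 → F)
    rw [hfr, h3, Module.finrank_fintype_fun_eq_card, card_I6] at h4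
    omega
  subst hm
  let β : (Fin 3 → E) ≃ₗ[F] (I6 → F) := β₁.restrictScalars F
  have hβ : ∀ x, β x = β₁ x := fun _ => rfl
  rw [card_norm ρ β (fun k x => ?_) (sympForm 3 F) (spGL 3 F) (fun g => Iff.rfl)]
  · -- the multipliers
    have hε : ∀ σ : E ≃ₐ[F] E, σ κ = κ ∨ σ κ = -κ := by
      intro σ
      have h3 : σ κ * σ κ = κ * κ := by rw [← map_mul, hd, σ.commutes]
      have h4 : (σ κ - κ) * (σ κ + κ) = 0 := by linear_combination h3
      rcases mul_eq_zero.1 h4 with h5 | h5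
      · exact Or.inl (sub_eq_zero.1 h5)
      · exact Or.inr (eq_neg_of_add_eq_zero_left h5)
    let e : (E ≃ₐ[F] E) → E := fun σ => σ κ / κ
    have heκ : ∀ σ, σ κ = e σ * κ := fun σ => by
      show σ κ = σ κ / κ * κ
      rw [div_mul_cancel₀ _ hκ0]
    have he1 : ∀ σ, e σ = 1 ∨ e σ = -1 := by
      intro σ
      rcases hε σ with h3 | h3
      · left; show σ κ / κ = 1; rw [h3, div_self hκ0]
      · right; show σ κ / κ = -1; rw [h3, neg_div, div_self hκ0]
    have hee : ∀ σ, e σ * e σ = 1 := by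
      intro σ
      rcases he1 σ with h3 | h3 <;> rw [h3] <;> ring
    have heF : ∀ σ, ∃ c : F, e σ = algebraMap F E c := by
      intro σ
      rcases he1 σ with h3 | h3
      · exact ⟨1, by rw [h3, map_one]⟩
      · exact ⟨-1, by rw [h3, map_neg, map_one]⟩
    have he0 : ∀ σ, e σ ≠ 0 := by
      intro σ h3
      have := hee σ
      rw [h3, zero_mul] at this
      exact zero_ne_one this
    have hiff : ∀ t : (E ≃ₐ[F] E) × GL (Fin 3) E,
        (∀ x y, sympForm 3 F (β (semi t.2 t.1 x)) (β (semi t.2 t.1 y)) = sympForm 3 F (β x) (β y)) ↔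
          (∀ x y, hermForm 3 E q ((t.2 : Matrix (Fin 3) (Fin 3) E) *ᵥ x)
            ((t.2 : Matrix (Fin 3) (Fin 3) E) *ᵥ y) = e t.1 * hermForm 3 E q x y) := by
      rintro ⟨σ, A⟩
      simp only
      -- action of σ on the form
      have hσherm : ∀ x y : Fin 3 → E, hermForm 3 E q (fun i => σ (x i)) (fun i => σ (y i)) =
          σ (hermForm 3 E q x y) := by
        intro x y
        rw [herm_def, herm_def, map_sum]
        refine Finset.sum_congr rfl fun i _ => ?_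
        rw [map_mul, map_pow]
      have hsemiκ : ∀ x, β (semi A σ (κ • x)) = e σ • (ρ κ *ᵥ β (semi A σ x)) := by
        intro x
        rw [semi_smul, heκ, mul_smul, hβ, hβ, map_smul, map_smul]
        rfl
      have hform : ∀ x y, H (β x) (β y) = hermForm 3 E q x y := fun x y => hβ₁ x y
      constructor
      · intro h
        -- the hermitian form
        have h3 : ∀ x y, H (β (semi A σ x)) (β (semi A σ y)) = e σ * σ (H (β x) (β y)) := by
          intro x y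
          obtain ⟨c, hc⟩ := heF σ
          have hcc : c * c = 1 := by
            apply (algebraMap F E).injective
            rw [map_mul, ← hc, hee, map_one]
          have h4 := h (κ • x) y
          rw [hsemiκ, hc, hsmulF, sympForm_smul_left] at h4
          have h5 : β (κ • x) = ρ κ *ᵥ β x := by
            rw [hβ, hβ, map_smul]
            rfl
          rw [h5] at h4
          have h6 : sympForm 3 F (ρ κ *ᵥ β (semi A σ x)) (β (semi A σ y)) = c * sympForm 3 F (ρ κ *ᵥ β x) (β y) := by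
            rw [← h4, ← mul_assoc, hcc, one_mul]
          have h7 : algebraMap F E c * algebraMap F E c = 1 := by rw [← map_mul, hcc, map_one]
          have h8 : σ (H (β x) (β y)) = algebraMap F E (sympForm 3 F (ρ κ *ᵥ β x) (β y)) +
              algebraMap F E (sympForm 3 F (β x) (β y)) * (algebraMap F E c * κ) := by
            rw [hH, map_add, map_mul σ, σ.commutes, σ.commutes, heκ, hc]
          rw [h8, hH, h6, h, hc, map_mul]
          linear_combination (-(algebraMap F E (sympForm 3 F (β x) (β y))) * κ) * h7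
        intro x y
        have h4 := h3 (fun i => σ.symm (x i)) (fun i => σ.symm (y i))
        rw [hform, hform, ← hσherm] at h4
        unfold semi at h4
        simpa using h4
      · intro h x y
        have h3 : H (β (semi A σ x)) (β (semi A σ y)) = e σ * σ (H (β x) (β y)) := by
          rw [hform, hform]
          unfold semi
          rw [h, hσherm]
        rw [hH, hH, map_add, map_mul, σ.commutes, σ.commutes, heκ] at h3
        obtain ⟨c, hc⟩ := heF σ
        have h4 := hee σ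
        have h5 := two_coord hκ (a := sympForm 3 F (ρ κ *ᵥ β (semi A σ x)) (β (semi A σ y)))
          (b := sympForm 3 F (β (semi A σ x)) (β (semi A σ y)))
          (a' := c * sympForm 3 F (ρ κ *ᵥ β x) (β y)) (b' := sympForm 3 F (β x) (β y)) (by
            rw [h3, map_mul, ← hc]
            linear_combination (algebraMap F E (sympForm 3 F (β x) (β y)) * κ) * h4)
        exact h5.2
    rw [Nat.card_congr (Equiv.subtypeEquivRight hiff), card_simil e (fun σ => ?_) he0, card_GU3 hcE,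
      IsGalois.card_aut_eq_finrank, hfr]
    apply exists_norm_eq hcE
    obtain ⟨c, hc⟩ := heF σ
    rw [hc, ← map_pow, hpowF]
  · rw [hβ, hβ, map_smul]
    rfl

/-- **The order of `GU₂(q).2`.** -/
theorem card_herm3 (h2 : (2 : F) ≠ 0) {K : Subalgebra F (Matrix I6 I6 F)} (hK : IsFieldSubalgebra 2 K)
    (hac : IsAdjointClosedFor (sympForm 3 F) K) (hns : ¬ IsSelfAdjointFor (sympForm 3 F) K) :
    Nat.card ↥(subalgebraNormalizer K ⊓ spGL 3 F) =
      2 * (Nat.card F ^ 3 * (Nat.card F + 1) * (Nat.card F ^ 2 - 1) * (Nat.card F ^ 3 + 1)) := by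
  obtain ⟨E, hE, hA, ρ, rfl, hfr⟩ := Cfsg.Agent.H954.FieldSub.exists_field hK
  have : FiniteDimensional F E := Module.finite_of_finrank_pos (by rw [hfr]; norm_num)
  obtain ⟨k, hk, hkn⟩ : ∃ k ∈ ρ.range, ¬ ∀ u v, sympForm 3 F (k *ᵥ u) v = sympForm 3 F u (k *ᵥ v) := by
    by_contra hcon
    push Not at hcon
    exact hns hcon
  obtain ⟨k', hk', hadj⟩ := hac k hk
  have hadj' : ∀ u v, sympForm 3 F (k' *ᵥ u) v = sympForm 3 F u (k *ᵥ v) := by
    intro u v
    rw [sympForm_swap, ← hadj, sympForm_swap, neg_neg]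
  obtain ⟨a, rfl⟩ := hk
  obtain ⟨b, rfl⟩ := hk'
  change ∀ u v, sympForm 3 F (ρ a *ᵥ u) v = sympForm 3 F u (ρ b *ᵥ v) at hadj
  change ∀ u v, sympForm 3 F (ρ b *ᵥ u) v = sympForm 3 F u (ρ a *ᵥ v) at hadj'
  have hκadj : ∀ u v, sympForm 3 F (ρ (a - b) *ᵥ u) v = - sympForm 3 F u (ρ (a - b) *ᵥ v) := by
    intro u v
    rw [map_sub, sub_mulVec, sub_mulVec, sympForm_sub_left, sympForm_sub_right, hadj, hadj']
    ring
  refine card_six_herm h2 hfr ρ (κ := a - b) (fun c hc => ?_) hκadj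
  have h1 : ∀ u v, 2 * (c * sympForm 3 F u v) = 0 := by
    intro u v
    have := hκadj u v
    rw [hc, AlgHom.commutes, Algebra.algebraMap_eq_smul_one, smul_mulVec, smul_mulVec, one_mulVec, one_mulVec,
      sympForm_smul_left, sympForm_smul_right] at this
    linear_combination this
  have hc0 : c = 0 := by
    by_contra hc0
    have h3 : (1 : I6 → F) = 0 := eq_zero_of_forall_sympForm_left fun w =>
      (mul_eq_zero.1 ((mul_eq_zero.1 (h1 w 1)).resolve_left h2)).resolve_left hc0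
    exact one_ne_zero h3
  rw [hc0, map_zero, sub_eq_zero] at hc
  apply hkn
  intro u v
  show sympForm 3 F (ρ a *ᵥ u) v = sympForm 3 F u (ρ a *ᵥ v)
  rw [hadj, hc]

end Cfsg.Agent.H402.Rg.Gu
end

-- part: H402/Rg/Lst3
section
/-!
# Proper subgroups of `Sp_6(q)`, `q` odd, of order divisible by a primitive prime of exponent 6 or 4
-/

set_option autoImplicit false
set_option linter.unusedSectionVars false

namespace Cfsg.Agent.H402.Rg

open Cfsg Cfsg.Geo Matrix Module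
open Cfsg.Agent.H884.El (PP)
open Cfsg.Agent.H248.Cov
open Cfsg.Agent.H262.El
open Cfsg.Agent.H109.Cov (L06 order_cases)
open scoped MatrixGroups

variable {F : Type} [Field F] [Fintype F] {p f : ℕ}

/-- the residual subgroups -/
theorem resid3 (hp : p.Prime) (hf : 1 ≤ f) (hF : Fintype.card F = p ^ f) (hodd : Odd (Fintype.card F))
    (h31 : 31 < Fintype.card F) {H : Subgroup (GL (Fin 3 ⊕ Fin 3) F)} (hH : H ≤ spGL 3 F) (h : L06 H) :
    Nat.card H ≤ 2419200 ∨ Nat.card H ∣ 2 * (f * (p ^ f * ((p ^ f) ^ 2 - 1))) := by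
  have hFn : Nat.card F = p ^ f := by rw [Nat.card_eq_fintype_card, hF]
  by_cases h5 : 5 ≤ p
  · rcases order_cases hp h5 hf hFn hH h with h1 | h1 | ⟨h1, -⟩ | h1 | ⟨h1, -⟩ | h1
    · exact Or.inl ((Nat.le_of_dvd (by norm_num) h1).trans (by norm_num))
    · exact Or.inl ((Nat.le_of_dvd (by norm_num) h1).trans (by norm_num))
    · exact Or.inl ((Nat.le_of_dvd (by norm_num) h1).trans (by norm_num))
    · exact Or.inl ((Nat.le_of_dvd (by norm_num) h1).trans (by norm_num))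
    · exact Or.inl (Nat.le_of_dvd (by norm_num) h1)
    · exact Or.inr h1
  · exfalso
    have hp3 : p = 3 := by
      have h2 := hp.two_le
      have h4 : p ≠ 4 := by rintro rfl; exact absurd hp (by norm_num)
      have h2' : p ≠ 2 := by
        rintro rfl
        rw [hF] at hodd
        exact absurd ((Nat.odd_pow_iff (by omega)).1 hodd) (by decide)
      omega
    subst hp3
    obtain ⟨P, p', hc, hp', hch, h⟩ := h
    have hpp : p' = 3 := Cfsg.Agent.H109.Cov.char_eq hp hFn hp'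
    subst hpp
    rcases h with ⟨-, h, -⟩ | ⟨-, ⟨h, -⟩ | ⟨h, -⟩⟩ | ⟨-, ⟨h, -⟩ | ⟨h, -⟩⟩ | ⟨-, h⟩ | ⟨-, h | ⟨h, -⟩⟩ |
      ⟨-, ⟨h, -⟩ | ⟨h, -⟩⟩ | ⟨-, h⟩ | ⟨-, h, -⟩ <;> omega

theorem not_dvd_small {r : ℕ} (hp : p.Prime) (hf : 1 ≤ f) {d : ℕ} (hd : 3 ≤ d) (hr : PP p (f * d) r) :
    ¬ r ∣ 2 * (f * (p ^ f * ((p ^ f) ^ 2 - 1))) := by
  intro h
  have hfd : f * 3 ≤ f * d := Nat.mul_le_mul_left _ hd
  have hlt := hr.lt (by omega)
  rcases hr.prime.dvd_mul.1 h with h1 | h1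
  · have := Nat.le_of_dvd (by norm_num) h1
    omega
  rcases hr.prime.dvd_mul.1 h1 with h2 | h2
  · have := Nat.le_of_dvd (by omega) h2
    omega
  rcases hr.prime.dvd_mul.1 h2 with h3 | h3
  · exact hr.not_dvd (by omega) (hr.prime.dvd_of_dvd_pow h3)
  · rw [← pow_mul, hr.dvd_iff hp.one_lt.le] at h3
    have := Nat.le_of_dvd (by omega) h3
    omega

/-- subgroups of order divisible by `r_6` -/
theorem list3_six (hp : p.Prime) (hf : 1 ≤ f) (hF : Fintype.card F = p ^ f) (hodd : Odd (Fintype.card F))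
    (h31 : 31 < Fintype.card F)
    (h06 : ∀ H : Subgroup (GL (Fin 3 ⊕ Fin 3) F), IsMaximalIn (spGL 3 F) H → InSymplecticResidualClass H → L06 H)
    {r : ℕ} (hr : PP p (f * 6) r) {X : Subgroup (GL (Fin 3 ⊕ Fin 3) F)} (hX : X ≤ spGL 3 F)
    (hne : X ≠ spGL 3 F) (hrX : r ∣ Nat.card X) :
    InFld 3 3 F X ∨ Nat.card X ∣ 2 * (Fintype.card F ^ 3 * (Fintype.card F + 1) * (Fintype.card F ^ 2 - 1) * (Fintype.card F ^ 3 + 1)) ∨
      Nat.card X ≤ 2419200 := by
  have hfin : Finite (GL (Fin 3 ⊕ Fin 3) F) := inferInstance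
  obtain ⟨M, hM, hXM⟩ := exists_max hX hne
  have hdvd : r ∣ Nat.card M := hrX.trans (Subgroup.card_dvd_of_le hXM)
  have hle : Nat.card X ≤ Nat.card M := Nat.card_le_card_of_injective _ (Subgroup.inclusion_injective hXM)
  obtain ⟨y, hy, hyr, hy1⟩ := exists_elt hr.prime hdvd
  have hι : Fintype.card (Fin 3 ⊕ Fin 3) = 6 := by simp
  have hFn : Nat.card F = p ^ f := by rw [Nat.card_eq_fintype_card, hF]
  have hod := od_of_pp hF hf (by norm_num) hr
  have hrq : PP (Nat.card F) 6 r := by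
    rw [hFn]
    exact Cfsg.Agent.H884.El.PP.of_pow hr hf
  have hrd := hod.lt
  have hyS : y ∈ spGL 3 F := hM.1.le hy
  have hirr : ∀ W : Submodule F (Fin 3 ⊕ Fin 3 → F), M ≤ subspaceStabilizer W → W = ⊥ ∨ W = ⊤ := fun W hW =>
    irr_of_od (by rw [hι]; exact hod) hyr hy1 W (fun v hv =>
      (Cfsg.Agent.H918.mem_subspaceStabilizer.1 (hW hy) v).1 hv)
  have hdec : ∀ (t k : ℕ) (D : Fin t → Submodule F (Fin 3 ⊕ Fin 3 → F)), k < 6 → t < 6 → IsMDecomposition k D →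
      ¬ M ≤ decompositionStabilizer D := by
    intro t k D hk ht hD hH
    have := Cfsg.Agent.H884.El.decomp_le hD hH hrq (by omega) hdvd
    omega
  rcases S5805.result M hM with ⟨W, h1, h2, rfl⟩ | ⟨W, h1, h2, h3, rfl⟩ | ⟨-, D, hD, rfl⟩ | ⟨-, D, hD, -, rfl⟩ |
    ⟨K, h1, h2, h3, rfl⟩ | ⟨-, K, h1, h2, h3, rfl⟩ | ⟨-, -, e, P, f₁, f₂, -, -, -, rfl⟩ | ⟨F₀, s, P, ζ, hs, hcard, -, -, rfl⟩ |
    ⟨h, -⟩ | h
  · exfalso
    rcases hirr W inf_le_left with h | h
    · exact h1 h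
    · exact totallySingular_ne_top (by norm_num) h2 h
  · exfalso
    rcases hirr W inf_le_left with h | h
    · exact h1 h
    · rw [h, finrank_top, Module.finrank_fintype_fun_eq_card, hι] at h3
      omega
  · exact absurd inf_le_left (hdec 3 2 D (by norm_num) (by norm_num) hD.decomp)
  · exact absurd inf_le_left (hdec 2 3 D (by norm_num) (by norm_num) hD)
  · exact Or.inl ⟨K, h1, h2, h3, hXM.trans inf_le_left⟩
  · right; left
    refine (Subgroup.card_dvd_of_le hXM).trans ?_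
    rw [Cfsg.Agent.H402.Rg.Gu.card_herm3 (two_ne hodd) h1 h2 h3, Nat.card_eq_fintype_card]
  · exact (Cfsg.Agent.H884.El.kill_tensor e P inf_le_left (by norm_num) (by norm_num) (by rw [hι]) hrq
      (by rw [hι]; omega) hdvd).elim
  · exact (Cfsg.Agent.H884.El.kill_subfield inf_le_left hs (by rw [Nat.card_eq_fintype_card]; exact hcard) hp hFn hr
      (by rw [hι]; omega) (by omega) hdvd).elim
  · exact absurd hodd h
  · rcases resid3 hp hf hF hodd h31 hM.1.le (h06 M hM h) with h1 | h1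
    · exact Or.inr (Or.inr (hle.trans h1))
    · exact absurd (hdvd.trans h1) (not_dvd_small hp hf (by norm_num) hr)

/-- subgroups of order divisible by `r_4` -/
theorem list3_four (hp : p.Prime) (hf : 1 ≤ f) (hF : Fintype.card F = p ^ f) (hodd : Odd (Fintype.card F))
    (h31 : 31 < Fintype.card F)
    (h06 : ∀ H : Subgroup (GL (Fin 3 ⊕ Fin 3) F), IsMaximalIn (spGL 3 F) H → InSymplecticResidualClass H → L06 H)
    {r : ℕ} (hr : PP p (f * 4) r) {X : Subgroup (GL (Fin 3 ⊕ Fin 3) F)} (hX : X ≤ spGL 3 F)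
    (hne : X ≠ spGL 3 F) (hrX : r ∣ Nat.card X) :
    (∃ W : Submodule F (Fin 3 ⊕ Fin 3 → F), W ≠ ⊥ ∧ finrank F W ≤ 2 ∧
      (finrank F W = 1 ∨ IsNondegenerateOn (sympForm 3 F) W) ∧ X ≤ subspaceStabilizer W) ∨ Nat.card X ≤ 2419200 := by
  have hfin : Finite (GL (Fin 3 ⊕ Fin 3) F) := inferInstance
  obtain ⟨M, hM, hXM⟩ := exists_max hX hne
  have hdvd : r ∣ Nat.card M := hrX.trans (Subgroup.card_dvd_of_le hXM)
  have hle : Nat.card X ≤ Nat.card M := Nat.card_le_card_of_injective _ (Subgroup.inclusion_injective hXM)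
  obtain ⟨y, hy, hyr, hy1⟩ := exists_elt hr.prime hdvd
  have hι : Fintype.card (Fin 3 ⊕ Fin 3) = 6 := by simp
  have hFn : Nat.card F = p ^ f := by rw [Nat.card_eq_fintype_card, hF]
  have hod := od_of_pp hF hf (by norm_num) hr
  have hrq : PP (Nat.card F) (2 * 2) r := by
    rw [hFn]
    exact Cfsg.Agent.H884.El.PP.of_pow hr hf
  have hrd := hod.lt
  have hyS : y ∈ spGL 3 F := hM.1.le hy
  have hrF := cast_ne_zero_of_od hod
  have hfix : Module.finrank F (fixS y) = 2 := by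
    have k1 := finrank_fixS hod hyr
    have k2 := finrank_fixS_lt (F := F) hy1
    rw [hι] at k1 k2
    omega
  have hdec : ∀ (t k : ℕ) (D : Fin t → Submodule F (Fin 3 ⊕ Fin 3 → F)), k < 4 → t < 4 → IsMDecomposition k D →
      ¬ M ≤ decompositionStabilizer D := by
    intro t k D hk ht hD hH
    have := Cfsg.Agent.H884.El.decomp_le hD hH hrq (by omega) hdvd
    omega
  rcases S5805.result M hM with ⟨W, h1, h2, rfl⟩ | ⟨W, h1, h2, h3, rfl⟩ | ⟨-, D, hD, rfl⟩ | ⟨-, D, hD, -, rfl⟩ |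
    ⟨K, h1, h2, h3, rfl⟩ | ⟨-, K, h1, h2, h3, rfl⟩ | ⟨-, -, e, P, f₁, f₂, -, -, -, rfl⟩ | ⟨F₀, s, P, ζ, hs, hcard, -, -, rfl⟩ |
    ⟨h, -⟩ | h
  · left
    have e1 : 2 * finrank F W ≤ 2 * 3 := Cfsg.Agent.H262.El.two_mul_finrank_le (fun u hu v hv => h2 u hu v hv)
    have e2 : W ≤ fixS y := le_fixS hod hyr (fun v hv => (Cfsg.Agent.H918.mem_subspaceStabilizer.1 hy.1 v).1 hv) (by omega)
    have e3 := Submodule.finrank_mono e2
    have e4 : finrank F W ≠ 2 := by
      intro h5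
      have e5 : W = fixS y := Submodule.eq_of_le_of_finrank_eq e2 (by omega)
      obtain ⟨w, hw, hw0⟩ := (Submodule.ne_bot_iff _).1 h1
      have e6 := nd_fixS hyS hrF hyr
      rw [← e5] at e6
      obtain ⟨⟨z, hz, hzw⟩, -⟩ := e6 w hw hw0
      exact hzw (h2 z hz w hw)
    have e5 : finrank F W ≠ 0 := fun h5 => h1 (Submodule.finrank_eq_zero.1 h5)
    exact ⟨W, h1, by omega, Or.inl (by omega), hXM.trans inf_le_left⟩
  · left
    exact ⟨W, h1, by omega, Or.inr h2, hXM.trans inf_le_left⟩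
  · exact absurd inf_le_left (hdec 3 2 D (by norm_num) (by norm_num) hD.decomp)
  · exact absurd inf_le_left (hdec 2 3 D (by norm_num) (by norm_num) hD)
  · exfalso
    have k1 := hdvd.trans (norm_dvd (n := 1) (by norm_num) (by norm_num) (by norm_num) h1 h2 h3 inf_le_right inf_le_left)
    rw [Finset.prod_range_one] at k1
    rcases hr.prime.dvd_mul.1 k1 with k2 | k2
    · have := Nat.le_of_dvd (by norm_num) k2
      omega
    rcases hr.prime.dvd_mul.1 k2 with k3 | k3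
    · have k4 := hr.prime.dvd_of_dvd_pow (hr.prime.dvd_of_dvd_pow k3)
      rw [hF] at k4
      exact hr.not_dvd (by omega) (hr.prime.dvd_of_dvd_pow k4)
    · rw [← pow_mul] at k3
      have k4 := (hod.dvd_iff Fintype.card_pos _).1 k3
      norm_num at k4
  · exact (Cfsg.Agent.H118.BS.no_quad_even hyS hrq (by decide) (by norm_num) hyr hy1 h1 h2 h3 hy.1).elim
  · exact (Cfsg.Agent.H884.El.kill_tensor e P inf_le_left (by norm_num) (by norm_num) (by rw [hι]) hrq
      (by rw [hι]; omega) hdvd).elim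
  · exact (Cfsg.Agent.H884.El.kill_subfield inf_le_left hs (by rw [Nat.card_eq_fintype_card]; exact hcard) hp hFn hr
      (by rw [hι]; omega) (by omega) hdvd).elim
  · exact absurd hodd h
  · rcases resid3 hp hf hF hodd h31 hM.1.le (h06 M hM h) with h1 | h1
    · exact Or.inr (hle.trans h1)
    · exact absurd (hdvd.trans h1) (not_dvd_small hp hf (by norm_num) hr)

end Cfsg.Agent.H402.Rg
end
end

-- part: H420/Rg/Sz
section
set_option linter.all false
open scoped Cfsg.Agent.FastGrp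

/-!
# S3691: the Suzuki groups (helper420)

`noTri_sz` : no `Tri (Lie.Sz F (2 ^ (m + 1))) X Y e`, `m ≥ 10`.
-/

set_option autoImplicit false

namespace Cfsg.Agent.H420.Rg

open Cfsg Subgroup Cfsg.Agent.H761.SzCls Cfsg.Agent.H56.Exc

variable {F : Type*} [Field F] [Fintype F] {m : ℕ}

theorem two_mul_le {m : ℕ} (h : 10 ≤ m) : 16 * (2 * m + 1) ≤ 2 ^ m := by
  induction m, h using Nat.le_induction with
  | base => norm_num
  | succ k hk ih =>
    rw [pow_succ]
    omega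

theorem six_le {a : ℕ} (h : 5 ≤ a) : 6 * a ≤ 2 ^ a := by
  induction a, h using Nat.le_induction with
  | base => norm_num
  | succ k hk ih =>
    rw [pow_succ]
    omega

/-- the orders of the proper subgroups -/
theorem sz_card' (h10 : 10 ≤ m) (hF : Fintype.card F = 2 ^ (2 * m + 1)) (L : Subgroup (Cfsg.Sz F m)) (hL : L ≠ ⊤) :
    Nat.card L ∣ (2 ^ (2 * m + 1)) ^ 2 * (2 ^ (2 * m + 1) - 1) ∨
      (2 * m + 1) * Nat.card L ≤ (2 ^ (2 * m + 1)) ^ 2 := by
  have hm : 1 ≤ m := by omega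
  obtain ⟨h1, h2, h3, -, -⟩ := qt hm
  have h16 := two_mul_le h10
  have hqt : 2 ^ (2 * m + 1) = 2 * (2 ^ m * 2 ^ m) := by rw [← pow_add, ← pow_succ']; congr 1; omega
  have ht : 2 ^ (m + 1) = 2 * 2 ^ m := by rw [pow_succ']
  rcases S2251.result hm hF L hL with ⟨Q, hQ⟩ | ⟨V, hV, hVc, hKV⟩ | ⟨K, _, _, k, hk, hkm, hK, hdiv, S, ⟨e⟩, hKS⟩
  · left
    rw [← card_norm_sylow hm hF Q]
    exact Subgroup.card_dvd_of_le hQ
  · right
    obtain ⟨j, hj⟩ := mem_set_iff.1 hVc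
    have hV' : IsTor V j := ⟨hV, hj⟩
    have hfin := finite_Sz F m
    refine (Nat.mul_le_mul_left _ (Subgroup.card_le_of_le hKV)).trans ?_
    rw [card_norm hm hF hV']
    refine (Nat.mul_le_mul_left _ (Nat.mul_le_mul_right _ (cT_le j).1)).trans ?_
    have h4 : nT m j ≤ 2 ^ (2 * m + 1) + 2 ^ (m + 1) + 1 := by
      fin_cases j
      · show 2 ^ (2 * m + 1) - 1 ≤ _
        omega
      · show 2 ^ (2 * m + 1) + 2 ^ (m + 1) + 1 ≤ _
        omega
      · show 2 ^ (2 * m + 1) - 2 ^ (m + 1) + 1 ≤ _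
        omega
    have h5 : nT m j ≤ 2 * 2 ^ (2 * m + 1) := by
      refine h4.trans ?_
      rw [hqt, ht]
      generalize 2 ^ m = z at *
      linarith only [h3, h16, hqt, ht]
    have h6 : (2 * m + 1) * (4 * nT m j) ≤ (2 * m + 1) * (4 * (2 * 2 ^ (2 * m + 1))) :=
      Nat.mul_le_mul_left _ (Nat.mul_le_mul_left _ h5)
    refine h6.trans ?_
    calc (2 * m + 1) * (4 * (2 * 2 ^ (2 * m + 1))) = (8 * (2 * m + 1)) * 2 ^ (2 * m + 1) := by ring
      _ ≤ 2 ^ (2 * m + 1) * 2 ^ (2 * m + 1) := by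
        refine Nat.mul_le_mul_right _ ?_
        rw [hqt]
        generalize 2 ^ m = z at *
        linarith only [h3, h16, hqt, ht]
      _ = _ := by rw [pow_two]
  · right
    have hfin := finite_Sz F m
    refine (Nat.mul_le_mul_left _ (Subgroup.card_le_of_le hKS)).trans ?_
    rw [Nat.card_congr e.toEquiv, S0324.result hk hK]
    obtain ⟨-, -, -, h6⟩ := sub_arith hk hkm hdiv
    obtain ⟨l, hl⟩ := hdiv
    have hl4 : l = 3 ∨ 5 ≤ l := by
      rcases Nat.lt_or_ge l 5 with h | h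
      · interval_cases l <;> (clear * - hl hkm; omega)
      · exact Or.inr h
    set q := 2 ^ (2 * m + 1) with hq
    set s := 2 ^ (2 * k + 1) with hs
    have h7 : s ^ 2 * (s ^ 2 + 1) * (s - 1) ≤ 2 * s ^ 5 := by
      calc s ^ 2 * (s ^ 2 + 1) * (s - 1) ≤ s ^ 2 * (2 * s ^ 2) * s := by
            refine Nat.mul_le_mul (Nat.mul_le_mul_left _ ?_) (Nat.sub_le _ _)
            have : 1 ≤ s ^ 2 := Nat.one_le_pow _ _ (by omega)
            omega
        _ = 2 * s ^ 5 := by ring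
    refine (Nat.mul_le_mul_left _ h7).trans ?_
    have hql : q = s ^ l := by rw [hq, hl, pow_mul]
    rcases hl4 with rfl | hl5
    · have h8 : 2 * (2 * m + 1) ≤ s := by
        rw [hl, hs]
        have := six_le (a := 2 * k + 1) (by omega)
        omega
      calc (2 * m + 1) * (2 * s ^ 5) = (2 * (2 * m + 1)) * s ^ 5 := by ring
        _ ≤ s * s ^ 5 := Nat.mul_le_mul_right _ h8
        _ = q ^ 2 := by rw [hql]; ring
    · have h8 : s ^ 5 ≤ q := by rw [hql]; exact Nat.pow_le_pow_right (by omega) hl5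
      have h9 : 2 * (2 * m + 1) ≤ q := by
        rw [hqt]
        generalize 2 ^ m = z at *
        linarith only [h3, h16, ht, hqt]
      calc (2 * m + 1) * (2 * s ^ 5) = (2 * (2 * m + 1)) * s ^ 5 := by ring
        _ ≤ q * q := Nat.mul_le_mul h9 h8
        _ = q ^ 2 := by rw [pow_two]

theorem noTri_sz' (h10 : 10 ≤ m) (hF : Fintype.card F = 2 ^ (2 * m + 1)) {X Y : Subgroup (Cfsg.Sz F m)} {e : ℕ}
    (hX : X ≠ ⊤) (hY : Y ≠ ⊤) (he : e ≤ 2 * m + 1)
    (hc : Nat.card X * Nat.card Y * e = Nat.card (Cfsg.Sz F m)) : False := by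
  have hm : 1 ≤ m := by omega
  have hfin := finite_Sz F m
  have h16 := two_mul_le h10
  have hqt : 2 ^ (2 * m + 1) = 2 * (2 ^ m * 2 ^ m) := by rw [← pow_add, ← pow_succ']; congr 1; omega
  have hbq : 2 * m + 1 < 2 ^ (2 * m + 1) := by
    rw [hqt]
    generalize 2 ^ m = z at *
    nlinarith only [h16]
  rw [S0324.result hm hF] at hc
  have hXc := sz_card' h10 hF X hX
  have hYc := sz_card' h10 hF Y hY
  have hXp : 0 < Nat.card X := Nat.card_pos
  have hYp : 0 < Nat.card Y := Nat.card_pos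
  generalize 2 ^ (2 * m + 1) = q at *
  generalize Nat.card X = a at *
  generalize Nat.card Y = b at *
  have hq22 : 22 ≤ q := by omega
  have hpos : 0 < q ^ 2 * (q - 1) := Nat.mul_pos (by positivity) (by omega)
  have hepos : 0 < e := by
    rcases Nat.eq_zero_or_pos e with rfl | h
    · rw [mul_zero] at hc
      have : 0 < q ^ 2 * (q ^ 2 + 1) * (q - 1) := Nat.mul_pos (by positivity) (by omega)
      omega
    · exact h
  have hbig : ∀ a b : ℕ, (2 * m + 1) * a ≤ q ^ 2 → b ≤ q ^ 2 * (q - 1) →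
      a * b * e = q ^ 2 * (q ^ 2 + 1) * (q - 1) → False := by
    intro a b ha hb hab
    have h1 : a * b * e ≤ q ^ 2 * (q ^ 2 * (q - 1)) := by
      calc a * b * e ≤ a * b * (2 * m + 1) := Nat.mul_le_mul_left _ he
        _ = ((2 * m + 1) * a) * b := by ring
        _ ≤ _ := Nat.mul_le_mul ha hb
    rw [hab] at h1
    have h2 : q ^ 2 * (q ^ 2 * (q - 1)) + q ^ 2 * (q - 1) = q ^ 2 * (q ^ 2 + 1) * (q - 1) := by ring
    omega
  have hsm : ∀ b : ℕ, (2 * m + 1) * b ≤ q ^ 2 → b ≤ q ^ 2 * (q - 1) := by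
    intro b hb
    have h1 : b ≤ (2 * m + 1) * b := Nat.le_mul_of_pos_left _ (by omega)
    have h2 : q ^ 2 ≤ q ^ 2 * (q - 1) := Nat.le_mul_of_pos_right _ (by omega)
    omega
  rcases hXc with h4 | h4 <;> rcases hYc with h5 | h5
  · have h7 : q ^ 2 * (q ^ 2 + 1) * (q - 1) ∣ (q ^ 2 * (q - 1)) * (q ^ 2 * (q - 1)) * e := by
      rw [← hc]; exact mul_dvd_mul (mul_dvd_mul h4 h5) dvd_rfl
    have h8 : q ^ 2 + 1 ∣ q ^ 2 * (q - 1) * e := by
      have h9 : (q ^ 2 * (q - 1)) * (q ^ 2 + 1) ∣ (q ^ 2 * (q - 1)) * (q ^ 2 * (q - 1) * e) := by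
        have e1 : (q ^ 2 * (q - 1)) * (q ^ 2 + 1) = q ^ 2 * (q ^ 2 + 1) * (q - 1) := by ring
        have e2 : (q ^ 2 * (q - 1)) * (q ^ 2 * (q - 1) * e) = (q ^ 2 * (q - 1)) * (q ^ 2 * (q - 1)) * e := by ring
        rw [e1, e2]
        exact h7
      exact Nat.dvd_of_mul_dvd_mul_left hpos h9
    have hc2 : Nat.Coprime (q ^ 2 + 1) (q ^ 2) := by
      rw [Nat.coprime_self_add_left]; exact Nat.coprime_one_left _
    have h9 : q ^ 2 + 1 ∣ (q - 1) * e := by
      rw [mul_assoc] at h8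
      exact hc2.dvd_of_dvd_mul_left h8
    have h10' := Nat.le_of_dvd (Nat.mul_pos (by omega) hepos) h9
    have h11 : (q - 1) * e ≤ q * q := Nat.mul_le_mul (by omega) (by omega)
    rw [pow_two] at h10'
    omega
  · exact hbig b a h5 (Nat.le_of_dvd hpos h4) (by rw [mul_comm b a]; exact hc)
  · exact hbig a b h4 (Nat.le_of_dvd hpos h5) hc
  · exact hbig a b h4 (hsm b h5) hc

/-- **Sz** -/
theorem noTri_sz (h10 : 10 ≤ m) (hF : Fintype.card F = 2 ^ (2 * m + 1)) {X Y : Subgroup (Lie.Sz F (2 ^ (m + 1)))} {e : ℕ}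
    (h : Tri (Lie.Sz F (2 ^ (m + 1))) X Y e) : False := by
  have hm : 1 ≤ m := by omega
  obtain ⟨f⟩ := Cfsg.Agent.OddCyclic.ClaimC.SzIso.iso hm hF
  have hfin := finite_Sz F m
  have hfin' : Finite (Lie.Sz F (2 ^ (m + 1))) := Finite.of_equiv _ f.toEquiv
  have hc : ∀ X : Subgroup (Lie.Sz F (2 ^ (m + 1))), Nat.card (X.map f.symm.toMonoidHom) = Nat.card X := fun X =>
    card_map_of_injective f.symm.injective
  have ht : ∀ X : Subgroup (Lie.Sz F (2 ^ (m + 1))), X.map f.symm.toMonoidHom = ⊤ → X = ⊤ := by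
    intro X hX
    rw [← card_eq_iff_eq_top] at hX ⊢
    rw [← hc, hX]
    exact (Nat.card_congr f.toEquiv)
  have h1 := h.out
  rw [Cfsg.Agent.S2126.result hm hF] at h1
  refine noTri_sz' h10 hF (X := X.map f.symm.toMonoidHom) (Y := Y.map f.symm.toMonoidHom) (e := e)
    (fun hx => h.left (ht _ hx)) (fun hy => h.right (ht _ hy)) (Nat.le_of_dvd (by omega) h1) ?_
  rw [hc, hc, h.card]
  exact (Nat.card_congr f.toEquiv).symm

end Cfsg.Agent.H420.Rg
end

-- part: H831/Rl/HerF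
section
set_option linter.all false

/-!
# S3691, PSL-6 (helper831): `hering_H`, `hering_B` for known simple groups (no import of S0000)
-/

set_option autoImplicit false

namespace Cfsg.Agent.H831.Rl

open Cfsg Cfsg.Geo Matrix Cfsg.Agent.H454.Reg Cfsg.Agent.H851.Rl
open scoped MatrixGroups

universe u

theorem hAct_of_known (hX : ∀ (X : Type) [Group X] [Finite X] [IsSimpleGroup X], IsKnownSimple' X) : HAct :=
  fun {_ _} _ _ _ _ _ q n hq hn hn2 H hadd hsemi htrans =>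
    Cfsg.Agent.H667.HerFin.action_of_main (Cfsg.Agent.H50.Her.main_of_known hX) Cfsg.Agent.H50.Her.altSix
      Cfsg.Agent.H50.Her.altSeven Cfsg.Agent.H50.Her.thirteen q n hq hn hn2 H hadd hsemi htrans

end Cfsg.Agent.H831.Rl
end

-- part: H420/Rg/G2L_mg
section
set_option linter.all false
open scoped Cfsg.Agent.FastGrp

-- part: H420/Rg/G2L
section
/-!
# S3691, `G₂(q)`: the two lists of groups of Lie type in characteristic `p`, and sizes (helper420)

* `L3 p f g` : the groups with `Mg = 3 f` whose order may divide `|G₂(p ^ f)|`;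
* `L6 p f g` : the groups with `Mg = 6 f`;
* `pair_false` : a group of the second list and a group of the first list with the `p`-part `q³` are too large together.
-/

set_option autoImplicit false

namespace Cfsg.Agent.H420.Rg

open Cfsg.Agent.OrdDiv Cfsg.Agent.H436

variable {p f : ℕ} {g : Grp}

/-- the groups with `Mg = 3 f`, `p`-part `q ^ (3 / 2)` -/
def L3a (p f : ℕ) (g : Grp) : Prop :=
  (∃ h, f = 2 * h ∧ (g = .psl 2 (p ^ (3 * h)) ∨ g = .psu 3 (p ^ h) ∨ g = .ree (p ^ h))) ∨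
  (∃ h, f = 4 * h ∧ g = .sz (p ^ (3 * h)))

/-- the groups with `Mg = 3 f`, `p`-part `q ^ 3` -/
def L3b (p f : ℕ) (g : Grp) : Prop :=
  g = .psl 3 (p ^ f) ∨ (∃ h, f = 2 * h ∧ (g = .psu 4 (p ^ h) ∨ g = .g2 (p ^ h))) ∨
  (∃ h, f = 4 * h ∧ g = .tf4 (p ^ h))

/-- the groups with `Mg = 6 f` -/
def L6 (p f : ℕ) (g : Grp) : Prop :=
  g = .g2 (p ^ f) ∨ g = .psl 2 (p ^ (3 * f)) ∨ g = .psu 3 (p ^ f) ∨ (p = 3 ∧ g = .ree (p ^ f)) ∨
  (p = 2 ∧ ∃ h, f = 2 * h ∧ (g = .tf4 (p ^ h) ∨ g = .sz (p ^ (3 * h))))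

/-- the groups of `L6` with `p`-part `q ^ 3` and order prime to the class 3 -/
def L6b (p f : ℕ) (g : Grp) : Prop :=
  g = .psu 3 (p ^ f) ∨ (p = 3 ∧ g = .ree (p ^ f)) ∨ (p = 2 ∧ ∃ h, f = 2 * h ∧ g = .sz (p ^ (3 * h)))

theorem half {a n : ℕ} (ha : 2 ≤ a) (hn : 1 ≤ n) : a ^ n ≤ 2 * (a ^ n - 1) := by
  have : 2 ≤ a ^ n := ha.trans (Nat.le_self_pow (by omega) _)
  omega

/-- a product of four factors with bounds -/
theorem lb_psu3 {q c : ℕ} (hq : 2 ≤ q) (hc : den (.psu 3 q) * c = num (.psu 3 q)) : q ^ 8 ≤ 6 * c := by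
  have h1 : Nat.gcd 3 (q + 1) * (q + 1) * c = q ^ 3 * ((q ^ 1 + 1) * ((q ^ 2 - 1) * ((q ^ 3 + 1) * 1))) := hc
  rw [pow_one] at h1
  have hg : Nat.gcd 3 (q + 1) ≤ 3 := Nat.gcd_le_left _ (by norm_num)
  have h2 : Nat.gcd 3 (q + 1) * c = q ^ 3 * ((q ^ 2 - 1) * (q ^ 3 + 1)) := by
    apply Nat.eq_of_mul_eq_mul_left (show 0 < q + 1 by omega)
    calc (q + 1) * (Nat.gcd 3 (q + 1) * c) = Nat.gcd 3 (q + 1) * (q + 1) * c := by ring
      _ = _ := h1
      _ = _ := by ring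
  have h3 : Nat.gcd 3 (q + 1) * c ≤ 3 * c := Nat.mul_le_mul_right _ hg
  have h4 := half hq (show 1 ≤ 2 by norm_num)
  have h5 : q ^ 2 * q ^ 3 ≤ 2 * (q ^ 2 - 1) * (q ^ 3 + 1) := Nat.mul_le_mul h4 (by omega)
  calc q ^ 8 = q ^ 3 * (q ^ 2 * q ^ 3) := by ring
    _ ≤ q ^ 3 * (2 * (q ^ 2 - 1) * (q ^ 3 + 1)) := Nat.mul_le_mul_left _ h5
    _ = 2 * (q ^ 3 * ((q ^ 2 - 1) * (q ^ 3 + 1))) := by ring
    _ = 2 * (Nat.gcd 3 (q + 1) * c) := by rw [h2]
    _ ≤ 6 * c := by omega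

theorem lb_psl3 {q c : ℕ} (hq : 2 ≤ q) (hc : den (.psl 3 q) * c = num (.psl 3 q)) : q ^ 8 ≤ 12 * c := by
  have h1 : Nat.gcd 3 (q - 1) * (q - 1) * c = (q ^ 3 - q ^ 0) * ((q ^ 3 - q ^ 1) * ((q ^ 3 - q ^ 2) * 1)) := hc
  have hg : Nat.gcd 3 (q - 1) ≤ 3 := Nat.gcd_le_left _ (by norm_num)
  obtain ⟨x, rfl⟩ : ∃ x, q = x + 1 := ⟨q - 1, by omega⟩
  have e0 : (x + 1) ^ 3 - (x + 1) ^ 0 = (x + 1) ^ 3 - 1 := by rw [pow_zero]
  have e1 : (x + 1) ^ 3 - (x + 1) ^ 1 = (x + 1) * ((x + 1) ^ 2 - 1) := by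
    rw [Nat.mul_sub, ← pow_succ', mul_one, pow_one]
  have e2 : (x + 1) ^ 3 - (x + 1) ^ 2 = (x + 1) ^ 2 * x := by
    apply Nat.sub_eq_of_eq_add; ring
  rw [e0, e1, e2, Nat.add_sub_cancel] at h1
  have hx : 0 < x := by omega
  have h2 : Nat.gcd 3 x * c = (x + 1) ^ 3 * (((x + 1) ^ 2 - 1) * ((x + 1) ^ 3 - 1)) := by
    apply Nat.eq_of_mul_eq_mul_left hx
    calc x * (Nat.gcd 3 x * c) = Nat.gcd 3 x * x * c := by ring
      _ = _ := h1
      _ = _ := by ring
  have h3 : Nat.gcd 3 x * c ≤ 3 * c := Nat.mul_le_mul_right _ (by simpa using hg)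
  have h4 := half hq (show 1 ≤ 2 by norm_num)
  have h4' := half hq (show 1 ≤ 3 by norm_num)
  have h5 : (x + 1) ^ 2 * (x + 1) ^ 3 ≤ 2 * ((x + 1) ^ 2 - 1) * (2 * ((x + 1) ^ 3 - 1)) := Nat.mul_le_mul h4 h4'
  calc (x + 1) ^ 8 = (x + 1) ^ 3 * ((x + 1) ^ 2 * (x + 1) ^ 3) := by ring
    _ ≤ (x + 1) ^ 3 * (2 * ((x + 1) ^ 2 - 1) * (2 * ((x + 1) ^ 3 - 1))) := Nat.mul_le_mul_left _ h5
    _ = 4 * ((x + 1) ^ 3 * (((x + 1) ^ 2 - 1) * ((x + 1) ^ 3 - 1))) := by ring
    _ = 4 * (Nat.gcd 3 x * c) := by rw [h2]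
    _ ≤ 12 * c := by omega

theorem lb_psu4 {q c : ℕ} (hq : 2 ≤ q) (hc : den (.psu 4 q) * c = num (.psu 4 q)) : q ^ 15 ≤ 16 * c := by
  have h1 : Nat.gcd 4 (q + 1) * (q + 1) * c = q ^ 6 * ((q ^ 1 + 1) * ((q ^ 2 - 1) * ((q ^ 3 + 1) * ((q ^ 4 - 1) * 1)))) := hc
  rw [pow_one] at h1
  have hg : Nat.gcd 4 (q + 1) ≤ 4 := Nat.gcd_le_left _ (by norm_num)
  have h2 : Nat.gcd 4 (q + 1) * c = q ^ 6 * ((q ^ 2 - 1) * ((q ^ 3 + 1) * (q ^ 4 - 1))) := by
    apply Nat.eq_of_mul_eq_mul_left (show 0 < q + 1 by omega)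
    calc (q + 1) * (Nat.gcd 4 (q + 1) * c) = Nat.gcd 4 (q + 1) * (q + 1) * c := by ring
      _ = _ := h1
      _ = _ := by ring
  have h3 : Nat.gcd 4 (q + 1) * c ≤ 4 * c := Nat.mul_le_mul_right _ hg
  have h4 := half hq (show 1 ≤ 2 by norm_num)
  have h4' := half hq (show 1 ≤ 4 by norm_num)
  have h5 : q ^ 2 * (q ^ 3 * q ^ 4) ≤ 2 * (q ^ 2 - 1) * ((q ^ 3 + 1) * (2 * (q ^ 4 - 1))) :=
    Nat.mul_le_mul h4 (Nat.mul_le_mul (by omega) h4')
  calc q ^ 15 = q ^ 6 * (q ^ 2 * (q ^ 3 * q ^ 4)) := by ring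
    _ ≤ q ^ 6 * (2 * (q ^ 2 - 1) * ((q ^ 3 + 1) * (2 * (q ^ 4 - 1)))) := Nat.mul_le_mul_left _ h5
    _ = 4 * (q ^ 6 * ((q ^ 2 - 1) * ((q ^ 3 + 1) * (q ^ 4 - 1)))) := by ring
    _ = 4 * (Nat.gcd 4 (q + 1) * c) := by rw [h2]
    _ ≤ 16 * c := by omega

theorem lb_g2 {q c : ℕ} (hq : 2 ≤ q) (hc : den (.g2 q) * c = num (.g2 q)) : q ^ 14 ≤ 4 * c := by
  have h1 : 1 * c = q ^ 6 * ((q ^ 2 - 1) * (q ^ 6 - 1)) := hc
  have h4 := half hq (show 1 ≤ 2 by norm_num)
  have h4' := half hq (show 1 ≤ 6 by norm_num)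
  have h5 : q ^ 2 * q ^ 6 ≤ 2 * (q ^ 2 - 1) * (2 * (q ^ 6 - 1)) := Nat.mul_le_mul h4 h4'
  calc q ^ 14 = q ^ 6 * (q ^ 2 * q ^ 6) := by ring
    _ ≤ q ^ 6 * (2 * (q ^ 2 - 1) * (2 * (q ^ 6 - 1))) := Nat.mul_le_mul_left _ h5
    _ = 4 * (q ^ 6 * ((q ^ 2 - 1) * (q ^ 6 - 1))) := by ring
    _ = 4 * (1 * c) := by rw [h1]
    _ ≤ 4 * c := by omega

theorem lb_tf4 {q c : ℕ} (hq : 2 ≤ q) (hc : den (.tf4 q) * c = num (.tf4 q)) : q ^ 26 ≤ 4 * c := by
  have h1 : 1 * c = q ^ 12 * ((q - 1) * (q ^ 3 + 1) * (q ^ 4 - 1) * (q ^ 6 + 1)) := hc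
  have h4 : q ≤ 2 * (q - 1) := by omega
  have h4' := half hq (show 1 ≤ 4 by norm_num)
  have h5 : q * (q ^ 3 * (q ^ 4 * q ^ 6)) ≤ 2 * (q - 1) * ((q ^ 3 + 1) * (2 * (q ^ 4 - 1) * (q ^ 6 + 1))) :=
    Nat.mul_le_mul h4 (Nat.mul_le_mul (by omega) (Nat.mul_le_mul h4' (by omega)))
  calc q ^ 26 = q ^ 12 * (q * (q ^ 3 * (q ^ 4 * q ^ 6))) := by ring
    _ ≤ q ^ 12 * (2 * (q - 1) * ((q ^ 3 + 1) * (2 * (q ^ 4 - 1) * (q ^ 6 + 1)))) := Nat.mul_le_mul_left _ h5
    _ = 4 * (q ^ 12 * ((q - 1) * (q ^ 3 + 1) * (q ^ 4 - 1) * (q ^ 6 + 1))) := by ring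
    _ = 4 * (1 * c) := by rw [h1]
    _ ≤ 4 * c := by omega

theorem lb_sz {q c : ℕ} (hq : 2 ≤ q) (hc : den (.sz q) * c = num (.sz q)) : q ^ 5 ≤ 2 * c := by
  have h1 : 1 * c = q ^ 2 * ((q - 1) * (q ^ 2 + 1)) := hc
  have h4 : q ≤ 2 * (q - 1) := by omega
  have h5 : q * q ^ 2 ≤ 2 * (q - 1) * (q ^ 2 + 1) := Nat.mul_le_mul h4 (by omega)
  calc q ^ 5 = q ^ 2 * (q * q ^ 2) := by ring
    _ ≤ q ^ 2 * (2 * (q - 1) * (q ^ 2 + 1)) := Nat.mul_le_mul_left _ h5
    _ = 2 * (q ^ 2 * ((q - 1) * (q ^ 2 + 1))) := by ring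
    _ = 2 * (1 * c) := by rw [h1]
    _ ≤ 2 * c := by omega

theorem lb_ree {q c : ℕ} (hq : 2 ≤ q) (hc : den (.ree q) * c = num (.ree q)) : q ^ 7 ≤ 2 * c := by
  have h1 : 1 * c = q ^ 3 * ((q - 1) * (q ^ 3 + 1)) := hc
  have h4 : q ≤ 2 * (q - 1) := by omega
  have h5 : q * q ^ 3 ≤ 2 * (q - 1) * (q ^ 3 + 1) := Nat.mul_le_mul h4 (by omega)
  calc q ^ 7 = q ^ 3 * (q * q ^ 3) := by ring
    _ ≤ q ^ 3 * (2 * (q - 1) * (q ^ 3 + 1)) := Nat.mul_le_mul_left _ h5
    _ = 2 * (q ^ 3 * ((q - 1) * (q ^ 3 + 1))) := by ring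
    _ = 2 * (1 * c) := by rw [h1]
    _ ≤ 2 * c := by omega

/-- the comparison -/
theorem cmp {q a b A B K : ℕ} (hq : 0 < q) (hab : a * b < q ^ 14) {i j : ℕ} (hA : q ^ i ≤ (A * a) ^ 2) (hB : q ^ j ≤ (B * b) ^ 2)
    (hij : 28 ≤ i + j) (hK : (A * B) ^ 2 ≤ q ^ (i + j - 28)) (hAB : A * B = K) (hK0 : 0 < K) : False := by
  have h1 : q ^ i * q ^ j ≤ (A * a) ^ 2 * (B * b) ^ 2 := Nat.mul_le_mul hA hB
  have h2 : (A * a) ^ 2 * (B * b) ^ 2 = (A * B) ^ 2 * (a * b) ^ 2 := by ring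
  have h3 : (a * b) ^ 2 < (q ^ 14) ^ 2 := Nat.pow_lt_pow_left hab (by norm_num)
  have h4 : (A * B) ^ 2 * (a * b) ^ 2 < (A * B) ^ 2 * (q ^ 14) ^ 2 := by
    refine Nat.mul_lt_mul_of_pos_left h3 ?_
    rw [hAB]
    positivity
  have h5 : (A * B) ^ 2 * (q ^ 14) ^ 2 ≤ q ^ (i + j - 28) * (q ^ 14) ^ 2 := Nat.mul_le_mul_right _ hK
  have h6 : q ^ (i + j - 28) * (q ^ 14) ^ 2 = q ^ i * q ^ j := by
    rw [← pow_mul, ← pow_add, ← pow_add]
    congr 1
    omega
  omega

theorem pair_false {g₁ : Grp} {c c₁ : ℕ} (hp : p.Prime) (hf : 1 ≤ f) (h175 : 175 < p ^ f) (hg : Cond g) (hg₁ : Cond g₁)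
    (h6 : L6b p f g) (h3 : L3b p f g₁) (hc : den g * c = num g) (hc₁ : den g₁ * c₁ = num g₁)
    (hle : c * c₁ ≤ (p ^ f) ^ 6 * (((p ^ f) ^ 2 - 1) * ((p ^ f) ^ 6 - 1))) : False := by
  have hq0 : 0 < p ^ f := by omega
  have hlt : c * c₁ < (p ^ f) ^ 14 := by
    refine hle.trans_lt ?_
    have h1 : (p ^ f) ^ 2 - 1 < (p ^ f) ^ 2 := Nat.sub_lt (by positivity) (by norm_num)
    have h2 : (p ^ f) ^ 6 - 1 ≤ (p ^ f) ^ 6 := Nat.sub_le _ _
    calc (p ^ f) ^ 6 * (((p ^ f) ^ 2 - 1) * ((p ^ f) ^ 6 - 1)) < (p ^ f) ^ 6 * ((p ^ f) ^ 2 * (p ^ f) ^ 6) := by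
          refine Nat.mul_lt_mul_of_pos_left ?_ (by positivity)
          exact Nat.mul_lt_mul_of_lt_of_le h1 h2 (by positivity)
      _ = (p ^ f) ^ 14 := by ring
  -- bounds of the second group
  have h2p := hp.two_le
  have hpw : ∀ h, 1 ≤ h → 2 ≤ p ^ h := fun h h1 => h2p.trans (Nat.le_self_pow (by omega) _)
  have hB : (g₁ = .psl 3 (p ^ f) ∧ (p ^ f) ^ 16 ≤ (12 * c₁) ^ 2) ∨
      ((∃ h, f = 2 * h) ∧ (p ^ f) ^ 14 ≤ (4 * c₁) ^ 2) ∨ ((∃ h, f = 2 * h) ∧ (p ^ f) ^ 15 ≤ (16 * c₁) ^ 2) ∨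
      ((∃ h, f = 4 * h) ∧ p = 2 ∧ 4096 ≤ p ^ f ∧ (p ^ f) ^ 13 ≤ (4 * c₁) ^ 2) := by
    rcases h3 with rfl | ⟨h, rfl, rfl | rfl⟩ | ⟨h, rfl, rfl⟩
    · refine Or.inl ⟨rfl, ?_⟩
      have := lb_psl3 (hpw f hf) hc₁
      calc (p ^ f) ^ 16 = ((p ^ f) ^ 8) ^ 2 := by ring
        _ ≤ _ := Nat.pow_le_pow_left this 2
    · refine Or.inr (Or.inr (Or.inl ⟨⟨h, rfl⟩, ?_⟩))
      have := lb_psu4 (hpw h (by omega)) hc₁
      calc (p ^ (2 * h)) ^ 15 = ((p ^ h) ^ 15) ^ 2 := by rw [← pow_mul, ← pow_mul, ← pow_mul]; congr 1; ring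
        _ ≤ _ := Nat.pow_le_pow_left this 2
    · refine Or.inr (Or.inl ⟨⟨h, rfl⟩, ?_⟩)
      have := lb_g2 (hpw h (by omega)) hc₁
      calc (p ^ (2 * h)) ^ 14 = ((p ^ h) ^ 14) ^ 2 := by rw [← pow_mul, ← pow_mul, ← pow_mul]; congr 1; ring
        _ ≤ _ := Nat.pow_le_pow_left this 2
    · refine Or.inr (Or.inr (Or.inr ⟨⟨h, rfl⟩, ?_⟩))
      obtain ⟨m, hm, hqm⟩ : ∃ m, 1 ≤ m ∧ p ^ h = 2 ^ (2 * m + 1) := hg₁
      have hp2 : p = 2 := by
        have h4 : p ∣ 2 ^ (2 * m + 1) := by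
          rw [← hqm]
          exact dvd_pow_self p (by omega)
        exact (Nat.prime_dvd_prime_iff_eq hp Nat.prime_two).1 (hp.dvd_of_dvd_pow h4)
      refine ⟨hp2, ?_, ?_⟩
      · have h8 : 8 ≤ p ^ h := by
          rw [hqm]
          calc 8 = 2 ^ 3 := by norm_num
            _ ≤ 2 ^ (2 * m + 1) := Nat.pow_le_pow_right (by norm_num) (by omega)
        calc 4096 = 8 ^ 4 := by norm_num
          _ ≤ (p ^ h) ^ 4 := Nat.pow_le_pow_left h8 4
          _ = p ^ (4 * h) := by rw [← pow_mul]; congr 1; ring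
      · have := lb_tf4 (hpw h (by omega)) hc₁
        calc (p ^ (4 * h)) ^ 13 = ((p ^ h) ^ 26) ^ 2 := by rw [← pow_mul, ← pow_mul, ← pow_mul]; congr 1; ring
          _ ≤ _ := Nat.pow_le_pow_left this 2
  have pw1 : ∀ n, 1 ≤ n → p ^ f ≤ (p ^ f) ^ n := fun n hn => Nat.le_self_pow (by omega) _
  have pw2 : 176 ^ 2 ≤ (p ^ f) ^ 2 := Nat.pow_le_pow_left (by omega) 2
  have pw3 : 176 ^ 3 ≤ (p ^ f) ^ 3 := Nat.pow_le_pow_left (by omega) 3
  have pw4 : 176 ^ 4 ≤ (p ^ f) ^ 4 := Nat.pow_le_pow_left (by omega) 4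
  rcases h6 with rfl | ⟨hp3, rfl⟩ | ⟨hp2, h, rfl, rfl⟩
  · have hA : (p ^ f) ^ 16 ≤ (6 * c) ^ 2 := by
      have := lb_psu3 (hpw f hf) hc
      calc (p ^ f) ^ 16 = ((p ^ f) ^ 8) ^ 2 := by ring
        _ ≤ _ := Nat.pow_le_pow_left this 2
    rcases hB with ⟨-, hB⟩ | ⟨-, hB⟩ | ⟨-, hB⟩ | ⟨-, -, h4, hB⟩
    · exact cmp hq0 hlt hA hB (by norm_num) (by norm_num; omega) rfl (by norm_num)
    · exact cmp hq0 hlt hA hB (by norm_num) (by norm_num; omega) rfl (by norm_num)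
    · exact cmp hq0 hlt hA hB (by norm_num) (by norm_num; omega) rfl (by norm_num)
    · exact cmp hq0 hlt hA hB (by norm_num) (by norm_num; omega) rfl (by norm_num)
  · have hA : (p ^ f) ^ 14 ≤ (2 * c) ^ 2 := by
      have := lb_ree (hpw f hf) hc
      calc (p ^ f) ^ 14 = ((p ^ f) ^ 7) ^ 2 := by ring
        _ ≤ _ := Nat.pow_le_pow_left this 2
    have hodd : f % 2 = 1 := by
      obtain ⟨m, hm, hqm⟩ : ∃ m, 1 ≤ m ∧ p ^ f = 3 ^ (2 * m + 1) := hg
      rw [hp3] at hqm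
      have := Nat.pow_right_injective (by norm_num : 2 ≤ 3) hqm
      omega
    rcases hB with ⟨-, hB⟩ | ⟨⟨h, rfl⟩, hB⟩ | ⟨⟨h, rfl⟩, hB⟩ | ⟨⟨h, rfl⟩, -, h4, hB⟩
    · exact cmp hq0 hlt hA hB (by norm_num) (by norm_num; omega) rfl (by norm_num)
    · omega
    · omega
    · omega
  · have hA : (p ^ (2 * h)) ^ 15 ≤ (2 * c) ^ 2 := by
      have := lb_sz (hpw (3 * h) (by omega)) hc
      calc (p ^ (2 * h)) ^ 15 = ((p ^ (3 * h)) ^ 5) ^ 2 := by rw [← pow_mul, ← pow_mul, ← pow_mul]; congr 1; ring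
        _ ≤ _ := Nat.pow_le_pow_left this 2
    have hodd : h % 2 = 1 := by
      obtain ⟨m, hm, hqm⟩ : ∃ m, 1 ≤ m ∧ p ^ (3 * h) = 2 ^ (2 * m + 1) := hg
      rw [hp2] at hqm
      have h9 : 3 * h = 2 * m + 1 := Nat.pow_right_injective (le_refl 2) hqm
      omega
    rcases hB with ⟨-, hB⟩ | ⟨-, hB⟩ | ⟨-, hB⟩ | ⟨⟨h', h''⟩, -, h4, hB⟩
    · exact cmp hq0 hlt hA hB (by norm_num) (by norm_num; omega) rfl (by norm_num)
    · exact cmp hq0 hlt hA hB (by norm_num) (by norm_num; omega) rfl (by norm_num)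
    · exact cmp hq0 hlt hA hB (by norm_num) (by norm_num; omega) rfl (by norm_num)
    · omega

end Cfsg.Agent.H420.Rg
end

-- part: H420/Rg/GG
section
/-!
# Subgroups of `G₂(q)`, `q = p ^ f`, containing one primitive prime of each of the classes 3 and 6 (helper420)

`gg` : `T ≅ G₂(p ^ f)`, `M ≤ T`, `r₃` a primitive prime of `p ^ (3 f) - 1`, `r₆` one of `p ^ (6 f) - 1`, both dividing `|M|`;
`f ≥ 3`, or `f = 2`, `p ≥ 17` and `p⁴ - p² + 1` divides `|M|`: then `M = T`.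
-/

set_option autoImplicit false

namespace Cfsg.Agent.H420.GG

open Cfsg Cfsg.Lie Cfsg.Agent.OrdDiv Cfsg.Agent.H436 Cfsg.Agent.H902 Cfsg.Agent.H902.Names Cfsg.Agent.H915.GN
  Cfsg.Agent.H290.ElReg Cfsg.Agent.H264.FKS Cfsg.Agent.H264.GN Cfsg.Agent.H563.KG Cfsg.Agent.H56.Exc Cfsg.Agent.H325.Same
open Cfsg.Agent.H946.Num Cfsg.Agent.H946.Rad Cfsg.Agent.H290.ElTab Cfsg.Agent.H290.ElCross
open Cfsg.Agent.H983.KG2 (De_ne_zero bnd14_true bndSp_true modEq_fix red_of' N36)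

variable {p f : ℕ}

theorem charP_of_card {F : Type*} [Field F] [Fintype F] (hp : p.Prime) {k : ℕ} (h : Fintype.card F = p ^ k) :
    CharP F p := by
  have : Fact p.Prime := ⟨hp⟩
  exact charP_of_card_eq_prime_pow h

theorem kill_psl2 {S : Type*} [Group S] {r : ℕ} (hp : p.Prime) (hS : IsNamed (.psl 2 (p ^ (3 * f))) S)
    (hr : Prim (p ^ f) 3 r) (hP : H325.Loc.PIso p r S) : False := by
  have : Fact p.Prime := ⟨hp⟩
  obtain ⟨F, _, _, hF, ⟨e⟩⟩ := hS.real
  have := charP_of_card hp hF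
  refine not_piso_psl2 (K := F) (p := p) hr.prime (fun h => hr.not_dvd_two le_rfl (by rw [h])) ?_ (hP.congr e)
  rw [Nat.card_eq_fintype_card, hF, mul_comm, pow_mul]
  exact hr.dvd dvd_rfl

/-- the order and the tori -/
structure Dt (T : Type) [Group T] [Finite T] (p f : ℕ) : Prop where
  hp : p.Prime
  hf : 1 ≤ f
  h3q : 3 ≤ p ^ f
  card : Nat.card T = OL .G2 (p ^ f)
  b3 : ∀ r, Prim (p ^ f) 3 r → Big T r (N3 (p ^ f)) 6
  b6 : ∀ r, Prim (p ^ f) 6 r → Big T r (N6 (p ^ f)) 6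
  fth : ∃ (F : Type) (_ : Field F) (_ : CharP F p), Fth 14 F T
  iso : ∀ r, Prim (p ^ f) 3 r → H325.Loc.PIso p r T
  par : ParP p T

theorem big_free {G : Type*} [Group G] [Finite G] {r m e t : ℕ} (h : Big G r m e) (ht : t.Prime) (htm : ¬ t ∣ m) {x a : G}
    (hx : orderOf x = r) (hat : a ^ t = 1) (hc : x * a = a * x) : a = 1 := by
  have h1 : a ∈ Subgroup.centralizer ({x} : Set G) := Subgroup.mem_centralizer_singleton_iff.2 hc.symm
  have h2 : orderOf a ∣ m := by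
    refine dvd_trans ?_ (h.card x hx)
    rw [← Subgroup.orderOf_mk a h1]
    exact orderOf_dvd_natCard _
  rcases (Nat.dvd_prime ht).1 (orderOf_dvd_of_pow_eq_one hat) with h3 | h3
  · exact orderOf_eq_one_iff.1 h3
  · exact absurd (h3 ▸ h2) htm

theorem three_of {q t : ℕ} (ht : t.Prime) (h3 : t ∣ N3 q) (h6 : t ∣ N6 q) : False := by
  by_cases h : t = 3
  · subst h
    have h7 : q % 3 = 0 ∨ q % 3 = 1 ∨ q % 3 = 2 := by omega
    obtain ⟨k1, k2⟩ := three_dvd q
    rcases h7 with h7 | h7 | h7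
    · unfold N3 at h3
      have h8 : (q ^ 2 + q + 1) % 3 = 0 := Nat.mod_eq_zero_of_dvd h3
      rw [Nat.add_mod, Nat.add_mod (q ^ 2), Nat.pow_mod, h7] at h8
      norm_num at h8
    · exact (k1 h7).2 h6
    · exact (k2 h7).2 h3
  · exact cop36 ht h h3 h6

/-- the family -/
def B (p f N : ℕ) : ℕ → ℕ → ℕ → Prop := fun r m e =>
  ((Prim p (f * 3) r ∧ m = N3 (p ^ f)) ∨ (Prim p (f * 6) r ∧ m = N6 (p ^ f))) ∧ r ∣ N ∧ e = 6

theorem prB {N r : ℕ} : Pr (B p f N) r ↔ (Prim p (f * 3) r ∨ Prim p (f * 6) r) ∧ r ∣ N := by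
  constructor
  · rintro ⟨m, e, ⟨h, -⟩ | ⟨h, -⟩, h2, -⟩
    · exact ⟨Or.inl h, h2⟩
    · exact ⟨Or.inr h, h2⟩
  · rintro ⟨h | h, h2⟩
    · exact ⟨_, _, Or.inl ⟨h, rfl⟩, h2, rfl⟩
    · exact ⟨_, _, Or.inr ⟨h, rfl⟩, h2, rfl⟩

/-- `q`-primitive of the class 6 implies `p`-primitive, `f = 2, 4` -/
theorem prim_of_six {t : ℕ} (hp : p.Prime) (hf : f = 2 ∨ f = 4) (h : Prim (p ^ f) 6 t) : Prim p (f * 6) t := by
  have ht := h.prime
  have := Fact.mk ht
  have hpt : ¬ t ∣ p := fun h1 => h.not_dvd (h1.trans (dvd_pow_self p (by omega)))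
  set o := orderOf ((p : ℕ) : ZMod t) with ho
  have hiff : ∀ m, t ∣ p ^ m - 1 ↔ o ∣ m := by
    intro m
    rw [ho, orderOf_dvd_iff_pow_eq_one]
    have h1 : 1 ≤ p ^ m := Nat.one_le_pow _ _ hp.pos
    rw [← Nat.cast_pow, ← (ZMod.natCast_eq_zero_iff (p ^ m - 1) t), Nat.cast_sub h1, Nat.cast_one, sub_eq_zero]
  have hq : ∀ m, o ∣ f * m ↔ 6 ∣ m := by
    intro m
    rw [← hiff, pow_mul]
    exact h.dvd_iff m
  have h6 := (hq 6).2 dvd_rfl
  have h2 : ¬ o ∣ f * 2 := fun h1 => by have := (hq 2).1 h1; omega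
  have h3 : ¬ o ∣ f * 3 := fun h1 => by have := (hq 3).1 h1; omega
  have ho6 : o = f * 6 := by
    have h7 : o ≤ f * 6 := Nat.le_of_dvd (by omega) h6
    rcases hf with rfl | rfl
    · norm_num at h6 h2 h3 h7
      interval_cases o <;> omega
    · norm_num at h6 h2 h3 h7
      interval_cases o <;> omega
  exact ⟨ht, fun m => by rw [hiff, ho6], hpt⟩

theorem zmod_three : ∀ y : ZMod 3, y ^ 4 - y ^ 2 + 1 ≠ 0 := by decide

/-- the cyclotomic number `Φ₁₂` -/
theorem prim_twelve {t : ℕ} (hp : p.Prime) (ht : t.Prime) (h : t ∣ p ^ 4 - p ^ 2 + 1) : Prim p 12 t := by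
  have := Fact.mk ht
  have h42 : p ^ 2 ≤ p ^ 4 := Nat.pow_le_pow_right hp.pos (by norm_num)
  have hz : ((p : ℕ) : ZMod t) ^ 4 - ((p : ℕ) : ZMod t) ^ 2 + 1 = 0 := by
    have h1 := (ZMod.natCast_eq_zero_iff (p ^ 4 - p ^ 2 + 1) t).2 h
    rw [Nat.cast_add, Nat.cast_sub h42, Nat.cast_pow, Nat.cast_pow, Nat.cast_one] at h1
    exact h1
  set x := ((p : ℕ) : ZMod t) with hx
  have h6 : x ^ 6 = -1 := by linear_combination (x ^ 2 + 1) * hz
  have h12 : x ^ 12 = 1 := by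
    calc x ^ 12 = (x ^ 6) ^ 2 := by ring
      _ = 1 := by rw [h6]; ring
  have ht2 : t ≠ 2 := by
    rintro rfl
    rcases hp.eq_two_or_odd' with rfl | hodd
    · norm_num at h
    · have h2 : (p ^ 4 - p ^ 2) % 2 = 0 := by
        have h3 : (p ^ 4) % 2 = 1 := Nat.odd_iff.1 hodd.pow
        have h4 : (p ^ 2) % 2 = 1 := Nat.odd_iff.1 hodd.pow
        omega
      omega
  have ht3 : t ≠ 3 := by
    rintro rfl
    exact zmod_three x hz
  set o := orderOf x with ho
  have ho12 : o ∣ 12 := orderOf_dvd_of_pow_eq_one h12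
  have hne : (-1 : ZMod t) ≠ 1 := by
    have : Fact (2 < t) := ⟨by have := ht.two_le; omega⟩
    exact ZMod.neg_one_ne_one
  have h6' : ¬ o ∣ 6 := fun h1 => by
    rw [ho, orderOf_dvd_iff_pow_eq_one, h6] at h1
    exact hne h1
  have h4' : ¬ o ∣ 4 := fun h1 => by
    rw [ho, orderOf_dvd_iff_pow_eq_one] at h1
    have h2 : x ^ 2 = 2 := by linear_combination h1 - hz
    have h3 : (3 : ZMod t) = 0 := by
      have h4 : x ^ 4 = 4 := by calc x ^ 4 = (x ^ 2) ^ 2 := by ring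
        _ = 4 := by rw [h2]; norm_num
      linear_combination h1 - h4
    have h5 : ((3 : ℕ) : ZMod t) = 0 := by exact_mod_cast h3
    exact ht3 ((Nat.prime_dvd_prime_iff_eq ht Nat.prime_three).1 ((ZMod.natCast_eq_zero_iff 3 t).1 h5))
  have ho' : o = 12 := by
    have h7 : o ≤ 12 := Nat.le_of_dvd (by norm_num) ho12
    interval_cases o <;> omega
  refine ⟨ht, fun m => ?_, fun h1 => ?_⟩
  · rw [← ho', ho, orderOf_dvd_iff_pow_eq_one]
    have h1 : 1 ≤ p ^ m := Nat.one_le_pow _ _ hp.pos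
    rw [hx, ← Nat.cast_pow, ← (ZMod.natCast_eq_zero_iff (p ^ m - 1) t), Nat.cast_sub h1, Nat.cast_one, sub_eq_zero]
  · have h2 : x = 0 := (ZMod.natCast_eq_zero_iff p t).2 h1
    rw [h2] at hz
    norm_num at hz

/-- the hypothesis -/
structure Hp (p f r₃ r₆ N : ℕ) : Prop where
  h3 : Prim p (f * 3) r₃
  h6 : Prim p (f * 6) r₆
  d3 : r₃ ∣ N
  d6 : r₆ ∣ N
  c : 3 ≤ f ∨ (f = 2 ∧ 17 ≤ p ∧ p ^ 4 - p ^ 2 + 1 ∣ N)

theorem phi_ge (h : 17 ≤ p) : 83233 ≤ p ^ 4 - p ^ 2 + 1 := by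
  have h1 : 17 ^ 2 ≤ p ^ 2 := Nat.pow_le_pow_left h 2
  have h2 : p ^ 4 = p ^ 2 * p ^ 2 := by ring
  rw [h2]
  generalize p ^ 2 = y at *
  have h3 : 289 * y ≤ y * y := Nat.mul_le_mul_right _ (by omega)
  have h4 : 288 * 289 ≤ 288 * y := Nat.mul_le_mul_left _ (by omega)
  omega

/-- a divisor with primes of the class 6 only -/
theorem Hp.n6 {r₃ r₆ N : ℕ} (hp : p.Prime) (H : Hp p f r₃ r₆ N) :
    ∃ n, n ∣ N ∧ 14 < n ∧ (∀ r, r.Prime → r ∣ n → Prim p (f * 6) r) ∧ (91 < n ∨ 3 ≤ f) := by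
  rcases H.c with h | ⟨rfl, h17, h⟩
  · have := lt_of_prim H.h6
    exact ⟨r₆, H.d6, by omega, fun r hr hd => ((Nat.prime_dvd_prime_iff_eq hr H.h6.prime).1 hd) ▸ H.h6, Or.inr h⟩
  · have := phi_ge h17
    exact ⟨_, h, by omega, fun r hr hd => prim_twelve hp hr hd, Or.inl (by omega)⟩

theorem Hp.r3 {r₃ r₆ N : ℕ} (hp : p.Prime) (H : Hp p f r₃ r₆ N) (hf : f = 3 ∨ 5 ≤ f) : 14 < r₃ := by
  have h1 := lt_of_prim H.h3
  rcases hf with rfl | hf
  · have h2 := mod_of_prim hp.two_le (by norm_num) H.h3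
    have h3 : r₃ ≠ 10 := by
      intro h
      have := H.h3.prime
      rw [h] at this
      exact absurd this (by norm_num)
    omega
  · omega

theorem Hp.f1 {r₃ r₆ N : ℕ} (H : Hp p f r₃ r₆ N) : 2 ≤ f := by
  rcases H.c with h | ⟨rfl, -, -⟩ <;> omega

/-- **Elementary abelian normal subgroups.** -/
theorem no_elem {T : Type} [Group T] [Finite T] (D : Dt T p f) {M : Subgroup T} {r₃ r₆ : ℕ} (H : Hp p f r₃ r₆ (Nat.card M))
    {t : ℕ} (ht : t.Prime) (htp : t ≠ p) (hnt : ¬ Pr (B p f (Nat.card M)) t) (A : Subgroup M) (hAn : A.Normal)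
    (hAc : ∀ a ∈ A, ∀ b ∈ A, a * b = b * a) (hat : ∀ a ∈ A, a ^ t = 1) : A = ⊥ := by
  have hp := D.hp
  have hf := D.hf
  have h3q := D.h3q
  have hq : 1 ≤ p ^ f := by omega
  have i1 := Fact.mk hp
  have i2 := Fact.mk ht
  by_contra hA1
  obtain ⟨F, _, _, hF⟩ := D.fth
  obtain ⟨τ, hτ⟩ := hF.sub M.subtype M.subtype_injective
  have hPt : IsPGroup t A := fun a => ⟨1, by rw [pow_one]; exact Subtype.ext (hat a a.2)⟩
  obtain ⟨k, hk⟩ := IsPGroup.iff_card.1 hPt
  have hk0 : k ≠ 0 := by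
    rintro rfl
    rw [pow_zero, Subgroup.card_eq_one] at hk
    exact hA1 hk
  have htM : t ∣ Nat.card M := by
    refine dvd_trans ?_ (Subgroup.card_subgroup_dvd_card A)
    rw [hk]
    exact dvd_pow_self t hk0
  have hpA : ¬ p ∣ Nat.card A := by
    intro h
    rw [hk] at h
    exact htp ((Nat.prime_dvd_prime_iff_eq hp ht).1 (hp.dvd_of_dvd_pow h)).symm
  have key : ∀ n, n ∣ Nat.card M → (∀ x : M, (orderOf x).Prime → orderOf x ∣ n → ∀ a ∈ A, x * a = a * x → a = 1) →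
      14 < n → False := fun n h1 h2 h3 => by
    apply hA1
    refine eq_bot_of_dvd hτ hAc hpA h1 h2 ?_
    rw [Fintype.card_fin]
    exact h3
  have fr3 : ¬ t ∣ N3 (p ^ f) → ∀ x : M, Prim p (f * 3) (orderOf x) → ∀ a ∈ A, x * a = a * x → a = 1 :=
    fun htN x hx a ha hc => big_free ((D.b3 _ (prim_pow hf hx)).subgroup M) ht htN rfl (hat a ha) hc
  have fr6 : ¬ t ∣ N6 (p ^ f) → ∀ x : M, Prim p (f * 6) (orderOf x) → ∀ a ∈ A, x * a = a * x → a = 1 :=
    fun htN x hx a ha hc => big_free ((D.b6 _ (prim_pow hf hx)).subgroup M) ht htN rfl (hat a ha) hc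
  by_cases htN : t ∣ N6 (p ^ f)
  · have htN3 : ¬ t ∣ N3 (p ^ f) := fun h => three_of ht h htN
    by_cases hf' : f = 3 ∨ 5 ≤ f
    · exact key r₃ H.d3 (fun x hx hxr a ha hc => fr3 htN3 x (by
        have : orderOf x = r₃ := (Nat.prime_dvd_prime_iff_eq hx H.h3.prime).1 hxr
        exact this ▸ H.h3) a ha hc) (H.r3 hp hf')
    · have hf24 : f = 2 ∨ f = 4 := by
        have := H.f1
        omega
      have ht3 : t ≠ 3 := by
        rintro rfl
        -- `q` is a square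
        have hsq : ∃ y, p ^ f = y * y := by
          rcases hf24 with rfl | rfl
          · exact ⟨p, by ring⟩
          · exact ⟨p ^ 2, by ring⟩
        obtain ⟨y, hy⟩ := hsq
        have h2 : (p ^ f) % 3 ≠ 2 := by
          rw [hy, Nat.mul_mod]
          have : y % 3 = 0 ∨ y % 3 = 1 ∨ y % 3 = 2 := by omega
          rcases this with h | h | h <;> rw [h] <;> norm_num
        have h7 : (p ^ f) % 3 = 0 ∨ (p ^ f) % 3 = 1 := by omega
        rcases h7 with h7 | h7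
        · have h8 : 3 ∣ p ^ f := Nat.dvd_of_mod_eq_zero h7
          have h9 := (Nat.prime_dvd_prime_iff_eq Nat.prime_three hp).1 (Nat.prime_three.dvd_of_dvd_pow h8)
          exact htp h9
        · exact ((three_dvd (p ^ f)).1 h7).2 htN
      have h1 : Prim (p ^ f) 6 t := Cfsg.Agent.H983.KG2.prim_of_order ht hq (by norm_num) (od_N6 ht htN ht3)
      exact hnt (prB.2 ⟨Or.inr (prim_of_six hp hf24 h1), htM⟩)
  · obtain ⟨n, hn, h14, hpr, -⟩ := H.n6 hp
    exact key n hn (fun x hx hxr a ha hc => fr6 htN x (hpr _ hx hxr) a ha hc) h14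

/-- the reduced family of a subgroup -/
theorem red_M (hE : CycFixSolv.{0}) {T : Type} [Group T] [Finite T] (D : Dt T p f) {M : Subgroup T} {r₃ r₆ : ℕ}
    (H : Hp p f r₃ r₆ (Nat.card M)) :
    Red M (Pr (B p f (Nat.card M))) ∧ RFam M (B p f (Nat.card M)) := by
  have hp := D.hp
  have hf := D.hf
  have hq : 1 ≤ p ^ f := Nat.one_le_pow _ _ hp.pos
  have q3 := prim_pow hf H.h3
  have q6 := prim_pow hf H.h6
  constructor
  · refine red_of' (p := p) hE ?_ (prB.2 ⟨Or.inl H.h3, H.d3⟩) H.h3.prime H.d3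
      ((D.b3 r₃ q3).subgroup M).cyc ?_
    · exact pcore_of_piso ((D.iso r₃ q3).sub M) H.d3
    · intro t ht htp hnt A hA hAc hAt
      exact no_elem D H ht htp hnt A hA hAc hAt
  · have h76 : ∀ {r : ℕ}, r.Prime → 7 ≤ r → ¬ r ∣ 6 := fun hr h7 h => by
      have := Nat.le_of_dvd (by norm_num) h
      omega
    have hf2 := H.f1
    have s3 : 7 ≤ r₃ := by
      have := lt_of_prim H.h3
      omega
    have s6 : 7 ≤ r₆ := by
      have := lt_of_prim H.h6
      omega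
    refine ⟨?_, ?_, ?_⟩
    · rintro r m e ⟨⟨h, rfl⟩ | ⟨h, rfl⟩, -, rfl⟩
      · exact (D.b3 r (prim_pow hf h)).subgroup M
      · exact (D.b6 r (prim_pow hf h)).subgroup M
    · rintro r m e ⟨-, hn, rfl⟩
      exact hn
    · rintro r m e ⟨⟨h, rfl⟩ | ⟨h, rfl⟩, -, rfl⟩ hcon
      · rcases H.h6.prime.dvd_mul.1 (H.d6.trans hcon) with h1 | h1
        · exact h76 H.h6.prime s6 h1
        · exact three_of H.h6.prime h1 (prim_N6 hq q6)
      · rcases H.h3.prime.dvd_mul.1 (H.d3.trans hcon) with h1 | h1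
        · exact h76 H.h3.prime s3 h1
        · exact three_of H.h3.prime (prim_N3 hq q3) h1

/-- the simple normal subgroup -/
theorem exists_S (hE : CycFixSolv.{0}) {T : Type} [Group T] [Finite T] (D : Dt T p f) {M : Subgroup T} {r₃ r₆ : ℕ}
    (H : Hp p f r₃ r₆ (Nat.card M)) :
    ∃ S : Subgroup M, S.Normal ∧ IsSimpleGroup S ∧ ¬ IsMulCommutative S ∧ Hp p f r₃ r₆ (Nat.card S) := by
  obtain ⟨hred, hfam⟩ := red_M hE D H
  obtain ⟨S, hSn, hs, hna, hall⟩ := hfam.exists_full hE hred (r₁ := r₃) ⟨Or.inl ⟨H.h3, rfl⟩, H.d3, rfl⟩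
  refine ⟨S, hSn, hs, hna, H.h3, H.h6, (hall r₃ _ _ ⟨Or.inl ⟨H.h3, rfl⟩, H.d3, rfl⟩).2.1,
    (hall r₆ _ _ ⟨Or.inr ⟨H.h6, rfl⟩, H.d6, rfl⟩).2.1, ?_⟩
  rcases H.c with h | ⟨rfl, h17, h⟩
  · exact Or.inl h
  · refine Or.inr ⟨rfl, h17, ?_⟩
    rw [← S.card_mul_index] at h
    refine Nat.Coprime.dvd_of_dvd_mul_right (Nat.coprime_of_dvd fun k hk h2 h3 => ?_) h
    have h4 := prim_twelve D.hp hk h2
    have h5 : k ∣ Nat.card M := by
      rw [← S.card_mul_index]
      exact h3.mul_left _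
    exact (hall k _ _ ⟨Or.inr ⟨h4, rfl⟩, h5, rfl⟩).2.2.1 h3

/-! ### numbers -/

theorem Hp.prod {r₃ r₆ N : ℕ} (hp : p.Prime) (H : Hp p f r₃ r₆ N) :
    ∃ n, n ∣ N ∧ 91 < n ∧ ∀ r, r.Prime → r ∣ n → (r - 1) % 3 = 0 := by
  have hm : ∀ {r k : ℕ}, Prim p (f * (3 * k)) r → 1 ≤ k → (r - 1) % 3 = 0 := by
    intro r k h hk
    have hf2 := H.f1
    have h1 := mod_of_prim hp.two_le (Nat.mul_pos (by omega) (by omega)) h
    have h2 : 3 ∣ r - 1 := (Dvd.intro (f * k) (by ring)).trans (Nat.dvd_of_mod_eq_zero h1)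
    exact Nat.mod_eq_zero_of_dvd h2
  rcases H.c with h | ⟨rfl, h17, h⟩
  · have h3 := lt_of_prim H.h3
    have h6 := lt_of_prim H.h6
    have hne : r₃ ≠ r₆ := by
      rintro rfl
      have := H.h3.unique H.h6
      omega
    have hco : Nat.Coprime r₃ r₆ := (Nat.coprime_primes H.h3.prime H.h6.prime).2 hne
    refine ⟨r₃ * r₆, hco.mul_dvd_of_dvd_of_dvd H.d3 H.d6, ?_, fun r hr hd => ?_⟩
    · calc 91 < 10 * 19 := by norm_num
        _ ≤ r₃ * r₆ := Nat.mul_le_mul (by omega) (by omega)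
    · rcases hr.dvd_mul.1 hd with h | h
      · have := (Nat.prime_dvd_prime_iff_eq hr H.h3.prime).1 h
        subst this
        exact hm (k := 1) H.h3 le_rfl
      · have := (Nat.prime_dvd_prime_iff_eq hr H.h6.prime).1 h
        subst this
        exact hm (k := 2) H.h6 (by norm_num)
  · have h1 := phi_ge h17
    exact ⟨_, h, by omega, fun r hr hd => hm (k := 2) (prim_twelve hp hr hd) (by norm_num)⟩

/-- **Cross characteristic.** -/
theorem no_cross {X : Art.Sh} {l a N r₃ r₆ : ℕ} (hR : Art.Real X l a N) (hlb : lb X (l ^ a) ≤ 14) (hp : p.Prime)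
    (H : Hp p f r₃ r₆ N) : False := by
  obtain ⟨hl, ha, hokX, heq⟩ := hR
  have hreg := mem_reg (by norm_num) hl ha hokX hlb
  have hs' : smooth (NA X l a) = true :=
    List.all_eq_true.1 smooth_reg (X, (l, a)) (mem_reg le_rfl hl ha hokX (hlb.trans (by norm_num)))
  have hsS : smooth (NS X l a) = true := by
    have h1 : NS X l a ∣ NA X l a := Dvd.intro_left _ rfl
    have h2 : NA X l a ∣ prs.prod ^ 100 := Nat.dvd_of_mod_eq_zero (by simpa [smooth] using hs')
    simpa [smooth] using Nat.mod_eq_zero_of_dvd (h1.trans h2)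
  have hM : OL X (l ^ a) = Art.dd X (l ^ a) * N := by unfold OL; rw [numL_eq]; exact heq.symm
  have hNM : N ∣ OL X (l ^ a) := Dvd.intro_left _ hM.symm
  have hNS : ∀ r, r.Prime → r ∣ OL X (l ^ a) → r ∣ NS X l a := by
    intro r hr h
    unfold NS
    have h1 : r ∣ (l ^ a) ^ Art.NN X * numL X (l ^ a) := h
    rcases hr.dvd_mul.1 h1 with h2 | h2
    · exact (hr.dvd_of_dvd_pow (hr.dvd_of_dvd_pow h2)).mul_right _
    · exact h2.mul_left _
  have hb' := List.all_eq_true.1 bnd14_true (X, (l, a)) hreg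
  simp only [Bool.and_eq_true, Nat.ble_eq, Nat.blt_eq, List.all_eq_true] at hb'
  obtain ⟨hb1, hb2, hb3⟩ := hb'
  have hM0 : OL X (l ^ a) ≠ 0 := by
    intro h0
    have h3 : l ^ a ≠ 0 := pow_ne_zero _ hl.ne_zero
    have h4 : NS X l a ≠ 0 := by
      intro h5
      have h6 : NS X l a ∣ prs.prod ^ 100 := Nat.dvd_of_mod_eq_zero (by simpa [smooth] using hsS)
      rw [h5] at h6
      have h7 := Nat.eq_zero_of_zero_dvd h6
      have h8 : prs.prod ≠ 0 := by decide +kernel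
      exact pow_ne_zero 100 h8 h7
    apply h4
    unfold OL at h0
    rcases Nat.mul_eq_zero.1 h0 with h5 | h5
    · exact absurd h5 (pow_ne_zero _ h3)
    · unfold NS
      rw [h5, mul_zero]
  obtain ⟨n, hn, h91, hpr⟩ := H.prod hp
  have h1 : n ∣ De (pd (NS X l a)) (OL X (l ^ a)) 3 :=
    dvd_De hM0 hb2 (hn.trans hNM) fun r hr hd => ⟨mem_pd hsS hr (hNS r hr ((hd.trans hn).trans hNM)), hpr r hr hd⟩
  have h2 := Nat.le_of_dvd (Nat.pos_of_ne_zero (De_ne_zero hM0)) h1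
  omega

/-! ### sporadic groups -/

def tA : Bool := spor.all fun x => (pd x.2).all fun r => (pd x.2).all fun s => (List.range 12).all
  fun f => Nat.blt f 3 || (r == s || (!((r - 1) % (3 * f) == 0) || !((s - 1) % (6 * f) == 0)))

def tB : Bool := spor.all fun x => Nat.blt (De (pd x.2) x.2 12) 83233

theorem tA_true : tA = true := by decide +kernel
theorem tB_true : tB = true := by decide +kernel

/-- **Sporadic groups.** -/
theorem no_spor {x : Grp × ℕ} (hx : x ∈ spor) (hp : p.Prime) {r₃ r₆ : ℕ} (H : Hp p f r₃ r₆ x.2) : False := by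
  have hs' : smooth x.2 = true := List.all_eq_true.1 smooth_spor x hx
  have hb' := List.all_eq_true.1 bndSp_true x hx
  simp only [Bool.and_eq_true, Nat.ble_eq, Nat.blt_eq, List.all_eq_true] at hb'
  obtain ⟨-, hb2, hb3⟩ := hb'
  have hM0 : x.2 ≠ 0 := by
    have : ∀ x ∈ spor, x.2 ≠ 0 := by decide +kernel
    exact this x hx
  have h3 := lt_of_prim H.h3
  have h6 := lt_of_prim H.h6
  have m3 := mod_of_prim hp.two_le (by have := H.f1; omega) H.h3
  have m6 := mod_of_prim hp.two_le (by have := H.f1; omega) H.h6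
  have e3 := mem_pd hs' H.h3.prime H.d3
  have e6 := mem_pd hs' H.h6.prime H.d6
  have hne : r₃ ≠ r₆ := by
    rintro rfl
    have := H.h3.unique H.h6
    have := H.f1
    omega
  rcases H.c with h | ⟨rfl, h17, h⟩
  · have h71 := hb3 r₆ e6
    have h4 := List.all_eq_true.1 (List.all_eq_true.1 (List.all_eq_true.1 (List.all_eq_true.1 tA_true x hx) r₃ e3) r₆ e6)
      f (List.mem_range.2 (by omega))
    have h5 : ¬ f < 3 := by omega
    rw [mul_comm] at m3 m6
    simp [m3, m6, hne, h5] at h4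
  · have h1 := List.all_eq_true.1 tB_true x hx
    simp only [Nat.blt_eq] at h1
    have h2 : p ^ 4 - p ^ 2 + 1 ∣ De (pd x.2) x.2 12 := dvd_De hM0 hb2 h fun r hr hd =>
      ⟨mem_pd hs' hr (hd.trans h), mod_of_prim hp.two_le (by norm_num) (prim_twelve hp hr hd)⟩
    have h4 := Nat.le_of_dvd (Nat.pos_of_ne_zero (De_ne_zero hM0)) h2
    have := phi_ge h17
    omega

/-- the order of a primitive prime determines `Mg` -/
theorem all_six {g : Grp} {c : ℕ} (hp : p.Prime) (hf2 : 2 ≤ f) (hg : Cond g) (hch : HasChar p g)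
    (hc : den g * c = num g) (hdvd : c ∣ num (.g2 (p ^ f))) {r : ℕ} (hr : Prim p (f * 6) r) (hrc : r ∣ c) :
    ∀ s, Prim p (f * 6) s → s ∣ c := by
  obtain ⟨f₁, hf₁, hfl, hK, hY⟩ := kd_all hp hg hch hc
  have hT := td_g2 hp (show 1 ≤ f by omega) hdvd
  have hM2 := two_le_Mg hg hch
  have hle : f * 6 ≤ f₁ * Mg g := by
    obtain ⟨x, hx, hx2⟩ := hK.exp hr hrc
    have hx3 := hK.le hx
    exact (Nat.le_of_dvd (Nat.mul_pos (by omega) (by omega)) hx2).trans (Nat.mul_le_mul_left _ hx3.2)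
  obtain ⟨t, ht⟩ := exists_prim (q := p) (e := f₁ * Mg g) hp.two_le (by omega) (by rintro ⟨-, h6⟩; omega)
  obtain ⟨i, hi, hi2⟩ := hT.exp ht (hK.has hY (by omega) ht)
  have hi' : i ∈ [2, 6] := hi
  simp only [List.mem_cons, List.not_mem_nil, or_false] at hi'
  have hM : f₁ * Mg g = f * 6 := by
    rcases hi' with rfl | rfl
    · have := Nat.le_of_dvd (by omega) hi2
      omega
    · have := Nat.le_of_dvd (by omega) hi2
      omega
  intro s hs
  rw [← hM] at hs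
  exact hK.has hY (by omega) hs

/-- **Subgroups of `G₂(q)` containing one primitive prime of each of the classes 3 and 6.** -/
theorem gg (hnm : ∀ (S : Type) [Group S] [Finite S] [IsSimpleGroup S], ¬ IsMulCommutative S → ∃ g, IsNamed g S)
    (hE : CycFixSolv.{0}) {T : Type} [Group T] [Finite T] (D : Dt T p f) {M : Subgroup T} {r₃ r₆ : ℕ}
    (H : Hp p f r₃ r₆ (Nat.card M)) : M = ⊤ := by
  have hp := D.hp
  have hf := D.hf
  have hf2 := H.f1
  have h3q := D.h3q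
  have hq : 1 ≤ p ^ f := by omega
  obtain ⟨S, hSn, hSs, hna, HS⟩ := exists_S hE D H
  obtain ⟨g, hg⟩ := hnm S hna
  have p3 := prim_pow hf H.h3
  have p6 := prim_pow hf H.h6
  have hd : Nat.card S ∣ OL .G2 (p ^ f) := by
    rw [← D.card]
    exact (Subgroup.card_subgroup_dvd_card S).trans (Subgroup.card_subgroup_dvd_card M)
  have hdM : Nat.card S ∣ Nat.card M := Subgroup.card_subgroup_dvd_card S
  have hna' : ¬ ∀ a b : S, a * b = b * a := fun h => hna ⟨⟨h⟩⟩
  have hne : r₃ ≠ r₆ := by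
    rintro rfl
    have := H.h3.unique H.h6
    omega
  rcases name_cases hg.cond with ⟨l, hl, hch⟩ | ⟨m, h9, rfl⟩ | ⟨x, hx, hxg⟩
  · by_cases hpl : p = l
    · subst hpl
      have hiso : H325.Loc.PIso p r₃ S := ((D.iso r₃ p3).sub M).sub S
      have hdS : Nat.card S ∣ num (.g2 (p ^ f)) := hd
      have full : p ^ (6 * f) ∣ Nat.card S → M = ⊤ := by
        intro h
        by_contra hM
        have h1 := M.card_mul_index
        have h2 : ¬ p ∣ M.index := by
          intro h3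
          have h4 : p ^ (6 * f) * p ∣ Nat.card T := by
            rw [← h1]
            exact mul_dvd_mul (h.trans hdM) h3
          rw [← pow_succ, D.card] at h4
          have h4' : p ^ (6 * f + 1) ∣ (p ^ f) ^ 6 * (((p ^ f) ^ 2 - 1) * ((p ^ f) ^ 6 - 1)) := h4
          rw [mul_comm 6 f, pow_succ, pow_mul] at h4'
          have h5 := Nat.dvd_of_mul_dvd_mul_left (by positivity) h4'
          have hpf : p ∣ p ^ f := dvd_pow_self p (by omega)
          have h6 : ∀ n, 1 ≤ n → ¬ p ∣ (p ^ f) ^ n - 1 := by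
            intro n hn h
            have h7 : p ∣ (p ^ f) ^ n := hpf.trans (dvd_pow_self _ (by omega))
            have h8 : 1 ≤ (p ^ f) ^ n := Nat.one_le_pow _ _ (by omega)
            have h9 := Nat.dvd_sub h7 h
            rw [Nat.sub_sub_self h8] at h9
            exact hp.one_lt.ne' (Nat.dvd_one.1 h9)
          rcases hp.dvd_mul.1 h5 with h7 | h7
          · exact h6 2 (by norm_num) h7
          · exact h6 6 (by norm_num) h7
        exact D.par.elim (D.iso r₃ p3) M hM (fun h3 => h2 ((dvd_pow_self p two_ne_zero).trans h3)) H.d3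
      rcases Cfsg.Agent.H394.Wei.charp_g2_6 hp hf (by rintro ⟨-, rfl⟩; omega) hg.cond hch hg.eq hdS
          (all_six hp hf2 hg.cond hch hg.eq hdS H.h6 HS.d6) with rfl | rfl | rfl | ⟨hp3, rfl⟩ | ⟨hp2, h, rfl, rfl | rfl⟩
      · apply full
        have h1 : 1 * Nat.card S = (p ^ f) ^ 6 * (((p ^ f) ^ 2 - 1) * ((p ^ f) ^ 6 - 1)) := hg.eq
        rw [one_mul] at h1
        rw [h1, mul_comm 6 f, pow_mul]
        exact dvd_mul_right _ _
      · exact (kill_psl2 hp hg p3 hiso).elim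
      · exfalso
        have h1 : r₃ ∣ num (.psu 3 (p ^ f)) := by
          rw [← hg.eq]
          exact HS.d3.mul_left _
        exact not_dvd_u (e := 3) p3 rfl (by norm_num) (by norm_num) _ h1
      · exfalso
        have h1 : 1 * Nat.card S = (p ^ f) ^ 3 * ((p ^ f - 1) * ((p ^ f) ^ 3 + 1)) := hg.eq
        have h2 := HS.d3
        rw [one_mul] at h1
        rw [h1] at h2
        rcases p3.prime.dvd_mul.1 h2 with h3 | h3
        · exact p3.not_dvd_pow _ h3
        · rcases p3.prime.dvd_mul.1 h3 with h3 | h3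
          · rw [← pow_one (p ^ f), p3.dvd_iff] at h3
            exact absurd h3 (by norm_num)
          · have h4 : r₃ ∣ (p ^ f) ^ 3 - 1 := p3.dvd dvd_rfl
            have h5 := Nat.dvd_sub h3 h4
            have h6 : 1 ≤ (p ^ f) ^ 3 := Nat.one_le_pow _ _ (by omega)
            rw [show (p ^ f) ^ 3 + 1 - ((p ^ f) ^ 3 - 1) = 2 by omega] at h5
            exact p3.not_dvd_two le_rfl h5
      · apply full
        have h1 : 1 * Nat.card S = (p ^ h) ^ 12 * ((p ^ h - 1) * ((p ^ h) ^ 3 + 1) * ((p ^ h) ^ 4 - 1) * ((p ^ h) ^ 6 + 1)) :=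
          hg.eq
        rw [one_mul] at h1
        rw [h1, show 6 * (2 * h) = h * 12 by ring, pow_mul]
        exact dvd_mul_right _ _
      · exfalso
        have h1 : 1 * Nat.card S = (p ^ (3 * h)) ^ 2 * ((p ^ (3 * h) - 1) * ((p ^ (3 * h)) ^ 2 + 1)) := hg.eq
        have h2 := HS.d3
        rw [one_mul] at h1
        rw [h1] at h2
        have h0 := H.h3
        rcases p3.prime.dvd_mul.1 h2 with h3 | h3
        · rw [← pow_mul] at h3
          exact h0.not_dvd_pow _ h3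
        · rcases p3.prime.dvd_mul.1 h3 with h3 | h3
          · rw [h0.dvd_iff] at h3
            have := Nat.le_of_dvd (by omega) h3
            omega
          · have h4 : r₃ ∣ p ^ (6 * h) - 1 := (h0.dvd_iff _).2 ⟨1, by ring⟩
            have h7 : (p ^ (3 * h)) ^ 2 = p ^ (6 * h) := by rw [← pow_mul]; congr 1; ring
            rw [h7] at h3
            have h5 := Nat.dvd_sub h3 h4
            have h6 : 1 ≤ p ^ (6 * h) := Nat.one_le_pow _ _ hp.pos
            rw [show p ^ (6 * h) + 1 - (p ^ (6 * h) - 1) = 2 by omega] at h5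
            exact p3.not_dvd_two le_rfl h5
    · exfalso
      obtain ⟨X, f₁, h1, h2, -⟩ := exists_lie hl hg hch
      obtain ⟨F, _, hcF, hFth⟩ := D.fth
      have hlF : (l : F) ≠ 0 := by
        intro h
        exact hpl ((Nat.prime_dvd_prime_iff_eq hp hl).1 ((CharP.cast_eq_zero_iff F p l).1 h))
      have h3 := lb_le hna' (by norm_num) ((hFth.sub M.subtype M.subtype_injective).sub S.subtype S.subtype_injective)
        h1 hg.real h2 hlF
      exact no_cross h2 h3 hp HS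
  · exfalso
    have k3 := mod_of_prim hp.two_le (Nat.mul_pos (by omega) (by omega)) H.h3
    have k6 := mod_of_prim hp.two_le (Nat.mul_pos (by omega) (by omega)) H.h6
    have l3 := lt_of_prim H.h3
    have l6 := lt_of_prim H.h6
    obtain ⟨j3, hj3⟩ : 3 ∣ r₃ - 1 := (Dvd.intro_left f rfl).trans (Nat.dvd_of_mod_eq_zero k3)
    obtain ⟨j6, hj6⟩ : 3 ∣ r₆ - 1 := (Dvd.intro (f * 2) (by ring)).trans (Nat.dvd_of_mod_eq_zero k6)
    have ho3 : r₃ % 2 = 1 := H.h3.prime.eq_two_or_odd.resolve_left (by omega)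
    have ho6 : r₆ % 2 = 1 := H.h6.prime.eq_two_or_odd.resolve_left (by omega)
    obtain ⟨e'⟩ := hg.real
    have h9 : 5 ≤ m := hg.cond
    have hb3 := ((D.b3 r₃ p3).subgroup M).subgroup S
    have hb6 := ((D.b6 r₆ p6).subgroup M).subgroup S
    have key : ∀ {r s m' e : ℕ}, Big S r m' e → s.Prime → 5 ≤ r → r + 4 ≤ s → r ∣ Nat.card S → s ∣ Nat.card S →
        False := fun {r s m' e} hb hs h5 h4 hdr hds => by
      refine Cfsg.Agent.H290.ElRich.not_alt hb.prime hs h5 h4 (by omega) e' hdr hds (fun x hx => ?_)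
      have := hb.cyc x hx
      let _ := IsCyclic.commGroup (α := ↥(Subgroup.centralizer ({x} : Set S)))
      infer_instance
    rcases Nat.lt_or_gt_of_ne hne with h | h
    · exact key hb3 H.h6.prime (by omega) (by omega) HS.d3 HS.d6
    · exact key hb6 H.h3.prime (by omega) (by omega) HS.d6 HS.d3
  · exfalso
    subst hxg
    have h2 : Nat.card S = x.2 := (table : OrderTable).spor S x hx hg.real
    rw [h2] at HS
    exact no_spor hx hp HS

end Cfsg.Agent.H420.GG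
end
end

-- part: H89/Reg/Nine_mg
section
prune_inst 0x5205600444000000000859211203c66ee000030002b0401cd610b400f88ed220d80af60bd9013075a0aa28550390840010000904000000000000400411900a080835206b308a104260097800000000000000000000000000000000000000004000000000
set_option linter.all false
open scoped Cfsg.Agent.FastGrp

-- part: H89/Reg/Ten
section
/-!
# S3691, row `PSU_N(q)`, `N ≥ 10`
-/

set_option autoImplicit false
set_option linter.unusedSectionVars false

namespace Cfsg.Agent.H89.Reg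

open Cfsg Cfsg.Geo Module Matrix
open Cfsg.Agent.LieClassical.HermBasic Cfsg.Agent.ClassicalGeometry.HermOrtho
open Cfsg.Agent.LieClassical.HermSiegel (act mat act_mul act_one act_inv_act act_act_inv herm_act)
open Cfsg.Agent.H278.Cov Cfsg.Agent.H851.Dg Cfsg.Agent.H454.Reg
open Cfsg.Agent.GpUn (fx mem_fx ND fixG mem_fixG exists_equiv)
open Cfsg.Agent.H674.SUBlock (pr pr_surjective)
open Cfsg.Agent.H251.GeoU (nat_card_eq ord_sq_odd ord_sq_even pre card_dvd_pre)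
open Cfsg.Agent.H729.CovU Cfsg.Agent.H729.CovSU9

variable {F : Type} [Field F] [Fintype F] {p f : ℕ}

/-- a maximal subgroup of `PSU_9(q)` of order divisible by a primitive prime of `q ^ 9 + 1` has order prime to the
primitive primes of `q ^ 7 + 1` -/
theorem nine_coatom (hres : Res9 F (p ^ f)) (hp : p.Prime) (hf : 1 ≤ f) (hF : Fintype.card F = (p ^ f) ^ 2) {s9 s7 : ℕ}
    (h9 : Pm p f 9 s9) (h7 : Pm p f 7 s7) {M : Subgroup (PSU 9 F (p ^ f))} (hM : IsCoatom M) (hd : s9 ∣ Nat.card M) :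
    ¬ s7 ∣ Nat.card M := by
  have ho9 := h9.ord hp hf (by norm_num) (by decide)
  have ho7 := h7.ord hp hf (by norm_num) (by decide)
  have hb9 := h9.dvd_pred hp hf (by norm_num)
  have hb7 := h7.dvd_pred hp hf (by norm_num)
  have hl9 := h9.lt hp hf (by norm_num)
  have hl7 := h7.lt hp hf (by norm_num)
  have hd9 : 18 ∣ s9 - 1 := Dvd.dvd.trans ⟨f, by ring⟩ hb9
  have hd7 : 14 ∣ s7 - 1 := Dvd.dvd.trans ⟨f, by ring⟩ hb7
  rcases geo_over_pre hF hp rfl hf h9.pr h9.iff ho9 (by decide) (by norm_num) (by norm_num) (by omega) hM.1 hd with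
    ⟨W, hW0, -, hW, -⟩ | ⟨W, hW0, -, -, hW, -⟩ | ⟨r, K, hr, hro, hr9, -, hK, hle⟩ | hMr
  · exact absurd (Submodule.finrank_eq_zero.1 (by omega)) hW0
  · exact absurd (Submodule.finrank_eq_zero.1 (by omega)) hW0
  · have hr3 : r = 3 := by
      have h1 : r ∣ 3 ^ 2 := hr9
      exact (Nat.prime_dvd_prime_iff_eq hr Nat.prime_three).1 (hr.dvd_of_dvd_pow h1)
    subst hr3
    intro h
    have h1 := (h.trans (card_dvd_pre M)).trans (Subgroup.card_dvd_of_le hle)
    have := (ext_dvd hF h7.pr ho7 (by decide) (by norm_num) (by norm_num) (by omega) hr le_rfl hK h1).2.1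
    omega
  · obtain ⟨P, hP, hcases⟩ := hres (pre M) (isMaximalIn_pre hM) hMr
    obtain ⟨S, hSn, hSs, hna, hC, ⟨e⟩⟩ := H264.FKS.exists_res_psu hF (by norm_num) hP
    rcases hcases with ⟨⟨e2⟩, -⟩ | ⟨hJ, -⟩ | hL
    · intro h
      rcases l219 hna (e.trans e2) h7.pr (by omega) (dvd_or S hna hC h7.pr h) with h1 | h1 <;> omega
    · have hJ' : Spor.IsoJ3 S := by
        obtain ⟨K, i1, i2, ω, hK, hω, ⟨e3⟩⟩ := hJ
        exact ⟨K, i1, i2, ω, hK, hω, ⟨e.trans e3⟩⟩
      intro h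
      rcases j3 hJ' h7.pr (by omega) (dvd_or S hna hC h7.pr h) with h1 | h1 | h1 <;> omega
    · obtain ⟨e2⟩ := hL
      intro h
      exact l3 hF hp rfl hf hna (e.trans e2) h7.pr ho7 (by decide) (by norm_num) hb7 (dvd_or S hna hC h7.pr h)

theorem map_ne_top {m q : ℕ} (hF : Fintype.card F = q ^ 2) (hm : 3 ≤ m) (h32 : ¬ (m = 3 ∧ q = 2)) {B : Subgroup (SU m F q)}
    (hB : B ≠ ⊤) : B.map pr ≠ ⊤ := by
  intro h
  apply hB
  have h1 : ∀ x : SU m F q, ∃ b ∈ B, ∃ z ∈ Subgroup.center (SU m F q), x = b * z := by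
    intro x
    have h2 : pr x ∈ B.map pr := by rw [h]; trivial
    obtain ⟨b, hb, hbx⟩ := h2
    refine ⟨b, hb, b⁻¹ * x, ?_, by group⟩
    rw [← Cfsg.Agent.H674.SUBlock.pr_eq_one_iff, map_mul, map_inv, hbx, inv_mul_cancel]
  have h2 := Cfsg.Agent.GpUn.perfect_SU hF hm h32
  have h3 : commutator (SU m F q) ≤ B := by
    rw [commutator_eq_closure, Subgroup.closure_le]
    rintro _ ⟨x, y, rfl⟩
    obtain ⟨b, hb, z, hz, rfl⟩ := h1 x
    obtain ⟨c, hc, t, ht, rfl⟩ := h1 y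
    have hz' := Subgroup.mem_center_iff.1 hz
    have ht' := Subgroup.mem_center_iff.1 ht
    have h4 : b * z * (c * t) * (b * z)⁻¹ * (c * t)⁻¹ = b * c * b⁻¹ * c⁻¹ := by
      have e1 : (b * z) * (c * t) = (b * c) * (z * t) := by
        rw [mul_assoc, ← mul_assoc z, ← hz' c]; group
      have e2 : (c * t) * (b * z) = (c * b) * (z * t) := by
        rw [mul_assoc, ← mul_assoc t, ← ht' b, mul_assoc b, hz' t]; group
      have e3 : b * z * (c * t) * (b * z)⁻¹ * (c * t)⁻¹ = (b * z * (c * t)) * ((c * t) * (b * z))⁻¹ := by group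
      rw [e3, e1, e2]
      group
    change b * z * (c * t) * (b * z)⁻¹ * (c * t)⁻¹ ∈ B
    rw [h4]
    exact B.mul_mem (B.mul_mem (B.mul_mem hb hc) (B.inv_mem hb)) (B.inv_mem hc)
  rw [eq_top_iff]
  refine le_trans ?_ h3
  exact h2.ge

theorem dvd_map {m q : ℕ} (hF : Fintype.card F = q ^ 2) (hm : 3 ≤ m) {B : Subgroup (SU m F q)} {s : ℕ} (hs : s.Prime)
    (hsq : ¬ s ∣ q + 1) (h : s ∣ Nat.card B) : s ∣ Nat.card (B.map (pr : SU m F q →* _)) := by
  obtain ⟨g, hg, hgs, hg1, hgo⟩ := exists_elt hs h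
  have h1 : orderOf (pr g) ∣ s := by rw [← hgo]; exact orderOf_map_dvd _ _
  rcases (Nat.dvd_prime hs).1 h1 with h2 | h2
  · exfalso
    rw [orderOf_eq_one_iff, Cfsg.Agent.H674.SUBlock.pr_eq_one_iff] at h2
    have h3 := Cfsg.Agent.GpUn.center_pow hF hm h2
    have h4 := orderOf_dvd_of_pow_eq_one h3
    rw [hgo] at h4
    exact hsq h4
  · rw [← h2]
    exact Subgroup.orderOf_dvd_natCard _ ⟨g, hg, rfl⟩

/-- the case `N = 10`, the factor containing the primes of order `9` -/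
theorem ten_case (hP : Cfsg.Agent.H659.CovCore.S5948Stmt.{0}) (hres : Res9 F (p ^ f)) (hp : p.Prime) (hf : 1 ≤ f)
    (hF : Fintype.card F = (p ^ f) ^ 2) {X Y : Subgroup (PSU (9 + 1) F (p ^ f))}
    (h : Pr p f X Y) {l : ℕ} (hl : Gd p f 9 l) (hd : l ∣ Nat.card X) : Res X := by
  have hodd : Odd 9 := by decide
  have ho7 : Odd 7 := by decide
  have hfin : Finite (SU (9 + 1) F (p ^ f)) := inferInstance
  set H := X.comap (pr : SU (9 + 1) F (p ^ f) →* _) with hH
  have hHt : H ≠ ⊤ := comap_ne_top h.neX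
  obtain ⟨x, hx, hxo⟩ := exists_full_elt h hp hf hF (by omega) hl hodd (by omega) (by omega) (by omega) hd
  have hnum : Num ((p ^ f) ^ 2) (9 + 1) 9 (orderOf x) := by
    rw [hxo]; exact hl.num hp hf (by omega) (by omega) (by omega)
  have hxp := pow_full hxo
  have hx1 : x ≠ 1 := ne_one_of_num hnum
  have hlo := hl.toPm.card_ord hp hf (by omega) hodd hF
  have hlq := hl.toPm.not_dvd_q hp hf (by omega)
  -- the first factor fixes a nonsingular point
  obtain ⟨W, hW1, hW2, hWH⟩ : ∃ W : Submodule F (Fin (9 + 1) → F), 1 ≤ finrank F W ∧ 2 * finrank F W ≤ 9 + 1 ∧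
      InvA H W := by
    rcases ogs hP hF hHt hx hnum with ⟨W, h0, h1, h2⟩ | ⟨r, hr, hrd, -⟩
    · exact exists_small hF h0 h1 h2
    · exfalso
      have h2 := dvd_sub_of_gcd hrd
      exact hr.one_lt.ne' (Nat.dvd_one.1 h2)
  have hWfx : W ≤ fx x := le_fx hl.pr hlo hxp (hWH x hx) (by omega)
  have hfd := fx_dim hl.pr hlo (by omega) hxp hx1
  have hWd : finrank F W = 1 := by
    have := Submodule.finrank_mono hWfx
    omega
  have hWeq : W = fx x := Submodule.eq_of_le_of_finrank_le hWfx (by omega)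
  have hnd : ND (p ^ f) W := by rw [hWeq]; exact nd_fx hF hl.pr hlq hxp
  obtain ⟨w, hww, hwW⟩ := exists_span hWd hnd
  obtain ⟨ι, hι, hιr⟩ := exists_iota hF hww
  by_cases hB : H.comap ι = ⊤
  · refine ⟨w, hww, fun g hg => ?_⟩
    obtain ⟨y, rfl⟩ := (hιr g).1 hg
    have : y ∈ H.comap ι := by rw [hB]; trivial
    exact this
  exfalso
  have key : ∀ {k s : ℕ}, Odd k → 7 ≤ k → Pm p f k s → s ∣ Nat.card H → s ∣ Nat.card (H.comap ι) := by
    intro k s hk hk7 hs hsd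
    obtain ⟨g, hg, hgs, hg1, hgo⟩ := exists_elt hs.pr hsd
    have hso := hs.card_ord hp hf (by omega) hk hF
    have hgw := fix_of_line (a := 1) hs.pr hso (by omega) hWH hWd hg (by rw [pow_one]; exact hgs) hwW
    obtain ⟨z, rfl⟩ := (hιr g).1 hgw
    rw [orderOf_injective ι hι] at hgo
    rw [← hgo]
    exact Subgroup.orderOf_dvd_natCard _ hg
  have hMt : (H.comap ι).map (pr : SU 9 F (p ^ f) →* _) ≠ ⊤ := map_ne_top hF (by norm_num) (by norm_num) hB
  obtain ⟨M, hM, hle⟩ := (eq_top_or_exists_le_coatom ((H.comap ι).map (pr : SU 9 F (p ^ f) →* _))).resolve_left hMt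
  have hto : ∀ {k s : ℕ}, Odd k → 7 ≤ k → Pm p f k s → s ∣ Nat.card H → s ∣ Nat.card M := by
    intro k s hk hk7 hs hsd
    exact (dvd_map hF (by norm_num) hs.pr (hs.not_dvd_succ hf (by omega)) (key hk hk7 hs hsd)).trans
      (Subgroup.card_dvd_of_le hle)
  have h7 : ∀ {s : ℕ}, Pm p f 7 s → s ∣ Nat.card Y := fun hs =>
    h.other_pm hp hf hF hs (by omega) ho7 (by omega) fun hsd =>
      nine_coatom hres hp hf hF hl.toPm hs hM (hto hodd (by norm_num) hl.toPm (hd.trans (card_dvd_comap X)))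
        (hto ho7 le_rfl hs hsd)
  obtain ⟨t, ht⟩ := exists_ev (p := p) (f := f) (n := 9 + 1) hp hf (by omega)
  have hev : Even (9 + 1) := by decide
  have htO := ht.card_ord hev hF
  have htq : ¬ t ∣ p ^ f := Cfsg.Agent.H251.GeoU.not_dvd_of_ord ht.pr ht.ord (by omega)
  have htY : t ∣ Nat.card Y := by
    refine h.other_ev hF ht (by omega) le_rfl fun htd => ?_
    obtain ⟨g, hg, hgs, hg1, -⟩ := exists_elt ht.pr htd
    have h5 : W ≤ fx g := le_fx (a := 1) ht.pr htO (by rw [pow_one]; exact hgs) (hWH g hg) (by omega)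
    have h6 := fx_dim_neg hF ht.pr htq hgs hg1
    rw [ht.ord] at h6
    have := Submodule.finrank_mono h5
    omega
  -- the second factor
  obtain ⟨l', hl'⟩ := exists_gd (p := p) (f := f) (k := 7) hp hf le_rfl ho7 (by omega)
  obtain ⟨x', hx', hxo'⟩ := exists_full_elt h.symm hp hf hF (by omega) hl' ho7 (by omega) (by omega) (by omega)
    (h7 hl'.toPm)
  have hnum' : Num ((p ^ f) ^ 2) (9 + 1) 7 (orderOf x') := by
    rw [hxo']; exact hl'.num hp hf (by omega) (by omega) (by omega)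
  have hl'o := hl'.toPm.card_ord hp hf (by omega) ho7 hF
  have hxp' := pow_full hxo'
  rcases ogs hP hF (comap_ne_top h.neY) hx' hnum' with ⟨W', h0, h1, h3⟩ | ⟨r', hr', hrd', hNF'⟩
  · obtain ⟨W'', g1, g2, g3⟩ := exists_small hF h0 h1 h3
    obtain ⟨z, hz, hzt, hz1, -⟩ := exists_elt_pr ht.pr htY
    have h6 := fx_dim_neg hF ht.pr htq hzt hz1
    rw [ht.ord] at h6
    have h7 := dvd_dim (a := 1) ht.pr htO (by omega) (by rw [pow_one]; exact hzt) (g3 z hz)
    have h8 : finrank F (W'' ⊓ fx z : Submodule F (Fin (9 + 1) → F)) ≤ finrank F (fx z) :=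
      Submodule.finrank_mono inf_le_right
    have h9 := Nat.le_of_dvd (by omega) h7
    have h10 := Submodule.finrank_mono (le_fx hl'.pr hl'o hxp' (g3 x' hx') (by omega))
    have h11 := fx_dim hl'.pr hl'o (by omega) hxp' (ne_one_of_num hnum')
    omega
  · have h5 : Nat.gcd (9 + 1) 7 = 1 := by norm_num
    rw [h5] at hrd'
    exact hr'.one_lt.ne' (Nat.dvd_one.1 hrd')

/-- **The main theorem for `N ≥ 10`.** -/
theorem core_ten {N : ℕ} (hP : Cfsg.Agent.H659.CovCore.S5948Stmt.{0}) (hres : Res9 F (p ^ f)) (hp : p.Prime) (hf : 1 ≤ f)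
    (hF : Fintype.card F = (p ^ f) ^ 2) (hN : 10 ≤ N) (hex : ¬ (N = 10 ∧ p ^ f = 2)) {X Y : Subgroup (PSU N F (p ^ f))}
    (h : Pr p f X Y) : Res X ∨ Res Y := by
  rcases Nat.lt_or_ge 10 N with hN' | hN'
  · exact core hP hp hf hF hN' h
  have hN10 : N = 9 + 1 := by omega
  subst hN10
  obtain ⟨l, hl⟩ := exists_gd (p := p) (f := f) (k := 9) hp hf (by omega) (by decide) (by omega)
  rcases h.one hp hf hF hl.toPm (by omega) (by decide) (by omega) with hd | hd
  · exact Or.inl (ten_case hP hres hp hf hF h hl hd)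
  · exact Or.inr (ten_case hP hres hp hf hF h.symm hl hd)

theorem aux_ten {c A B : ℕ} (hA : B ≤ A) (h0 : (2 + 1) * c ≤ B) (h : 3 * A < c) : False := by
  omega

theorem card_psu_ten_two (hF : Fintype.card F = 2 ^ 2) : (2 + 1) * Nat.card (PSU 10 F 2) ≤ 2 ^ 101 := by
  have h0 := S0280.result (F := F) hF 10 (by norm_num)
  have h1 : Nat.gcd 10 (2 + 1) = 1 := by norm_num
  rw [h1, one_mul] at h0
  rw [h0]
  simp only [Finset.prod_range_succ, Finset.prod_range_zero]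
  norm_num [Nat.even_iff]

theorem fac_29 : (2 : ℕ) ^ 101 ≤ Nat.factorial 29 := by
  norm_num [Nat.factorial]

/-- **One factor contains the stabiliser of a nonsingular vector (`N ≥ 10`).** -/
theorem top_psu {N q : ℕ} {G : Type*} [Group G] [Finite G] {T X Y : Subgroup G}
    (hP : Cfsg.Agent.H659.CovCore.S5948Stmt.{0}) (hres : Res9 F q)
    (h : Fac T X Y) (hF : Fintype.card F = q ^ 2) (hN : 10 ≤ N) (e : T ≃* PSU N F q) :
    (∃ w : Fin N → F, hermForm N F q w w ≠ 0 ∧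
      ∀ g : SU N F q, act g w = w → ((e.symm (pr g) : T) : G) ∈ X) ∨
    (∃ w : Fin N → F, hermForm N F q w w ≠ 0 ∧
      ∀ g : SU N F q, act g w = w → ((e.symm (pr g) : T) : G) ∈ Y) := by
  have hex : ¬ (N = 10 ∧ q = 2) := by
    rintro ⟨rfl, rfl⟩
    have h1 := h.large
    rw [Nat.card_congr e.toEquiv] at h1
    exact aux_ten fac_29 (card_psu_ten_two hF) h1
  obtain ⟨p, f, hp, hf, rfl, -⟩ := H251.GeoU.exists_prime_power hF
  have hpr := pr_of_fac h hp hf hF (by omega) (by omega) e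
  have key : ∀ {Z : Subgroup G}, Res (img e Z) → ∃ w : Fin N → F, hermForm N F (p ^ f) w w ≠ 0 ∧
      ∀ g : SU N F (p ^ f), act g w = w → ((e.symm (pr g) : T) : G) ∈ Z := by
    rintro Z ⟨w, hw, hg⟩
    refine ⟨w, hw, fun g hgw => ?_⟩
    rw [← mem_img e, e.apply_symm_apply]
    exact hg g hgw
  rcases core_ten hP hres hp hf hF hN hex hpr with h1 | h1
  · exact Or.inl (key h1)
  · exact Or.inr (key h1)

end Cfsg.Agent.H89.Reg
end

-- part: H89/Reg/Nine
section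
/-!
# S3691, row `PSU_N(q)`, `N = 9`
-/

set_option autoImplicit false
set_option linter.unusedSectionVars false

namespace Cfsg.Agent.H89.Reg

open Cfsg Cfsg.Geo Module Matrix
open Cfsg.Agent.LieClassical.HermBasic Cfsg.Agent.ClassicalGeometry.HermOrtho
open Cfsg.Agent.LieClassical.HermSiegel (act mat act_mul act_one act_inv_act act_act_inv herm_act)
open Cfsg.Agent.H278.Cov Cfsg.Agent.H851.Dg Cfsg.Agent.H454.Reg
open Cfsg.Agent.GpUn (fx mem_fx ND fixG mem_fixG exists_equiv)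
open Cfsg.Agent.H674.SUBlock (pr pr_surjective)
open Cfsg.Agent.H251.GeoU (nat_card_eq ord_sq_odd ord_sq_even pre card_dvd_pre)
open Cfsg.Agent.H436 Cfsg.Agent.H915.GN Cfsg.Agent.OrdDiv
open Cfsg.Agent.H729.CovU Cfsg.Agent.H729.CovSU9

variable {F : Type} [Field F] [Fintype F] {p f : ℕ}

/-- the residual class of `SU_8(q)`: the conclusion of S5821 -/
def Res8 (F : Type) [Field F] [Fintype F] (q : ℕ) : Prop :=
  ∀ H : Subgroup (Matrix.GeneralLinearGroup (Fin 8) F),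
    Cfsg.Geo.IsMaximalIn (Cfsg.GU 8 F q ⊓ Cfsg.Geo.specialLinear (Fin 8) F) H →
    Cfsg.Geo.InUnitaryResidualClass H →
    ∃ P : Subgroup (Matrix.GeneralLinearGroup (Fin 8) F), Cfsg.Geo.IsResidualCore H P ∧ q.Prime ∧
      (q % 80 = 11 ∨ q % 80 = 19 ∨ q % 80 = 39 ∨ q % 80 = 51 ∨ q % 80 = 59 ∨ q % 80 = 71 ∨ q % 80 = 31 ∨ q % 80 = 79) ∧
      (∃ (K : Type) (_ : Field K) (_ : Fintype K), Fintype.card K = 4 ∧
        Nonempty ((P ⧸ (Cfsg.Geo.scalars (Fin 8) F).subgroupOf P) ≃* Matrix.ProjectiveSpecialLinearGroup (Fin 3) K))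

/-- `L_3(4)` -/
theorem l34 {S : Type} [Group S] [Finite S] [IsSimpleGroup S] (hna : ¬ IsMulCommutative S) {K : Type} [Field K]
    [Fintype K] (hK : Fintype.card K = 4) (e : S ≃* Matrix.ProjectiveSpecialLinearGroup (Fin 3) K) {r : ℕ}
    (hr : r.Prime) (h5 : 5 ≤ r) (h : r ∣ Nat.card (Cfsg.Out S) ∨ r ∣ Nat.card S) : r = 5 ∨ r = 7 := by
  have heq : den (.psl 3 4) * Nat.card S = num (.psl 3 4) := by
    rw [Nat.card_congr e.toEquiv]
    have h1 := psl_eq (F := K) (n := 3) (by norm_num)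
    rw [hK] at h1
    exact h1
  have hS : IsNamed (.psl 3 4) S :=
    .mk' ⟨K, inferInstance, inferInstance, hK, ⟨e⟩⟩
      ⟨by norm_num, fun h => by omega, by rw [← hK]; exact Fintype.isPrimePow_card_of_field⟩ heq
  have hcard : Nat.card S = 20160 := by
    have h1 : den (.psl 3 4) = 9 := by decide +kernel
    have h2 : num (.psl 3 4) = 181440 := by decide +kernel
    rw [h1, h2] at heq
    omega
  have h1 : r ∣ Nat.card S := by
    rcases h with h | h
    · rcases Cfsg.Agent.H884.Cx.dvd_of_out' (not_comm' hna) (s := 2) Nat.prime_two hS ⟨2, by norm_num⟩ hr h5 h with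
        h1 | h1
      · exact h1
      · have := Nat.le_of_dvd two_pos (h1 2 (by rfl))
        omega
    · exact h
  rw [hcard, show 20160 = 2 ^ 6 * 3 ^ 2 * (5 * 7) by norm_num] at h1
  rcases hr.dvd_mul.1 h1 with h1 | h1
  · exfalso
    rcases hr.dvd_mul.1 h1 with h1 | h1
    · have := Nat.le_of_dvd (by norm_num) (hr.dvd_of_dvd_pow h1); omega
    · have := Nat.le_of_dvd (by norm_num) (hr.dvd_of_dvd_pow h1); omega
  · rcases hr.dvd_mul.1 h1 with h1 | h1
    · exact Or.inl ((Nat.prime_dvd_prime_iff_eq hr (by norm_num)).1 h1)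
    · exact Or.inr ((Nat.prime_dvd_prime_iff_eq hr (by norm_num)).1 h1)

theorem inv_of_pre {n q : ℕ} {M : Subgroup (PSU n F q)} {W : Submodule F (Fin n → F)}
    (h : pre M ≤ subspaceStabilizer W) : InvA (M.comap pr) W := fun g hg w hw => ((h ⟨g, hg, rfl⟩) w).1 hw

theorem nf_of_pre {n q r : ℕ} {M : Subgroup (PSU n F q)} {K : Subalgebra F (Matrix (Fin n) (Fin n) F)}
    (hK : IsFieldSubalgebra r K) (h : pre M ≤ subalgebraNormalizer K) : NF (M.comap pr) r :=
  ⟨K, hK, fun g hg => h ⟨g, hg, rfl⟩⟩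

theorem InvA.mono {n q : ℕ} {A B : Subgroup (SU n F q)} {W : Submodule F (Fin n → F)} (h : InvA B W) (hAB : A ≤ B) :
    InvA A W := fun g hg => h g (hAB hg)

theorem dvd_comap_of {n q s : ℕ} {M : Subgroup (PSU n F q)} (h : s ∣ Nat.card M) :
    s ∣ Nat.card (M.comap (pr : SU n F q →* _)) := h.trans (card_dvd_comap M)

/-- a maximal subgroup of `PSU_8(q)` of order divisible by a primitive prime of `q ^ 7 + 1` fixes a point -/
theorem eight_fix (hres : Res8 F (p ^ f)) (hp : p.Prime) (hf : 1 ≤ f) (hF : Fintype.card F = (p ^ f) ^ 2) {s7 : ℕ}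
    (h7 : Pm p f 7 s7) {M : Subgroup (PSU 8 F (p ^ f))} (hM : IsCoatom M) (hd : s7 ∣ Nat.card M) :
    ∃ W : Submodule F (Fin 8 → F), finrank F W = 1 ∧ InvA (M.comap pr) W := by
  have ho7 := h7.ord hp hf (by norm_num) (by decide)
  have hb7 := h7.dvd_pred hp hf (by norm_num)
  have hl7 := h7.lt hp hf (by norm_num)
  rcases geo_over_pre hF hp rfl hf h7.pr h7.iff ho7 (by decide) (by norm_num) (by norm_num) (by omega) hM.1 hd with
    ⟨W, hW0, -, hW, -⟩ | ⟨W, hW0, -, -, hW, hle⟩ | ⟨r, K, hr, -, hr8, hr7, -, -⟩ | hMr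
  · exact absurd (Submodule.finrank_eq_zero.1 (by omega)) hW0
  · have hpos : finrank F W ≠ 0 := fun h => hW0 (Submodule.finrank_eq_zero.1 h)
    exact ⟨W, by omega, inv_of_pre hle⟩
  · exfalso
    have h1 : r ∣ 8 - 7 := Nat.dvd_sub hr8 hr7
    exact hr.one_lt.ne' (Nat.dvd_one.1 h1)
  · exfalso
    obtain ⟨P, hP, -, -, K, i1, i2, hK, ⟨e2⟩⟩ := hres (pre M) (isMaximalIn_pre hM) hMr
    obtain ⟨S, hSn, hSs, hna, hC, ⟨e⟩⟩ := H264.FKS.exists_res_psu hF (by norm_num) hP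
    rcases l34 hna hK (e.trans e2) h7.pr (by omega) (dvd_or S hna hC h7.pr hd) with h1 | h1 <;> omega

/-- a proper subgroup of `SU_8(q)` of order divisible by the primes of order `7` and `8` does not exist -/
theorem eight_top (hres : Res8 F (p ^ f)) (hp : p.Prime) (hf : 1 ≤ f) (hF : Fintype.card F = (p ^ f) ^ 2) {s7 t : ℕ}
    (h7 : Pm p f 7 s7) (ht : Ev p f 8 t) {B : Subgroup (SU 8 F (p ^ f))} (hd : s7 ∣ Nat.card B) (htd : t ∣ Nat.card B) :
    B = ⊤ := by
  by_contra hB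
  have hMt : B.map (pr : SU 8 F (p ^ f) →* _) ≠ ⊤ := map_ne_top hF (by norm_num) (by norm_num) hB
  obtain ⟨M, hM, hle⟩ := (eq_top_or_exists_le_coatom (B.map (pr : SU 8 F (p ^ f) →* _))).resolve_left hMt
  have h1 : s7 ∣ Nat.card M := (dvd_map hF (by norm_num) h7.pr (h7.not_dvd_succ hf (by omega)) hd).trans
    (Subgroup.card_dvd_of_le hle)
  obtain ⟨W, hW1, hW⟩ := eight_fix hres hp hf hF h7 hM h1
  have hWB : InvA B W := hW.mono fun g hg => hle ⟨g, hg, rfl⟩
  obtain ⟨g, hg, hgs, hg1, -⟩ := exists_elt ht.pr htd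
  have htO := ht.card_ord (by decide) hF
  have htq : ¬ t ∣ p ^ f := Cfsg.Agent.H251.GeoU.not_dvd_of_ord ht.pr ht.ord (by omega)
  have h5 : W ≤ fx g := le_fx (a := 1) ht.pr htO (by rw [pow_one]; exact hgs) (hWB g hg) (by omega)
  have h6 := fx_dim_neg hF ht.pr htq hgs hg1
  rw [ht.ord] at h6
  have := Submodule.finrank_mono h5
  omega

/-- the residual maximal subgroups of `PSU_9(q)` have order prime to the primitive primes of `q ^ 7 + 1` -/
theorem nine_res (hres : Res9 F (p ^ f)) (hp : p.Prime) (hf : 1 ≤ f) (hF : Fintype.card F = (p ^ f) ^ 2) {s7 : ℕ}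
    (h7 : Pm p f 7 s7) {M : Subgroup (PSU 9 F (p ^ f))} (hM : IsCoatom M) (hMr : InUnitaryResidualClass (pre M)) :
    ¬ s7 ∣ Nat.card M := by
  have ho7 := h7.ord hp hf (by norm_num) (by decide)
  have hb7 := h7.dvd_pred hp hf (by norm_num)
  have hl7 := h7.lt hp hf (by norm_num)
  have hd7 : 14 ∣ s7 - 1 := Dvd.dvd.trans ⟨f, by ring⟩ hb7
  obtain ⟨P, hP, hcases⟩ := hres (pre M) (isMaximalIn_pre hM) hMr
  obtain ⟨S, hSn, hSs, hna, hC, ⟨e⟩⟩ := H264.FKS.exists_res_psu hF (by norm_num) hP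
  rcases hcases with ⟨⟨e2⟩, -⟩ | ⟨hJ, -⟩ | hL
  · intro h
    rcases l219 hna (e.trans e2) h7.pr (by omega) (dvd_or S hna hC h7.pr h) with h1 | h1 <;> omega
  · have hJ' : Spor.IsoJ3 S := by
      obtain ⟨K, i1, i2, ω, hK, hω, ⟨e3⟩⟩ := hJ
      exact ⟨K, i1, i2, ω, hK, hω, ⟨e.trans e3⟩⟩
    intro h
    rcases j3 hJ' h7.pr (by omega) (dvd_or S hna hC h7.pr h) with h1 | h1 | h1 <;> omega
  · obtain ⟨e2⟩ := hL
    intro h
    exact l3 hF hp rfl hf hna (e.trans e2) h7.pr ho7 (by decide) (by norm_num) hb7 (dvd_or S hna hC h7.pr h)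

/-- `L_3(q ^ 2)`, the primes of order `8` -/
theorem l3_ev (hp : p.Prime) (hF : Fintype.card F = (p ^ f) ^ 2) {S : Type} [Group S] [Finite S]
    [IsSimpleGroup S] (hna : ¬ IsMulCommutative S) (e : S ≃* Matrix.ProjectiveSpecialLinearGroup (Fin 3) F) {t : ℕ}
    (ht : Ev p f 8 t) (h : t ∣ Nat.card (Cfsg.Out S) ∨ t ∣ Nat.card S) : False := by
  have hlt := ht.le (by norm_num)
  have hq1 : 1 < p ^ f := q_one_lt hF
  have hS : IsNamed (.psl 3 (Fintype.card F)) S :=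
    .mk' ⟨F, inferInstance, inferInstance, rfl, ⟨e⟩⟩
      ⟨by norm_num, fun h => by omega, Fintype.isPrimePow_card_of_field⟩ (by
        rw [Nat.card_congr e.toEquiv]
        exact psl_eq (by norm_num))
  have hS' : ¬ t ∣ Nat.card S := by
    intro h1
    rw [Nat.card_congr e.toEquiv] at h1
    have h2 : t ∣ Nat.card (GL (Fin 3) F) := by
      refine (h1.trans (Subgroup.card_quotient_dvd_card _)).trans ?_
      rw [Nat.card_congr (Equiv.ofInjective _ (Matrix.SpecialLinearGroup.toGL_injective (n := Fin 3) (R := F)))]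
      exact Subgroup.card_subgroup_dvd_card (Matrix.SpecialLinearGroup.toGL (n := Fin 3) (R := F)).range
    have hsq := Cfsg.Agent.H251.GeoU.not_dvd_of_ord ht.pr ht.ord (by omega)
    have h3 := Cfsg.Agent.H251.GeoCard.div_of_dvd_card_fin ht.pr
      (Cfsg.Agent.H251.GeoU.not_dvd_card hF ht.pr hsq) h2
    have h4 := Cfsg.Agent.H251.GeoU.ord_le_of_div (Nat.one_le_iff_ne_zero.2 Nat.card_pos.ne') h3
    rw [ht.card_ord (by decide) hF] at h4
    omega
  rcases h with h | h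
  · have hch : Fintype.card F = p ^ (f * 2) := by rw [hF, pow_mul]
    rcases Cfsg.Agent.H884.Cx.dvd_of_out' (not_comm' hna) hp hS ⟨f * 2, hch⟩ ht.pr (by omega) h with h1 | h1
    · exact hS' h1
    · rcases ht.pr.dvd_mul.1 (h1 (f * 2) hch) with h2 | h2
      · exact ht.not_dvd_f h2
      · exact ht.ne_two ((Nat.prime_dvd_prime_iff_eq ht.pr Nat.prime_two).1 h2)
  · exact hS' h

/-- maximal subgroups of `PSU_9(q)` of order divisible by a primitive prime of `q ^ 9 + 1` have order prime to the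
primes of order `8` (`q ≠ 2`) -/
theorem nine_coatom_ev (hres : Res9 F (p ^ f)) (hp : p.Prime) (hf : 1 ≤ f) (hF : Fintype.card F = (p ^ f) ^ 2)
    (hq2 : p ^ f ≠ 2) {s9 t : ℕ} (h9 : Pm p f 9 s9) (ht : Ev p f 8 t) {M : Subgroup (PSU 9 F (p ^ f))}
    (hM : IsCoatom M) (hd : s9 ∣ Nat.card M) : ¬ t ∣ Nat.card M := by
  have ho9 := h9.ord hp hf (by norm_num) (by decide)
  have hl9 := h9.lt hp hf (by norm_num)
  have htO := ht.card_ord (by decide) hF
  have htq : ¬ t ∣ p ^ f := Cfsg.Agent.H251.GeoU.not_dvd_of_ord ht.pr ht.ord (by omega)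
  have htle := ht.le (by norm_num)
  have ht8 : 8 ∣ t - 1 := Cfsg.Agent.H251.GeoU.dvd_pred_of_ord ht.pr ht.ord (by norm_num)
  rcases geo_over_pre hF hp rfl hf h9.pr h9.iff ho9 (by decide) (by norm_num) (by norm_num) (by omega) hM.1 hd with
    ⟨W, hW0, -, hW, -⟩ | ⟨W, hW0, -, -, hW, -⟩ | ⟨r, K, hr, hro, hr9, -, hK, hle⟩ | hMr
  · exact absurd (Submodule.finrank_eq_zero.1 (by omega)) hW0
  · exact absurd (Submodule.finrank_eq_zero.1 (by omega)) hW0
  · have hr3 : r = 3 := by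
      have h1 : r ∣ 3 ^ 2 := hr9
      exact (Nat.prime_dvd_prime_iff_eq hr Nat.prime_three).1 (hr.dvd_of_dvd_pow h1)
    subst hr3
    intro h
    obtain ⟨i, hi1, hi2, hi3⟩ := (nf_of_pre hK hle).div hF hr (by norm_num) ht.pr htq (by omega) htO (dvd_comap_of h)
    omega
  · intro h
    obtain ⟨P, hP, hcases⟩ := hres (pre M) (isMaximalIn_pre hM) hMr
    obtain ⟨S, hSn, hSs, hna, hC, ⟨e⟩⟩ := H264.FKS.exists_res_psu hF (by norm_num) hP
    rcases hcases with ⟨⟨e2⟩, -⟩ | ⟨-, hq⟩ | hL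
    · rcases l219 hna (e.trans e2) ht.pr (by omega) (dvd_or S hna hC ht.pr h) with h1 | h1 <;> omega
    · exact hq2 hq
    · obtain ⟨e2⟩ := hL
      exact l3_ev hp hF hna (e.trans e2) ht (dvd_or S hna hC ht.pr h)

/-- the case `N = 9`, the factor containing the primes of order `9` -/
theorem nine_case (hres8 : Res8 F (p ^ f)) (hres : Res9 F (p ^ f)) (hp : p.Prime) (hf : 1 ≤ f)
    (hF : Fintype.card F = (p ^ f) ^ 2) (hq2 : p ^ f ≠ 2) {X Y : Subgroup (PSU (8 + 1) F (p ^ f))} (h : Pr p f X Y)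
    {l : ℕ} (hl : Pm p f 9 l) (hd : l ∣ Nat.card X) : Res Y := by
  obtain ⟨s7, h7⟩ := exists_pm (p := p) (f := f) (k := 7) hp hf (by norm_num) (by decide)
  obtain ⟨t, ht⟩ := exists_ev (p := p) (f := f) (n := 8) hp hf (by omega)
  have ho7 := h7.ord hp hf (by norm_num) (by decide)
  have hl7 := h7.lt hp hf (by norm_num)
  have htO := ht.card_ord (by decide) hF
  have htq : ¬ t ∣ p ^ f := Cfsg.Agent.H251.GeoU.not_dvd_of_ord ht.pr ht.ord (by omega)
  have hXY : ∀ {s : ℕ}, s.Prime → s ≠ 2 → ¬ s ∣ f → ¬ s ∣ p ^ f + 1 → s ∣ Nat.card (PSU (8 + 1) F (p ^ f)) →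
      ¬ s ∣ Nat.card X → s ∣ Nat.card Y := by
    intro s hs h2 hsf hsq hsd hX
    have h1 := h.val s hs h2 hsf hsq
    rw [Nat.factorization_eq_zero_of_not_dvd hX, zero_add] at h1
    have h3 := (hs.dvd_iff_one_le_factorization Nat.card_pos.ne').1 hsd
    rw [← h1] at h3
    exact (hs.dvd_iff_one_le_factorization Nat.card_pos.ne').2 h3
  obtain ⟨M, hM, hXM⟩ := (eq_top_or_exists_le_coatom X).resolve_left h.neX
  have hdM := hd.trans (Subgroup.card_dvd_of_le hXM)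
  have hY7 : s7 ∣ Nat.card Y :=
    hXY h7.pr (h7.ne_two hp hf (by omega)) (h7.not_dvd_f hp hf (by omega)) (h7.not_dvd_succ hf (by omega))
      (h7.dvd_psu hp hf (by omega) (by decide) (by omega) hF)
      fun h1 => nine_coatom hres hp hf hF hl h7 hM hdM (h1.trans (Subgroup.card_dvd_of_le hXM))
  have hYt : t ∣ Nat.card Y :=
    hXY ht.pr ht.ne_two ht.not_dvd_f (ht.not_dvd_succ (by omega)) (ht.dvd_psu (by omega) (by omega) hF)
      fun h1 => nine_coatom_ev hres hp hf hF hq2 hl ht hM hdM (h1.trans (Subgroup.card_dvd_of_le hXM))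
  -- the second factor
  set H := Y.comap (pr : SU (8 + 1) F (p ^ f) →* _) with hH
  obtain ⟨M', hM', hYM⟩ := (eq_top_or_exists_le_coatom Y).resolve_left h.neY
  have hHM : H ≤ M'.comap pr := fun g hg => hYM hg
  obtain ⟨g, hg, hgs, hg1, hgo⟩ := exists_elt_pr ht.pr hYt
  have h6 := fx_dim_neg hF ht.pr htq hgs hg1
  rw [ht.ord] at h6
  obtain ⟨W, hW1, hWnd, hWH⟩ : ∃ W : Submodule F (Fin (8 + 1) → F), finrank F W = 1 ∧ ND (p ^ f) W ∧ InvA H W := by
    have hndg := nd_fx (a := 1) hF ht.pr htq (by rw [pow_one]; exact hgs)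
    have key : ∀ W : Submodule F (Fin (8 + 1) → F), W ≠ ⊥ → finrank F W < 4 → pre M' ≤ subspaceStabilizer W →
        ∃ W : Submodule F (Fin (8 + 1) → F), finrank F W = 1 ∧ ND (p ^ f) W ∧ InvA H W := by
      intro W hW0 hW hle
      have hWH : InvA H W := (inv_of_pre hle).mono hHM
      have h5 : W ≤ fx g := le_fx (a := 1) ht.pr htO (by rw [pow_one]; exact hgs) (hWH g hg) (by omega)
      have hpos : finrank F W ≠ 0 := fun h => hW0 (Submodule.finrank_eq_zero.1 h)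
      have h7 := Submodule.finrank_mono h5
      have h8 : W = fx g := Submodule.eq_of_le_of_finrank_le h5 (by omega)
      exact ⟨W, by omega, by rw [h8]; exact hndg, hWH⟩
    rcases geo_over_pre hF hp rfl hf h7.pr h7.iff ho7 (by decide) (by norm_num) (by norm_num) (by omega) hM'.1
      (hY7.trans (Subgroup.card_dvd_of_le hYM)) with
      ⟨W, hW0, -, hW, hle⟩ | ⟨W, hW0, -, -, hW, hle⟩ | ⟨r, K, hr, -, hr9, hr7, -, -⟩ | hMr
    · exact key W hW0 (by omega) hle
    · exact key W hW0 (by omega) hle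
    · exfalso
      have h1 : r ∣ 9 - 7 := Nat.dvd_sub hr9 hr7
      have h2 := (Nat.prime_dvd_prime_iff_eq hr Nat.prime_two).1 h1
      subst h2
      norm_num at hr7
    · exact absurd (hY7.trans (Subgroup.card_dvd_of_le hYM)) (nine_res hres hp hf hF h7 hM' hMr)
  obtain ⟨w, hww, hwW⟩ := exists_span hW1 hWnd
  obtain ⟨ι, hι, hιr⟩ := exists_iota hF hww
  have hB : H.comap ι = ⊤ := by
    have hto : ∀ {s e : ℕ}, s.Prime → orderOf ((Nat.card F : ℕ) : ZMod s) = e → 1 < e → s ∣ Nat.card Y →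
        s ∣ Nat.card (H.comap ι) := by
      intro s e hs hso he hsd
      obtain ⟨g, hg, hgs, hg1, hgo⟩ := exists_elt_pr hs hsd
      have hgw := fix_of_line (a := 1) hs hso he hWH hW1 hg (by rw [pow_one]; exact hgs) hwW
      obtain ⟨z, rfl⟩ := (hιr g).1 hgw
      rw [orderOf_injective ι hι] at hgo
      rw [← hgo]
      exact Subgroup.orderOf_dvd_natCard _ hg
    exact eight_top hres8 hp hf hF h7 ht (hto h7.pr (h7.card_ord hp hf (by omega) (by decide) hF) (by omega) hY7)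
      (hto ht.pr htO (by omega) hYt)
  refine ⟨w, hww, fun g hg => ?_⟩
  obtain ⟨y, rfl⟩ := (hιr g).1 hg
  have : y ∈ H.comap ι := by rw [hB]; trivial
  exact this

theorem core_nine (hres8 : Res8 F (p ^ f)) (hres : Res9 F (p ^ f)) (hp : p.Prime) (hf : 1 ≤ f)
    (hF : Fintype.card F = (p ^ f) ^ 2) (hq2 : p ^ f ≠ 2) {X Y : Subgroup (PSU 9 F (p ^ f))} (h : Pr p f X Y) :
    Res X ∨ Res Y := by
  obtain ⟨l, hl⟩ := exists_pm (p := p) (f := f) (k := 9) hp hf (by omega) (by decide)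
  rcases h.one hp hf hF hl (by omega) (by decide) (by omega) with hd | hd
  · exact Or.inr (nine_case hres8 hres hp hf hF hq2 h hl hd)
  · exact Or.inl (nine_case hres8 hres hp hf hF hq2 h.symm hl hd)

theorem card_psu_nine_two (hF : Fintype.card F = 2 ^ 2) : (2 + 1) * Nat.card (PSU 9 F 2) ≤ 2 ^ 101 := by
  have h0 := S0280.result (F := F) hF 9 (by norm_num)
  have h1 : Nat.gcd 9 (2 + 1) = 3 := by norm_num
  have h2 : (2 + 1) * Nat.card (PSU 9 F 2) ≤ Nat.gcd 9 (2 + 1) * ((2 + 1) * Nat.card (PSU 9 F 2)) := by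
    rw [h1]
    omega
  refine h2.trans ?_
  rw [h0]
  simp only [Finset.prod_range_succ, Finset.prod_range_zero]
  norm_num [Nat.even_iff]

/-- **One factor contains the stabiliser of a nonsingular vector (`N ≥ 9`).** -/
theorem top_psu_nine {N q : ℕ} {G : Type*} [Group G] [Finite G] {T X Y : Subgroup G}
    (hP : Cfsg.Agent.H659.CovCore.S5948Stmt.{0}) (hres : Res9 F q) (hres8 : Res8 F q)
    (h : Fac T X Y) (hF : Fintype.card F = q ^ 2) (hN : 9 ≤ N) (e : T ≃* PSU N F q) :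
    (∃ w : Fin N → F, hermForm N F q w w ≠ 0 ∧
      ∀ g : SU N F q, act g w = w → ((e.symm (pr g) : T) : G) ∈ X) ∨
    (∃ w : Fin N → F, hermForm N F q w w ≠ 0 ∧
      ∀ g : SU N F q, act g w = w → ((e.symm (pr g) : T) : G) ∈ Y) := by
  rcases Nat.lt_or_ge 9 N with hN' | hN'
  · exact top_psu hP hres h hF hN' e
  obtain rfl : N = 9 := le_antisymm hN' hN
  have hex : q ≠ 2 := by
    rintro rfl
    have h1 := h.large
    rw [Nat.card_congr e.toEquiv] at h1
    exact aux_ten fac_29 (card_psu_nine_two hF) h1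
  obtain ⟨p, f, hp, hf, rfl, -⟩ := H251.GeoU.exists_prime_power hF
  have hpr := pr_of_fac h hp hf hF (by omega) (by omega) e
  have key : ∀ {Z : Subgroup G}, Res (img e Z) → ∃ w : Fin 9 → F, hermForm 9 F (p ^ f) w w ≠ 0 ∧
      ∀ g : SU 9 F (p ^ f), act g w = w → ((e.symm (pr g) : T) : G) ∈ Z := by
    rintro Z ⟨w, hw, hg⟩
    refine ⟨w, hw, fun g hgw => ?_⟩
    rw [← mem_img e, e.apply_symm_apply]
    exact hg g hgw
  rcases core_nine hres8 hres hp hf hF hex hpr with h1 | h1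
  · exact Or.inl (key h1)
  · exact Or.inr (key h1)

end Cfsg.Agent.H89.Reg
end

-- part: H533/Reg/Idx
section
/-!
# S3691, `PSU_N(q)`, `3 ≤ N ≤ 8`: one factor contains the stabiliser of a nonsingular vector (helper533)

* `index_le` : `|PSU_N(q) : Y0| ≤ 2 f |X^|`, `X^` the preimage of `X0` in `SU_N(q)`
* `odd_false` : `N = 3, 5, 7` impossible
* `even_res` : `N = 4, 6, 8`
-/

set_option autoImplicit false
set_option linter.unusedSectionVars false

namespace Cfsg.Agent.H533.Reg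

open Module Cfsg Cfsg.Geo Cfsg.Agent.LieClassical.HermBasic Cfsg.Agent.H918 Cfsg.Agent.H251.GeoU Cfsg.Agent.H89.Reg
open Cfsg.Agent.H454.Reg
open Cfsg.Agent.H674.SUBlock (pr pr_surjective)
open Cfsg.Agent.LieClassical.HermSiegel (act mat act_mul act_one act_inv_act act_act_inv herm_act act_smul act_add)

universe u

section num

/-- `2 ^ f ≤ q` -/
theorem two_pow_le {p f : ℕ} (hp : p.Prime) : 2 ^ f ≤ p ^ f := Nat.pow_le_pow_left hp.two_le f

theorem f_lt {p f : ℕ} (hp : p.Prime) : f < p ^ f := Nat.lt_pow_self hp.one_lt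

theorem f18 {p f : ℕ} (hp : p.Prime) (hq : 124 < p ^ f) : 18 * f < p ^ f + 1 := by
  by_cases hf : f ≤ 6
  · omega
  · obtain ⟨k, rfl⟩ : ∃ k, f = 7 + k := ⟨f - 7, by omega⟩
    have h1 := two_pow_le (f := 7 + k) hp
    have h2 : 18 * (7 + k) < 2 ^ (7 + k) + 1 := by
      clear hq hf h1
      induction k with
      | zero => norm_num
      | succ k ih =>
        have h3 : 2 ^ (7 + (k + 1)) = 2 * 2 ^ (7 + k) := by ring
        have h4 : 2 ^ 7 ≤ 2 ^ (7 + k) := Nat.pow_le_pow_right (by norm_num) (by omega)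
        rw [h3]
        omega
    omega

/-- the index of `S2151`, `n = 5` -/
theorem ix5 {q : ℕ} (hq : 2 ≤ q) : (q ^ 5 + 1) * (q ^ (5 - 1) - 1) / (q ^ 2 - 1) = (q ^ 5 + 1) * (q ^ 2 + 1) := by
  have h1 : q ^ (5 - 1) - 1 = (q ^ 2 + 1) * (q ^ 2 - 1) := by
    have := Nat.sq_sub_sq (q ^ 2) 1
    rw [one_pow] at this
    rw [← this]
    norm_num
    congr 1
    ring
  rw [h1, ← mul_assoc]
  apply Nat.mul_div_cancel
  have : 2 ^ 2 ≤ q ^ 2 := Nat.pow_le_pow_left hq 2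
  omega

/-- the index of `S2151`, `n = 7` -/
theorem ix7 {q : ℕ} (hq : 2 ≤ q) : (q ^ 7 + 1) * (q ^ (7 - 1) - 1) / (q ^ 2 - 1) = (q ^ 7 + 1) * (q ^ 4 + q ^ 2 + 1) := by
  have h0 : 2 ^ 2 ≤ q ^ 2 := Nat.pow_le_pow_left hq 2
  have h1 : q ^ (7 - 1) - 1 = (q ^ 4 + q ^ 2 + 1) * (q ^ 2 - 1) := by
    obtain ⟨a, ha⟩ : ∃ a, q ^ 2 = a + 1 := ⟨q ^ 2 - 1, by omega⟩
    rw [show q ^ (7 - 1) = (q ^ 2) ^ 3 by ring, show q ^ 4 = (q ^ 2) ^ 2 by ring, ha, Nat.add_sub_cancel]
    have : (a + 1) ^ 3 = ((a + 1) ^ 2 + (a + 1) + 1) * a + 1 := by ring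
    rw [this, Nat.add_sub_cancel]
  rw [h1, ← mul_assoc]
  apply Nat.mul_div_cancel
  omega

/-- the index of `S2152`, `n = 6` -/
theorem ix6 {q : ℕ} (hq : 2 ≤ q) : (q ^ 6 - 1) * (q ^ (6 - 1) + 1) / (q ^ 2 - 1) = (q ^ 5 + 1) * (q ^ 4 + q ^ 2 + 1) := by
  have h0 : 2 ^ 2 ≤ q ^ 2 := Nat.pow_le_pow_left hq 2
  have h1 : q ^ 6 - 1 = (q ^ 4 + q ^ 2 + 1) * (q ^ 2 - 1) := by
    obtain ⟨a, ha⟩ : ∃ a, q ^ 2 = a + 1 := ⟨q ^ 2 - 1, by omega⟩
    rw [show q ^ 6 = (q ^ 2) ^ 3 by ring, show q ^ 4 = (q ^ 2) ^ 2 by ring, ha, Nat.add_sub_cancel]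
    have : (a + 1) ^ 3 = ((a + 1) ^ 2 + (a + 1) + 1) * a + 1 := by ring
    rw [this, Nat.add_sub_cancel]
  rw [h1, show (q ^ 4 + q ^ 2 + 1) * (q ^ 2 - 1) * (q ^ (6 - 1) + 1) = (q ^ 5 + 1) * (q ^ 4 + q ^ 2 + 1) * (q ^ 2 - 1) by
    norm_num; ring]
  apply Nat.mul_div_cancel
  omega

/-- the index of `S2152`, `n = 8` -/
theorem ix8 {q : ℕ} (hq : 2 ≤ q) :
    (q ^ 8 - 1) * (q ^ (8 - 1) + 1) / (q ^ 2 - 1) = (q ^ 7 + 1) * (q ^ 6 + q ^ 4 + q ^ 2 + 1) := by
  have h0 : 2 ^ 2 ≤ q ^ 2 := Nat.pow_le_pow_left hq 2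
  have h1 : q ^ 8 - 1 = (q ^ 6 + q ^ 4 + q ^ 2 + 1) * (q ^ 2 - 1) := by
    obtain ⟨a, ha⟩ : ∃ a, q ^ 2 = a + 1 := ⟨q ^ 2 - 1, by omega⟩
    rw [show q ^ 8 = (q ^ 2) ^ 4 by ring, show q ^ 6 = (q ^ 2) ^ 3 by ring, show q ^ 4 = (q ^ 2) ^ 2 by ring, ha,
      Nat.add_sub_cancel]
    have : (a + 1) ^ 4 = ((a + 1) ^ 3 + (a + 1) ^ 2 + (a + 1) + 1) * a + 1 := by ring
    rw [this, Nat.add_sub_cancel]
  rw [h1, show (q ^ 6 + q ^ 4 + q ^ 2 + 1) * (q ^ 2 - 1) * (q ^ (8 - 1) + 1) =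
    (q ^ 7 + 1) * (q ^ 6 + q ^ 4 + q ^ 2 + 1) * (q ^ 2 - 1) by norm_num; ring]
  apply Nat.mul_div_cancel
  omega

theorem num3 {Q f c : ℕ} (h18 : 18 * f < Q + 1) (hq : 124 < Q) (hi : Q ^ 3 + 1 ≤ 2 * f * c)
    (h : (Q + 1) * c ≤ 3 ^ 2 * (Q ^ 3 + 1) ∨ (f = 1 ∧ c ≤ 4320)) : False := by
  rcases h with h | ⟨rfl, h⟩
  · have h1 : (Q + 1) * (Q ^ 3 + 1) ≤ 18 * f * (Q ^ 3 + 1) := by
      calc (Q + 1) * (Q ^ 3 + 1) ≤ (Q + 1) * (2 * f * c) := Nat.mul_le_mul_left _ hi
        _ = 2 * f * ((Q + 1) * c) := by ring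
        _ ≤ 2 * f * (3 ^ 2 * (Q ^ 3 + 1)) := Nat.mul_le_mul_left _ h
        _ = _ := by ring
    have h2 := Nat.le_of_mul_le_mul_right h1 (Nat.succ_pos _)
    omega
  · have h1 : 125 ^ 3 ≤ Q ^ 3 := Nat.pow_le_pow_left hq 3
    omega

theorem num5 {Q f c : ℕ} (hff : f < Q) (hq : 20 < Q) (hi : (Q ^ 5 + 1) * (Q ^ 2 + 1) ≤ 2 * f * c)
    (h : (Q + 1) * c ≤ 5 ^ 2 * (Q ^ 5 + 1) ∨ (f = 1 ∧ c ≤ 259200)) : False := by
  rcases h with h | ⟨rfl, h⟩
  · have h1 : ((Q + 1) * (Q ^ 2 + 1)) * (Q ^ 5 + 1) ≤ 50 * f * (Q ^ 5 + 1) := by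
      calc ((Q + 1) * (Q ^ 2 + 1)) * (Q ^ 5 + 1)
          = (Q + 1) * ((Q ^ 5 + 1) * (Q ^ 2 + 1)) := by ring
        _ ≤ (Q + 1) * (2 * f * c) := Nat.mul_le_mul_left _ hi
        _ = 2 * f * ((Q + 1) * c) := by ring
        _ ≤ 2 * f * (5 ^ 2 * (Q ^ 5 + 1)) := Nat.mul_le_mul_left _ h
        _ = _ := by ring
    have h2 := Nat.le_of_mul_le_mul_right h1 (Nat.succ_pos _)
    have h3 : 21 ^ 2 ≤ Q ^ 2 := Nat.pow_le_pow_left hq 2
    have h4 : (Q + 1) * (21 ^ 2 + 1) ≤ (Q + 1) * (Q ^ 2 + 1) := Nat.mul_le_mul_left _ (by omega)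
    omega
  · have h1 : 21 ^ 5 ≤ Q ^ 5 := Nat.pow_le_pow_left hq 5
    have h2 : (21 ^ 5 + 1) * 1 ≤ (Q ^ 5 + 1) * (Q ^ 2 + 1) := Nat.mul_le_mul (by omega) (by omega)
    omega

theorem num7 {Q f c : ℕ} (hff : f < Q) (hq : 4 < Q) (hi : (Q ^ 7 + 1) * (Q ^ 4 + Q ^ 2 + 1) ≤ 2 * f * c)
    (h : (Q + 1) * c ≤ 7 ^ 2 * (Q ^ 7 + 1) ∨ (f = 1 ∧ c ≤ 84672)) : False := by
  rcases h with h | ⟨rfl, h⟩
  · have h1 : ((Q + 1) * (Q ^ 4 + Q ^ 2 + 1)) * (Q ^ 7 + 1) ≤ 98 * f * (Q ^ 7 + 1) := by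
      calc ((Q + 1) * (Q ^ 4 + Q ^ 2 + 1)) * (Q ^ 7 + 1)
          = (Q + 1) * ((Q ^ 7 + 1) * (Q ^ 4 + Q ^ 2 + 1)) := by ring
        _ ≤ (Q + 1) * (2 * f * c) := Nat.mul_le_mul_left _ hi
        _ = 2 * f * ((Q + 1) * c) := by ring
        _ ≤ 2 * f * (7 ^ 2 * (Q ^ 7 + 1)) := Nat.mul_le_mul_left _ h
        _ = _ := by ring
    have h2 := Nat.le_of_mul_le_mul_right h1 (Nat.succ_pos _)
    have h3 : 5 ^ 4 ≤ Q ^ 4 := Nat.pow_le_pow_left hq 4
    have h4 : (Q + 1) * (5 ^ 4 + 1) ≤ (Q + 1) * (Q ^ 4 + Q ^ 2 + 1) :=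
      Nat.mul_le_mul_left _ (by omega)
    omega
  · have h1 : 5 ^ 7 ≤ Q ^ 7 := Nat.pow_le_pow_left hq 7
    have h3 : 5 ^ 4 ≤ Q ^ 4 := Nat.pow_le_pow_left hq 4
    have h2 : (5 ^ 7 + 1) * (5 ^ 4 + 1) ≤ (Q ^ 7 + 1) * (Q ^ 4 + Q ^ 2 + 1) := Nat.mul_le_mul (by omega) (by omega)
    omega

theorem num6 {Q f c : ℕ} (hff : f < Q) (hq : 7 < Q) (h0 : (Q ^ 5 + 1) * (Q ^ 4 + Q ^ 2 + 1) ≤ 2 * f * ((Q + 1) * c))
    (h : (Q + 1) * c ≤ 5 ^ 2 * (Q ^ 5 + 1) ∨ (f = 1 ∧ c ≤ 259200)) : False := by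
  rcases h with h | ⟨rfl, h⟩
  · have h1 : (Q ^ 4 + Q ^ 2 + 1) * (Q ^ 5 + 1) ≤ 50 * f * (Q ^ 5 + 1) := by
      calc (Q ^ 4 + Q ^ 2 + 1) * (Q ^ 5 + 1)
          = (Q ^ 5 + 1) * (Q ^ 4 + Q ^ 2 + 1) := by ring
        _ ≤ 2 * f * ((Q + 1) * c) := h0
        _ ≤ 2 * f * (5 ^ 2 * (Q ^ 5 + 1)) := Nat.mul_le_mul_left _ h
        _ = _ := by ring
    have h2 := Nat.le_of_mul_le_mul_right h1 (Nat.succ_pos _)
    have h3 : 8 ^ 3 ≤ Q ^ 3 := Nat.pow_le_pow_left hq 3
    have h4 : 8 ^ 3 * Q ≤ Q ^ 4 := by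
      calc 8 ^ 3 * Q ≤ Q ^ 3 * Q := Nat.mul_le_mul_right _ h3
        _ = _ := by ring
    omega
  · have h1 : 8 ^ 4 ≤ Q ^ 4 := Nat.pow_le_pow_left hq 4
    have h6 : 8 ^ 4 * Q ≤ Q ^ 5 := by
      calc 8 ^ 4 * Q ≤ Q ^ 4 * Q := Nat.mul_le_mul_right _ h1
        _ = _ := by ring
    have h7 : (8 ^ 4 * Q + 1) * (8 ^ 4 + 1) ≤ (Q ^ 5 + 1) * (Q ^ 4 + Q ^ 2 + 1) := Nat.mul_le_mul (by omega) (by omega)
    have h8 : 2 * 1 * ((Q + 1) * c) ≤ 2 * 1 * ((Q + 1) * 259200) :=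
      Nat.mul_le_mul_left _ (Nat.mul_le_mul_left _ h)
    have h9 := h7.trans (h0.trans h8)
    omega

theorem num8 {Q f c : ℕ} (hff : f < Q) (hq : 3 < Q)
    (h0 : (Q ^ 7 + 1) * (Q ^ 6 + Q ^ 4 + Q ^ 2 + 1) ≤ 2 * f * ((Q + 1) * c))
    (h : (Q + 1) * c ≤ 7 ^ 2 * (Q ^ 7 + 1) ∨ (f = 1 ∧ c ≤ 84672)) : False := by
  have h46 : 4 ^ 6 ≤ Q ^ 6 := Nat.pow_le_pow_left hq 6
  have h56 : 4 ^ 5 * Q ≤ Q ^ 6 := by
    calc 4 ^ 5 * Q ≤ Q ^ 5 * Q := Nat.mul_le_mul_right _ (Nat.pow_le_pow_left hq 5)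
      _ = _ := by ring
  have h67 : 4 ^ 6 * Q ≤ Q ^ 7 := by
    calc 4 ^ 6 * Q ≤ Q ^ 6 * Q := Nat.mul_le_mul_right _ h46
      _ = _ := by ring
  rcases h with h | ⟨rfl, h⟩
  · have h1 : (Q ^ 6 + Q ^ 4 + Q ^ 2 + 1) * (Q ^ 7 + 1) ≤ 98 * f * (Q ^ 7 + 1) := by
      calc (Q ^ 6 + Q ^ 4 + Q ^ 2 + 1) * (Q ^ 7 + 1)
          = (Q ^ 7 + 1) * (Q ^ 6 + Q ^ 4 + Q ^ 2 + 1) := by ring
        _ ≤ 2 * f * ((Q + 1) * c) := h0
        _ ≤ 2 * f * (7 ^ 2 * (Q ^ 7 + 1)) := Nat.mul_le_mul_left _ h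
        _ = _ := by ring
    have h2 := Nat.le_of_mul_le_mul_right h1 (Nat.succ_pos _)
    omega
  · have h7 : (4 ^ 6 * Q + 1) * (4 ^ 6 + 1) ≤ (Q ^ 7 + 1) * (Q ^ 6 + Q ^ 4 + Q ^ 2 + 1) :=
      Nat.mul_le_mul (by omega) (by omega)
    have h8 : 2 * 1 * ((Q + 1) * c) ≤ 2 * 1 * ((Q + 1) * 84672) :=
      Nat.mul_le_mul_left _ (Nat.mul_le_mul_left _ h)
    have h9 := h7.trans (h0.trans h8)
    omega

theorem numr4 {Q f c : ℕ} (hq : 124 < Q) (hf1 : f = 1) (hi : (Q + 1) * (Q ^ 3 + 1) ≤ 2 * f * c) (h : c ≤ 207360) :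
    False := by
  subst hf1
  have h1 : 125 ^ 3 ≤ Q ^ 3 := Nat.pow_le_pow_left hq 3
  have h2 : 1 * (125 ^ 3 + 1) ≤ (Q + 1) * (Q ^ 3 + 1) := Nat.mul_le_mul (by omega) (by omega)
  omega

theorem numr6 {Q f c : ℕ} (hq : 7 < Q) (hf1 : f = 1) (hQ : Q.Prime) (hi : (Q ^ 5 + 1) * (Q ^ 4 + Q ^ 2 + 1) ≤ 2 * f * c)
    (h : c ≤ 627056640) : False := by
  subst hf1
  have hp11 : 11 ≤ Q := by
    by_contra hlt
    interval_cases Q <;> revert hQ <;> norm_num
  have h1 : 11 ^ 5 ≤ Q ^ 5 := Nat.pow_le_pow_left hp11 5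
  have h3 : 11 ^ 4 ≤ Q ^ 4 := Nat.pow_le_pow_left hp11 4
  have h2 : (11 ^ 5 + 1) * (11 ^ 4 + 1) ≤ (Q ^ 5 + 1) * (Q ^ 4 + Q ^ 2 + 1) := Nat.mul_le_mul (by omega) (by omega)
  omega

theorem numr8 {Q f c : ℕ} (hq : 3 < Q) (hf1 : f = 1) (hi : (Q ^ 7 + 1) * (Q ^ 6 + Q ^ 4 + Q ^ 2 + 1) ≤ 2 * f * c)
    (h : c ≤ 5806080) : False := by
  subst hf1
  have h46 : 4 ^ 6 ≤ Q ^ 6 := Nat.pow_le_pow_left hq 6
  have h47 : 4 ^ 7 ≤ Q ^ 7 := Nat.pow_le_pow_left hq 7
  have h2 : (4 ^ 7 + 1) * (4 ^ 6 + 1) ≤ (Q ^ 7 + 1) * (Q ^ 6 + Q ^ 4 + Q ^ 2 + 1) :=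
    Nat.mul_le_mul (by omega) (by omega)
  omega

end num

section sub

variable {F : Type} [Field F] [Fintype F] {p f l : ℕ}
variable (hF : Fintype.card F = (p ^ f) ^ 2) (hp : p.Prime) (hf : 1 ≤ f)

include hF hp hf

theorem core3 (hL3 : L3) (hq : 124 < p ^ f) (hl : Pm p f 3 l) {A : Subgroup (SU 3 F (p ^ f))} (hA : A ≠ ⊤)
    (hd : l ∣ Nat.card A) (hi : (p ^ f) ^ 3 + 1 ≤ 2 * f * Nat.card A) : False :=
  num3 (f18 hp hq) hq hi (small3 hF hp hf hL3 (by omega) hl hA hd)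

theorem core5 (hL5 : L5) (hq : 20 < p ^ f) (hl : Pm p f 5 l) {A : Subgroup (SU 5 F (p ^ f))} (hA : A ≠ ⊤)
    (hd : l ∣ Nat.card A) (hi : ((p ^ f) ^ 5 + 1) * ((p ^ f) ^ 2 + 1) ≤ 2 * f * Nat.card A) : False :=
  num5 (f_lt hp) hq hi (small5 hF hp hf hL5 hl hA hd)

theorem core7 (hL7 : L7) (hq : 4 < p ^ f) (hl : Pm p f 7 l) {A : Subgroup (SU 7 F (p ^ f))} (hA : A ≠ ⊤)
    (hd : l ∣ Nat.card A) (hi : ((p ^ f) ^ 7 + 1) * ((p ^ f) ^ 4 + (p ^ f) ^ 2 + 1) ≤ 2 * f * Nat.card A) : False :=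
  num7 (f_lt hp) hq hi (small7 hF hp hf hL7 hl hA hd)

/-- a subgroup `B` of `SU_(N-1)` -/
theorem core4 (hL3 : L3) (hL4 : L4) (hq : 124 < p ^ f) (hl : Pm p f 3 l) {A : Subgroup (SU 4 F (p ^ f))} (hA : A ≠ ⊤)
    (hd : l ∣ Nat.card A) (hi : (p ^ f + 1) * ((p ^ f) ^ 3 + 1) ≤ 2 * f * Nat.card A) :
    ∃ w : Fin 4 → F, hermForm 4 F (p ^ f) w w ≠ 0 ∧ ∀ g : SU 4 F (p ^ f), act g w = w → g ∈ A := by
  rcases even_gen hF hp hf le_rfl (by decide) rfl hl hA hd with ⟨w, hw, hAw⟩ | ⟨H, hH, hAH, hres⟩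
  · rcases line_case (n := 3) hF hw hAw hl.pr (hl.not_dvd_succ hf (by norm_num)) hd with h | ⟨B, hB, hdB, hc⟩
    · exact ⟨w, hw, h⟩
    · exfalso
      refine core3 hF hp hf hL3 hq hl hB hdB ?_
      have h1 : (p ^ f + 1) * ((p ^ f) ^ 3 + 1) ≤ (p ^ f + 1) * (2 * f * Nat.card B) := by
        calc (p ^ f + 1) * ((p ^ f) ^ 3 + 1) ≤ 2 * f * Nat.card A := hi
          _ ≤ 2 * f * ((p ^ f + 1) * Nat.card B) := Nat.mul_le_mul_left _ hc
          _ = _ := by ring
      exact Nat.le_of_mul_le_mul_left h1 (Nat.succ_pos _)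
  · exfalso
    obtain ⟨hf1, h⟩ := res4 hF hp hf hL4 (by omega) hH hAH hres
    exact numr4 hq hf1 hi h

theorem core6 (hL5 : L5) (hL6 : L6) (hq : 7 < p ^ f) (hl : Pm p f 5 l) {A : Subgroup (SU 6 F (p ^ f))} (hA : A ≠ ⊤)
    (hd : l ∣ Nat.card A) (hi : ((p ^ f) ^ 5 + 1) * ((p ^ f) ^ 4 + (p ^ f) ^ 2 + 1) ≤ 2 * f * Nat.card A) :
    ∃ w : Fin 6 → F, hermForm 6 F (p ^ f) w w ≠ 0 ∧ ∀ g : SU 6 F (p ^ f), act g w = w → g ∈ A := by
  rcases even_gen hF hp hf (by norm_num) (by decide) rfl hl hA hd with ⟨w, hw, hAw⟩ | ⟨H, hH, hAH, hres⟩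
  · rcases line_case (n := 5) hF hw hAw hl.pr (hl.not_dvd_succ hf (by norm_num)) hd with h | ⟨B, hB, hdB, hc⟩
    · exact ⟨w, hw, h⟩
    · exact (num6 (f_lt hp) hq (hi.trans (Nat.mul_le_mul_left _ hc)) (small5 hF hp hf hL5 hl hB hdB)).elim
  · exfalso
    obtain ⟨hf1, h, hpp⟩ := res6 hF hp hf hL6 hq hl hd hH hAH hres
    exact numr6 hq hf1 hpp hi h

theorem core8 (hL7 : L7) (hL8 : L8) (hq : 3 < p ^ f) (hl : Pm p f 7 l) {A : Subgroup (SU 8 F (p ^ f))} (hA : A ≠ ⊤)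
    (hd : l ∣ Nat.card A)
    (hi : ((p ^ f) ^ 7 + 1) * ((p ^ f) ^ 6 + (p ^ f) ^ 4 + (p ^ f) ^ 2 + 1) ≤ 2 * f * Nat.card A) :
    ∃ w : Fin 8 → F, hermForm 8 F (p ^ f) w w ≠ 0 ∧ ∀ g : SU 8 F (p ^ f), act g w = w → g ∈ A := by
  rcases even_gen hF hp hf (by norm_num) (by decide) rfl hl hA hd with ⟨w, hw, hAw⟩ | ⟨H, hH, hAH, hres⟩
  · rcases line_case (n := 7) hF hw hAw hl.pr (hl.not_dvd_succ hf (by norm_num)) hd with h | ⟨B, hB, hdB, hc⟩
    · exact ⟨w, hw, h⟩
    · exact (num8 (f_lt hp) hq (hi.trans (Nat.mul_le_mul_left _ hc)) (small7 hF hp hf hL7 hl hB hdB)).elim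
  · exfalso
    obtain ⟨hf1, h⟩ := res8 hF hp hf hL8 hH hAH hres
    exact numr8 hq hf1 hi h

end sub

section fac

variable {F : Type} [Field F] [Fintype F] {N p f : ℕ} {G : Type u} [Group G] [Finite G] {T X Y : Subgroup G}

/-- `|Z(SU_N(q))| = (N, q + 1)` -/
theorem card_center (hF : Fintype.card F = (p ^ f) ^ 2) (hN : 2 ≤ N) :
    Nat.card (Subgroup.center (SU N F (p ^ f))) = Nat.gcd N (p ^ f + 1) := by
  have hfin : Finite (SU N F (p ^ f)) := inferInstance
  have hfin2 : Finite (PSU N F (p ^ f)) := Quotient.finite _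
  have h1 := Cfsg.Agent.S0280.result hF N hN
  have h2 := Cfsg.Agent.S0278.result hF N (by omega)
  have h4 : Nat.card (Subgroup.center (SU N F (p ^ f))) * Nat.card (PSU N F (p ^ f)) = Nat.card (SU N F (p ^ f)) :=
    Subgroup.card_mul_index _
  have hpos : 0 < Nat.card (PSU N F (p ^ f)) := Nat.card_pos
  apply Nat.eq_of_mul_eq_mul_right hpos
  apply Nat.eq_of_mul_eq_mul_left (Nat.succ_pos (p ^ f))
  rw [h4]
  change (p ^ f + 1) * _ = (p ^ f + 1) * _
  rw [h2, ← h1]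
  ring

/-- **the index of one factor is bounded by the order of the other** -/
theorem index_le (h : Fac T X Y) (hp : p.Prime) (hf : 1 ≤ f) (hF : Fintype.card F = (p ^ f) ^ 2) (hN : 3 ≤ N)
    (h32 : ¬ (N = 3 ∧ p ^ f = 2)) (e : T ≃* PSU N F (p ^ f)) :
    (img e Y).index ≤ 2 * f * Nat.card ((img e X).comap (pr : SU N F (p ^ f) →* _)) := by
  have := Fact.mk hp
  have hfin2 : Finite (PSU N F (p ^ f)) := Quotient.finite _
  obtain ⟨a, -, ha, hcard⟩ := h.card0
  have hout : Nat.card (Out T) = Nat.gcd N (p ^ f + 1) * (2 * f) := by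
    rw [H548.Crit.card_out_congr e, card_out_psu hf hF hN h32]
  rw [hout] at ha
  rw [← card_img e X, ← card_img e Y, Nat.card_congr e.toEquiv] at hcard
  have h1 := (img e Y).card_mul_index
  have hpos : 0 < Nat.card (img e Y) := Nat.card_pos
  have h2 : (img e Y).index = Nat.card (img e X) * a := by
    apply Nat.eq_of_mul_eq_mul_left hpos
    rw [h1, ← hcard]
    ring
  have hg : 0 < Nat.gcd N (p ^ f + 1) := Nat.gcd_pos_of_pos_left _ (by omega)
  have h3 := Nat.le_of_dvd (Nat.mul_pos hg (by omega)) ha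
  rw [h2, card_comap_pr, card_center hF (by omega)]
  calc Nat.card (img e X) * a ≤ Nat.card (img e X) * (Nat.gcd N (p ^ f + 1) * (2 * f)) := Nat.mul_le_mul_left _ h3
    _ = _ := by ring

theorem resW_of {e : T ≃* PSU N F (p ^ f)}
    (h : ∃ w : Fin N → F, hermForm N F (p ^ f) w w ≠ 0 ∧
      ∀ g : SU N F (p ^ f), act g w = w → g ∈ (img e X).comap (pr : SU N F (p ^ f) →* _)) : ∃ w, ResW e X w := by
  obtain ⟨w, hw, hg⟩ := h
  refine ⟨w, hw, fun g hgw => ?_⟩
  rw [← mem_img e, e.apply_symm_apply]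
  exact hg g hgw

section N3

theorem three_aux (hL3 : L3) (h : Fac T X Y) (hp : p.Prime) (hf : 1 ≤ f) (hF : Fintype.card F = (p ^ f) ^ 2)
    (e : T ≃* PSU 3 F (p ^ f)) {l : ℕ} (hl : Pm p f 3 l) (hd : l ∣ Nat.card (img e X)) : False := by
  have hq := (size_res h hF (by norm_num) e).1 rfl
  have hpr := pr_of_fac h hp hf hF le_rfl (by omega) e
  refine core3 hF hp hf hL3 (by omega) hl (comap_ne_top hpr.neX) (hd.trans (card_dvd_comap _)) ?_
  exact ((Cfsg.Agent.S2148.result (p ^ f) hF (by omega) (by omega)).1 _ hpr.neY).trans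
    (index_le h hp hf hF le_rfl (by omega) e)

/-- **`N = 3`** -/
theorem three {q : ℕ} (hL3 : L3) (h : Fac T X Y) (hF : Fintype.card F = q ^ 2) (e : T ≃* PSU 3 F q) : False := by
  obtain ⟨p, f, hp, hf, rfl, -⟩ := exists_prime_power hF
  have hq := (size_res h hF (by norm_num) e).1 rfl
  obtain ⟨l, h1, h2, -, -⟩ := exists_big hp hf le_rfl (by decide) (by omega)
  have hl : Pm p f 3 l := ⟨h1, h2⟩
  rcases (pr_of_fac h hp hf hF le_rfl (by omega) e).one hp hf hF hl (by norm_num) (by decide) le_rfl with h3 | h3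
  · exact three_aux hL3 h hp hf hF e hl h3
  · exact three_aux hL3 h.symm hp hf hF e hl h3

theorem five_aux (hL5 : L5) (h : Fac T X Y) (hp : p.Prime) (hf : 1 ≤ f) (hF : Fintype.card F = (p ^ f) ^ 2)
    (e : T ≃* PSU 5 F (p ^ f)) {l : ℕ} (hl : Pm p f 5 l) (hd : l ∣ Nat.card (img e X)) : False := by
  have hq := (size_res h hF (by norm_num) e).2.2.1 rfl
  have hpr := pr_of_fac h hp hf hF (by norm_num) (by omega) e
  refine core5 hF hp hf hL5 (by omega) hl (comap_ne_top hpr.neX) (hd.trans (card_dvd_comap _)) ?_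
  have h1 := (Cfsg.Agent.S2151.result (p ^ f) hF (by omega) 5 le_rfl (by decide)).1 _ hpr.neY
  rw [ix5 (by omega)] at h1
  exact h1.trans (index_le h hp hf hF (by norm_num) (by omega) e)

/-- **`N = 5`** -/
theorem five {q : ℕ} (hL5 : L5) (h : Fac T X Y) (hF : Fintype.card F = q ^ 2) (e : T ≃* PSU 5 F q) : False := by
  obtain ⟨p, f, hp, hf, rfl, -⟩ := exists_prime_power hF
  obtain ⟨l, hl⟩ := exists_pm (k := 5) hp hf le_rfl (by decide)
  rcases (pr_of_fac h hp hf hF (by norm_num) (by omega) e).one hp hf hF hl (by norm_num) (by decide) le_rfl with h3 | h3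
  · exact five_aux hL5 h hp hf hF e hl h3
  · exact five_aux hL5 h.symm hp hf hF e hl h3

theorem seven_aux (hL7 : L7) (h : Fac T X Y) (hp : p.Prime) (hf : 1 ≤ f) (hF : Fintype.card F = (p ^ f) ^ 2)
    (e : T ≃* PSU 7 F (p ^ f)) {l : ℕ} (hl : Pm p f 7 l) (hd : l ∣ Nat.card (img e X)) : False := by
  have hq := (size_res h hF (by norm_num) e).2.2.2.2.1 rfl
  have hpr := pr_of_fac h hp hf hF (by norm_num) (by omega) e
  refine core7 hF hp hf hL7 (by omega) hl (comap_ne_top hpr.neX) (hd.trans (card_dvd_comap _)) ?_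
  have h1 := (Cfsg.Agent.S2151.result (p ^ f) hF (by omega) 7 (by norm_num) (by decide)).1 _ hpr.neY
  rw [ix7 (by omega)] at h1
  exact h1.trans (index_le h hp hf hF (by norm_num) (by omega) e)

/-- **`N = 7`** -/
theorem seven {q : ℕ} (hL7 : L7) (h : Fac T X Y) (hF : Fintype.card F = q ^ 2) (e : T ≃* PSU 7 F q) : False := by
  obtain ⟨p, f, hp, hf, rfl, -⟩ := exists_prime_power hF
  obtain ⟨l, hl⟩ := exists_pm (k := 7) hp hf (by norm_num) (by decide)
  rcases (pr_of_fac h hp hf hF (by norm_num) (by omega) e).one hp hf hF hl (by norm_num) (by decide) le_rfl with h3 | h3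
  · exact seven_aux hL7 h hp hf hF e hl h3
  · exact seven_aux hL7 h.symm hp hf hF e hl h3

theorem four_aux (hL3 : L3) (hL4 : L4) (h : Fac T X Y) (hp : p.Prime) (hf : 1 ≤ f) (hF : Fintype.card F = (p ^ f) ^ 2)
    (e : T ≃* PSU 4 F (p ^ f)) {l : ℕ} (hl : Pm p f 3 l) (hd : l ∣ Nat.card (img e X)) : ∃ w, ResW e X w := by
  have hq := (size_res h hF (by norm_num) e).2.1 rfl
  have hpr := pr_of_fac h hp hf hF (by norm_num) (by omega) e
  refine resW_of (core4 hF hp hf hL3 hL4 (by omega) hl (comap_ne_top hpr.neX) (hd.trans (card_dvd_comap _)) ?_)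
  exact ((Cfsg.Agent.S2150.result (p ^ f) hF (by omega)).1 _ hpr.neY).trans
    (index_le h hp hf hF (by norm_num) (by omega) e)

/-- **`N = 4`** -/
theorem four (hL3 : L3) (hL4 : L4) (h : Fac T X Y) (hp : p.Prime) (hf : 1 ≤ f) (hF : Fintype.card F = (p ^ f) ^ 2)
    (e : T ≃* PSU 4 F (p ^ f)) : (∃ w, ResW e X w) ∨ ∃ w, ResW e Y w := by
  have hq := (size_res h hF (by norm_num) e).2.1 rfl
  obtain ⟨l, h1, h2, -, -⟩ := exists_big hp hf le_rfl (by decide) (by omega)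
  have hl : Pm p f 3 l := ⟨h1, h2⟩
  rcases (pr_of_fac h hp hf hF (by norm_num) (by omega) e).one hp hf hF hl (by norm_num) (by decide) (by norm_num)
    with h3 | h3
  · exact Or.inl (four_aux hL3 hL4 h hp hf hF e hl h3)
  · exact Or.inr (four_aux hL3 hL4 h.symm hp hf hF e hl h3)

theorem six_aux (hL5 : L5) (hL6 : L6) (h : Fac T X Y) (hp : p.Prime) (hf : 1 ≤ f) (hF : Fintype.card F = (p ^ f) ^ 2)
    (e : T ≃* PSU 6 F (p ^ f)) {l : ℕ} (hl : Pm p f 5 l) (hd : l ∣ Nat.card (img e X)) : ∃ w, ResW e X w := by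
  have hq := (size_res h hF (by norm_num) e).2.2.2.1 rfl
  have hpr := pr_of_fac h hp hf hF (by norm_num) (by omega) e
  refine resW_of (core6 hF hp hf hL5 hL6 (by omega) hl (comap_ne_top hpr.neX) (hd.trans (card_dvd_comap _)) ?_)
  have h1 := (Cfsg.Agent.S2152.result (p ^ f) hF (by omega) 6 le_rfl (by decide)).1 _ hpr.neY
  rw [ix6 (by omega)] at h1
  exact h1.trans (index_le h hp hf hF (by norm_num) (by omega) e)

/-- **`N = 6`** -/
theorem six (hL5 : L5) (hL6 : L6) (h : Fac T X Y) (hp : p.Prime) (hf : 1 ≤ f) (hF : Fintype.card F = (p ^ f) ^ 2)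
    (e : T ≃* PSU 6 F (p ^ f)) : (∃ w, ResW e X w) ∨ ∃ w, ResW e Y w := by
  obtain ⟨l, hl⟩ := exists_pm (k := 5) hp hf le_rfl (by decide)
  rcases (pr_of_fac h hp hf hF (by norm_num) (by omega) e).one hp hf hF hl (by norm_num) (by decide) (by norm_num)
    with h3 | h3
  · exact Or.inl (six_aux hL5 hL6 h hp hf hF e hl h3)
  · exact Or.inr (six_aux hL5 hL6 h.symm hp hf hF e hl h3)

theorem eight_aux (hL7 : L7) (hL8 : L8) (h : Fac T X Y) (hp : p.Prime) (hf : 1 ≤ f) (hF : Fintype.card F = (p ^ f) ^ 2)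
    (e : T ≃* PSU 8 F (p ^ f)) {l : ℕ} (hl : Pm p f 7 l) (hd : l ∣ Nat.card (img e X)) : ∃ w, ResW e X w := by
  have hq := (size_res h hF (by norm_num) e).2.2.2.2.2.1 rfl
  have hpr := pr_of_fac h hp hf hF (by norm_num) (by omega) e
  refine resW_of (core8 hF hp hf hL7 hL8 (by omega) hl (comap_ne_top hpr.neX) (hd.trans (card_dvd_comap _)) ?_)
  have h1 := (Cfsg.Agent.S2152.result (p ^ f) hF (by omega) 8 (by norm_num) (by decide)).1 _ hpr.neY
  rw [ix8 (by omega)] at h1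
  exact h1.trans (index_le h hp hf hF (by norm_num) (by omega) e)

/-- **`N = 8`** -/
theorem eight (hL7 : L7) (hL8 : L8) (h : Fac T X Y) (hp : p.Prime) (hf : 1 ≤ f) (hF : Fintype.card F = (p ^ f) ^ 2)
    (e : T ≃* PSU 8 F (p ^ f)) : (∃ w, ResW e X w) ∨ ∃ w, ResW e Y w := by
  obtain ⟨l, hl⟩ := exists_pm (k := 7) hp hf (by norm_num) (by decide)
  rcases (pr_of_fac h hp hf hF (by norm_num) (by omega) e).one hp hf hF hl (by norm_num) (by decide) (by norm_num)
    with h3 | h3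
  · exact Or.inl (eight_aux hL7 hL8 h hp hf hF e hl h3)
  · exact Or.inr (eight_aux hL7 hL8 h.symm hp hf hF e hl h3)

end N3

/-- **`3 ≤ N ≤ 8`: one factor contains the stabiliser of a nonsingular vector** (in `G`-form) -/
theorem top_small (hL3 : L3) (hL4 : L4) (hL5 : L5) (hL6 : L6) (hL7 : L7) (hL8 : L8) (h : Fac T X Y) (hp : p.Prime)
    (hf : 1 ≤ f) (hF : Fintype.card F = (p ^ f) ^ 2) (hN : 3 ≤ N) (hN8 : N ≤ 8) (e : T ≃* PSU N F (p ^ f)) :
    (Even N ∧ 4 ≤ N) ∧ ((∃ w, ResW e X w) ∨ ∃ w, ResW e Y w) := by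
  obtain rfl | rfl | rfl | rfl | rfl | rfl : N = 3 ∨ N = 4 ∨ N = 5 ∨ N = 6 ∨ N = 7 ∨ N = 8 := by omega
  · exact (three hL3 h hF e).elim
  · exact ⟨⟨by decide, by norm_num⟩, four hL3 hL4 h hp hf hF e⟩
  · exact (five hL5 h hF e).elim
  · exact ⟨⟨by decide, by norm_num⟩, six hL5 hL6 h hp hf hF e⟩
  · exact (seven hL7 h hF e).elim
  · exact ⟨⟨by decide, by norm_num⟩, eight hL7 hL8 h hp hf hF e⟩

end fac

end Cfsg.Agent.H533.Reg
end
end
end
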